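import Mathlib
import Cfsg.Agent.Base
import Cfsg.Agent.Lib.Core.CoprimeAbelian
import Cfsg.Agent.Lib.Core.Frattini
import Cfsg.Agent.Lib.PGroup.Basic

/-!
The `p`-logarithm of the order of a subgroup, sectional rank, and small commutator facts.
-/

set_option autoImplicit false

namespace H93.R3

open Subgroup H2
open scoped commutatorElement Pointwise

local notation:max "𝐍(" A ")" => Subgroup.normalizer (SetLike.coe A)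
local notation:max "𝐂(" A ")" => Subgroup.centralizer (SetLike.coe A)

variable {Γ : Type*} [Group Γ] {p : ℕ} {S A B X Y Z U V : Subgroup Γ} {a b g x y : Γ}

/-- The exponent of `p` in the order of `X`. -/
noncomputable def lg (p : ℕ) (X : Subgroup Γ) : ℕ := padicValNat p (Nat.card X)

/-- The conjugate `g X g⁻¹`. -/
abbrev cn (g : Γ) (X : Subgroup Γ) : Subgroup Γ := MulAut.conj g • X

/-- The Frattini subgroup of `X`. -/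
abbrev ph (X : Subgroup Γ) : Subgroup Γ := (frattini X).map X.subtype

/-- The elements of order dividing `p` in the centre of `X`. -/
def om (p : ℕ) (X : Subgroup Γ) : Subgroup Γ where
  carrier := {x | x ∈ X ∧ x ∈ 𝐂(X) ∧ x ^ p = 1}
  one_mem' := ⟨one_mem _, one_mem _, one_pow _⟩
  mul_mem' := fun {a b} ha hb => ⟨mul_mem ha.1 hb.1, mul_mem ha.2.1 hb.2.1, by
    rw [Commute.mul_pow (hb.2.1 a ha.1), ha.2.2, hb.2.2, one_mul]⟩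
  inv_mem' := fun {a} ha => ⟨inv_mem ha.1, inv_mem ha.2.1, by rw [inv_pow, ha.2.2, inv_one]⟩

/-- The subgroup generated by the `p`-th powers. -/
def mho (p : ℕ) (X : Subgroup Γ) : Subgroup Γ := closure {y | ∃ x ∈ X, y = x ^ p}

/-- The elements normalizing `U` that fix `a` modulo `U`. -/
def cz (a : Γ) (U : Subgroup Γ) : Subgroup Γ where
  carrier := {x | x ∈ 𝐍(U) ∧ ⁅x, a⁆ ∈ U}
  one_mem' := ⟨one_mem _, by simp⟩
  mul_mem' := fun {x y} hx hy => ⟨mul_mem hx.1 hy.1, by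
    have : ⁅x * y, a⁆ = x * ⁅y, a⁆ * x⁻¹ * ⁅x, a⁆ := by simp only [commutatorElement_def]; group
    rw [this]
    exact mul_mem ((mem_normalizer_iff.1 hx.1 _).1 hy.2) hx.2⟩
  inv_mem' := fun {x} hx => ⟨inv_mem hx.1, by
    have : ⁅x⁻¹, a⁆ = x⁻¹ * ⁅x, a⁆⁻¹ * x⁻¹⁻¹ := by simp only [commutatorElement_def]; group
    rw [this]
    exact (mem_normalizer_iff.1 (inv_mem hx.1) _).1 (inv_mem hx.2)⟩

/-- `X` is elementary abelian. -/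
structure EA (p : ℕ) (X : Subgroup Γ) : Prop where
  comm : X ≤ 𝐂(X)
  pow : ∀ x ∈ X, x ^ p = 1

/-- `X / Y` is elementary abelian. -/
structure EQ (p : ℕ) (X Y : Subgroup Γ) : Prop where
  le : Y ≤ X
  comm : ⁅X, X⁆ ≤ Y
  pow : ∀ x ∈ X, x ^ p ∈ Y

/-- Sectional rank at most `k`. -/
def SR (p k : ℕ) (S : Subgroup Γ) : Prop := ∀ X Y, X ≤ S → EQ p X Y → lg p X ≤ lg p Y + k

/-- `g` acts on `X` modulo `Y` as the `k`-th power map. -/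
def Ev (g : Γ) (X Y : Subgroup Γ) (k : ℤ) : Prop := ∀ x ∈ X, g * x * g⁻¹ * (x ^ k)⁻¹ ∈ Y

theorem mem_cn : x ∈ cn g X ↔ g⁻¹ * x * g ∈ X := H1.mem_conj_smul_iff
theorem conj_mem_cn (h : x ∈ X) : g * x * g⁻¹ ∈ cn g X := H1.conj_mem_conj_smul h
theorem cn_eq_iff : cn g X = X ↔ g ∈ 𝐍(X) := H1.mem_normalizer_iff_conj_smul_eq.symm
theorem cn_eq (h : g ∈ 𝐍(X)) : cn g X = X := cn_eq_iff.2 h
theorem cn_mono (h : X ≤ Y) : cn g X ≤ cn g Y := fun _ hx => mem_cn.2 (h (mem_cn.1 hx))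
theorem cn_le (h : X ≤ Y) (hg : g ∈ 𝐍(Y)) : cn g X ≤ Y := cn_eq hg ▸ cn_mono h
theorem cn_le_iff : cn g X ≤ Y ↔ ∀ x ∈ X, g * x * g⁻¹ ∈ Y :=
  ⟨fun h _ hx => h (conj_mem_cn hx), fun h y hy => by simpa [mul_assoc] using h _ (mem_cn.1 hy)⟩
theorem cn_inf : cn g (X ⊓ Y) = cn g X ⊓ cn g Y := by ext; simp only [mem_cn, mem_inf]
theorem cn_cn (g h : Γ) : cn g (cn h X) = cn (g * h) X := H1.conj_smul_conj_smul g h X
theorem cn_comm : cn g ⁅X, Y⁆ = ⁅cn g X, cn g Y⁆ := map_commutator _ _ _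
theorem cn_sup : cn g (X ⊔ Y) = cn g X ⊔ cn g Y := Subgroup.map_sup _ _ _
theorem cn_cent : 𝐂(cn g X) = cn g 𝐂(X) := H1.centralizer_conj_smul g X
theorem cn_norm : 𝐍(cn g X) = cn g 𝐍(X) := H1.normalizer_conj_smul g X
theorem cn_inv_cn : cn g⁻¹ (cn g X) = X := H1.conj_inv_smul_conj_smul g X
theorem cn_cn_inv : cn g (cn g⁻¹ X) = X := H1.conj_smul_conj_inv_smul g X

theorem conj_mem (hg : g ∈ 𝐍(X)) (hx : x ∈ X) : g * x * g⁻¹ ∈ X := (mem_normalizer_iff.1 hg x).1 hx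
theorem conj_mem' (hg : g ∈ 𝐍(X)) (hx : x ∈ X) : g⁻¹ * x * g ∈ X := by
  simpa using conj_mem (inv_mem hg) hx
theorem mem_of_conj (hg : g ∈ 𝐍(X)) (hx : g * x * g⁻¹ ∈ X) : x ∈ X :=
  (mem_normalizer_iff.1 hg x).2 hx

theorem mem_of_div (h : x * y⁻¹ ∈ X) (hy : y ∈ X) : x ∈ X := by simpa using mul_mem h hy
theorem mem_of_mul (h : x * y ∈ X) (hy : y ∈ X) : x ∈ X := by simpa using mul_mem h (inv_mem hy)
theorem mem_of_mul' (h : x * y ∈ X) (hx : x ∈ X) : y ∈ X := by simpa using mul_mem (inv_mem hx) h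

theorem mem_norm [Finite Γ] (h : ∀ x ∈ X, g * x * g⁻¹ ∈ X) : g ∈ 𝐍(X) :=
  mem_normalizer_fintype h

theorem le_norm [Finite Γ] (h : ∀ g ∈ A, ∀ x ∈ X, g * x * g⁻¹ ∈ X) : A ≤ 𝐍(X) :=
  fun g hg => mem_norm (h g hg)

theorem comm_mem_r (hg : g ∈ 𝐍(X)) (hx : x ∈ X) : ⁅g, x⁆ ∈ X :=
  mul_mem (conj_mem hg hx) (inv_mem hx)
theorem comm_inv (a b : Γ) : ⁅a, b⁆⁻¹ = ⁅b, a⁆ := commutatorElement_inv a b
theorem comm_symm (h : ⁅a, b⁆ ∈ X) : ⁅b, a⁆ ∈ X := comm_inv a b ▸ inv_mem h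
theorem comm_mem_l (hg : g ∈ 𝐍(X)) (hx : x ∈ X) : ⁅x, g⁆ ∈ X := comm_symm (comm_mem_r hg hx)
theorem comm_le_r (h : A ≤ 𝐍(X)) : ⁅A, X⁆ ≤ X :=
  commutator_le.2 fun _ ha _ hx => comm_mem_r (h ha) hx
theorem comm_le_l (h : A ≤ 𝐍(X)) : ⁅X, A⁆ ≤ X := commutator_comm A X ▸ comm_le_r h
theorem comm_le_symm (h : ⁅A, X⁆ ≤ Y) : ⁅X, A⁆ ≤ Y := commutator_comm A X ▸ h
theorem comm_mem (h : ⁅A, X⁆ ≤ Y) (ha : a ∈ A) (hx : x ∈ X) : ⁅a, x⁆ ∈ Y :=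
  h (commutator_mem_commutator ha hx)
theorem comm_le_bot : ⁅A, X⁆ ≤ ⊥ ↔ A ≤ 𝐂(X) := by
  rw [le_bot_iff, commutator_eq_bot_iff_le_centralizer]
theorem cent_symm (h : A ≤ 𝐂(X)) : X ≤ 𝐂(A) := le_centralizer_iff.1 h
theorem comm_eq_one (hx : x ∈ 𝐂(X)) (hy : y ∈ X) : ⁅x, y⁆ = 1 :=
  commutatorElement_eq_one_iff_mul_comm.2 (hx y hy).symm
theorem comm_eq_one' (hx : x ∈ 𝐂(X)) (hy : y ∈ X) : ⁅y, x⁆ = 1 :=
  commutatorElement_eq_one_iff_mul_comm.2 (hx y hy)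
theorem mem_cent (h : ∀ y ∈ X, ⁅x, y⁆ = 1) : x ∈ 𝐂(X) := fun y hy =>
  (commutatorElement_eq_one_iff_mul_comm.1 (h y hy)).symm
theorem mem_cent' (h : ∀ y ∈ X, ⁅y, x⁆ = 1) : x ∈ 𝐂(X) := fun y hy =>
  commutatorElement_eq_one_iff_mul_comm.1 (h y hy)
theorem conj_eq (hg : g ∈ 𝐂(X)) (hx : x ∈ X) : g * x * g⁻¹ = x := by
  rw [← hg x hx]; simp
theorem cent_le_norm (X : Subgroup Γ) : 𝐂(X) ≤ 𝐍(X) := centralizer_le_normalizer _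
theorem cent_anti (h : X ≤ Y) : 𝐂(Y) ≤ 𝐂(X) := centralizer_le h
theorem cent_sup (h : A ≤ 𝐂(X)) (h' : A ≤ 𝐂(Y)) : A ≤ 𝐂(X ⊔ Y) :=
  cent_symm (sup_le (cent_symm h) (cent_symm h'))
theorem mem_cent_zpowers : x ∈ 𝐂(zpowers y) ↔ ⁅x, y⁆ = 1 :=
  ⟨fun h => comm_eq_one h (mem_zpowers y), fun h => by
    rintro _ ⟨k, rfl⟩
    exact ((commutatorElement_eq_one_iff_commute.1 h).zpow_right k).symm.eq⟩
theorem cent_zpowers : A ≤ 𝐂(zpowers y) ↔ y ∈ 𝐂(A) := by rw [le_centralizer_iff, zpowers_le]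

theorem norm_of_comm_le [Finite Γ] (h : ⁅A, X⁆ ≤ X) : A ≤ 𝐍(X) := le_norm fun g hg x hx => by
  simpa [commutatorElement_def] using mul_mem (comm_mem h hg hx) hx
theorem norm_between [Finite Γ] (h : ⁅A, X⁆ ≤ Y) (h1 : Y ≤ Z) (h2 : Z ≤ X) : A ≤ 𝐍(Z) :=
  norm_of_comm_le ((commutator_mono le_rfl h2).trans (h.trans h1))
theorem norm_inf (h : A ≤ 𝐍(X)) (h' : A ≤ 𝐍(Y)) : A ≤ 𝐍(X ⊓ Y) := fun g hg =>
  cn_eq_iff.1 (by rw [cn_inf, cn_eq (h hg), cn_eq (h' hg)])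
theorem norm_sup (h : A ≤ 𝐍(X)) (h' : A ≤ 𝐍(Y)) : A ≤ 𝐍(X ⊔ Y) := fun g hg =>
  cn_eq_iff.1 (by rw [cn_sup, cn_eq (h hg), cn_eq (h' hg)])
theorem norm_comm (h : A ≤ 𝐍(X)) (h' : A ≤ 𝐍(Y)) : A ≤ 𝐍(⁅X, Y⁆) := fun g hg =>
  cn_eq_iff.1 (by rw [cn_comm, cn_eq (h hg), cn_eq (h' hg)])
theorem norm_cent (h : A ≤ 𝐍(X)) : A ≤ 𝐍(𝐂(X)) := fun g hg =>
  cn_eq_iff.1 (by rw [← cn_cent, cn_eq (h hg)])
theorem norm_norm (h : A ≤ 𝐍(X)) : A ≤ 𝐍(𝐍(X)) := fun g hg =>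
  cn_eq_iff.1 (by rw [← cn_norm, cn_eq (h hg)])
theorem norm_ph (h : A ≤ 𝐍(X)) : A ≤ 𝐍(ph X) := le_normalizer_map_subtype_of_characteristic h _
theorem norm_bot (A : Subgroup Γ) : A ≤ 𝐍((⊥ : Subgroup Γ)) := le_normalizer_of_normal
theorem norm_self (h : A ≤ X) : A ≤ 𝐍(X) := h.trans le_normalizer
theorem norm_cn (h : A ≤ 𝐍(X)) (hg : g ∈ 𝐍(A)) : A ≤ 𝐍(cn g X) := by
  rw [cn_norm, ← cn_eq hg]; exact cn_mono h
theorem norm_of_cent (h : A ≤ 𝐂(X)) (h' : Y ≤ X) : A ≤ 𝐍(Y) :=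
  h.trans ((cent_anti h').trans (cent_le_norm Y))

theorem conj_comm (g a b : Γ) : g * ⁅a, b⁆ * g⁻¹ = ⁅g * a * g⁻¹, g * b * g⁻¹⁆ := by
  simp only [commutatorElement_def]; group

theorem mem_rc : g ∈ relCentralizer X Y ↔ g ∈ 𝐍(Y) ∧ ∀ z ∈ X, ⁅g, z⁆ ∈ Y := Iff.rfl
theorem le_rc (h : A ≤ 𝐍(Y)) (h' : ⁅A, X⁆ ≤ Y) : A ≤ relCentralizer X Y :=
  le_relCentralizer_iff.2 ⟨h, h'⟩
theorem comm_le_of_rc (h : A ≤ relCentralizer X Y) : ⁅A, X⁆ ≤ Y := (le_relCentralizer_iff.1 h).2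
theorem rc_bot : relCentralizer X ⊥ = 𝐂(X) := by
  ext g
  exact ⟨fun h => mem_cent fun y hy => mem_bot.1 (h.2 y hy),
    fun h => ⟨norm_bot ⊤ (mem_top g), fun z hz => mem_bot.2 (comm_eq_one h hz)⟩⟩
theorem norm_rc [Finite Γ] (h : A ≤ 𝐍(X)) (h' : A ≤ 𝐍(Y)) : A ≤ 𝐍(relCentralizer X Y) :=
  le_norm fun g hg x hx => ⟨conj_mem (norm_norm h' hg) hx.1, fun z hz => by
    have := conj_mem (h' hg) (hx.2 _ (conj_mem' (h hg) hz))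
    rw [conj_comm] at this
    simpa [mul_assoc] using this⟩

theorem mem_om : x ∈ om p X ↔ x ∈ X ∧ x ∈ 𝐂(X) ∧ x ^ p = 1 := Iff.rfl
theorem om_le : om p X ≤ X := fun _ h => h.1
theorem om_cent : om p X ≤ 𝐂(X) := fun _ h => h.2.1
theorem cent_om : X ≤ 𝐂(om p X) := cent_symm om_cent
theorem ea_om : EA p (om p X) := ⟨om_cent.trans (cent_anti om_le), fun _ h => h.2.2⟩
theorem norm_om [Finite Γ] (h : A ≤ 𝐍(X)) : A ≤ 𝐍(om p X) := le_norm fun g hg x hx =>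
  ⟨conj_mem (h hg) hx.1, conj_mem (norm_cent h hg) hx.2.1, by rw [conj_pow, hx.2.2]; simp⟩
theorem EA.le_om (h : EA p X) (h1 : X ≤ Y) (h2 : X ≤ 𝐂(Y)) : X ≤ om p Y := fun x hx =>
  ⟨h1 hx, h2 hx, h.pow x hx⟩
theorem cn_om : cn g (om p X) = om p (cn g X) := by
  ext x
  simp only [mem_cn, mem_om, cn_cent]
  rw [show g⁻¹ * x * g = g⁻¹ * x * g⁻¹⁻¹ by simp, conj_pow, conj_eq_one_iff]

theorem mho_le : mho p X ≤ Y ↔ ∀ x ∈ X, x ^ p ∈ Y := by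
  rw [mho, closure_le]
  exact ⟨fun h x hx => h ⟨x, hx, rfl⟩, by rintro h _ ⟨x, hx, rfl⟩; exact h x hx⟩
theorem pow_mem_mho (h : x ∈ X) : x ^ p ∈ mho p X := mho_le.1 le_rfl x h
theorem mho_le_self : mho p X ≤ X := mho_le.2 fun _ hx => pow_mem hx _
theorem mho_mono (h : X ≤ Y) : mho p X ≤ mho p Y := mho_le.2 fun _ hx => pow_mem_mho (h hx)
theorem norm_mho [Finite Γ] (h : A ≤ 𝐍(X)) : A ≤ 𝐍(mho p X) := fun g hg => mem_norm <|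
  cn_le_iff.1 <| map_le_iff_le_comap.2 <| mho_le.2 fun x hx => by
    show g * x ^ p * g⁻¹ ∈ mho p X
    rw [← conj_pow]; exact pow_mem_mho (conj_mem (h hg) hx)

theorem mem_cz : x ∈ cz a U ↔ x ∈ 𝐍(U) ∧ ⁅x, a⁆ ∈ U := Iff.rfl

theorem EA.mono (h : EA p X) (h' : Y ≤ X) : EA p Y :=
  ⟨h'.trans (h.comm.trans (cent_anti h')), fun x hx => h.pow x (h' hx)⟩
theorem EA.eq (h : EA p X) : EQ p X ⊥ :=
  ⟨bot_le, comm_le_bot.2 h.comm, fun x hx => mem_bot.2 (h.pow x hx)⟩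
theorem EQ.ea (h : EQ p X ⊥) : EA p X :=
  ⟨comm_le_bot.1 h.comm, fun x hx => mem_bot.1 (h.pow x hx)⟩
theorem EA.cn (h : EA p X) (g : Γ) : EA p (cn g X) :=
  ⟨by rw [cn_cent]; exact cn_mono h.comm, fun x hx => by
    have := h.pow _ (mem_cn.1 hx)
    rwa [show g⁻¹ * x * g = g⁻¹ * x * g⁻¹⁻¹ by simp, conj_pow, conj_eq_one_iff] at this⟩
theorem mem_sup_iff (h : Y ≤ 𝐍(X)) : x ∈ X ⊔ Y ↔ ∃ a ∈ X, ∃ b ∈ Y, x = a * b := by
  rw [← SetLike.mem_coe, coe_mul_of_right_le_normalizer_left X Y h]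
  exact ⟨fun ⟨a, ha, b, hb, e⟩ => ⟨a, ha, b, hb, e.symm⟩, fun ⟨a, ha, b, hb, e⟩ => ⟨a, ha, b, hb, e.symm⟩⟩
theorem mem_sup_iff' (h : X ≤ 𝐍(Y)) : x ∈ X ⊔ Y ↔ ∃ a ∈ X, ∃ b ∈ Y, x = a * b := by
  rw [← SetLike.mem_coe, coe_mul_of_left_le_normalizer_right X Y h]
  exact ⟨fun ⟨a, ha, b, hb, e⟩ => ⟨a, ha, b, hb, e.symm⟩, fun ⟨a, ha, b, hb, e⟩ => ⟨a, ha, b, hb, e.symm⟩⟩
theorem pow_sup (hX : ∀ x ∈ X, x ^ p = 1) (hY : ∀ x ∈ Y, x ^ p = 1) (h : X ≤ 𝐂(Y)) :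
    ∀ x ∈ X ⊔ Y, x ^ p = 1 := fun x hx => by
  obtain ⟨a, ha, b, hb, rfl⟩ := (mem_sup_iff' (h.trans (cent_le_norm Y))).1 hx
  rw [Commute.mul_pow (h ha b hb).symm, hX a ha, hY b hb, one_mul]
theorem comm_sup (hX : X ≤ 𝐂(X)) (hY : Y ≤ 𝐂(Y)) (h : X ≤ 𝐂(Y)) : X ⊔ Y ≤ 𝐂(X ⊔ Y) :=
  sup_le (cent_sup hX h) (cent_sup (cent_symm h) hY)
theorem comm_zpowers (x : Γ) : zpowers x ≤ 𝐂(zpowers x) :=
  zpowers_le.2 (mem_cent_zpowers.2 (by simp))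
theorem EA.sup (hX : EA p X) (hY : EA p Y) (h : X ≤ 𝐂(Y)) : EA p (X ⊔ Y) :=
  ⟨comm_sup hX.comm hY.comm h, pow_sup hX.pow hY.pow h⟩
theorem ea_zpowers (h : x ^ p = 1) : EA p (zpowers x) := ⟨comm_zpowers x, by
  rintro _ ⟨k, rfl⟩
  show (x ^ k) ^ p = 1
  rw [← zpow_natCast, ← zpow_mul, mul_comm, zpow_mul, zpow_natCast, h, one_zpow]⟩
theorem EQ.norm [Finite Γ] (h : EQ p X Y) (h1 : Y ≤ Z) (h2 : Z ≤ X) : X ≤ 𝐍(Z) :=
  norm_between h.comm h1 h2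
theorem EQ.mono (h : EQ p X Y) (h1 : Y ≤ Z) (h2 : Z ≤ U) (h3 : U ≤ X) : EQ p U Z :=
  ⟨h2, (commutator_mono h3 h3).trans (h.comm.trans h1), fun x hx => h1 (h.pow x (h3 hx))⟩

theorem le_of_not_mem {G H M : Subgroup Γ} (h : ¬ G ≤ H) (h' : ∀ g ∈ G, g ∉ H → g ∈ M) : G ≤ M := by
  obtain ⟨a, ha, ha'⟩ := SetLike.not_le_iff_exists.1 h
  intro g hg
  by_cases hH : g ∈ H
  · simpa using mul_mem (h' _ (mul_mem hg ha) fun e => ha' (by simpa using mul_mem (inv_mem hH) e))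
      (inv_mem (h' a ha ha'))
  · exact h' g hg hH

theorem mem_of_pow_coprime {n m : ℕ} (hn : x ^ n ∈ X) (hm : x ^ m ∈ X) (h : n.Coprime m) : x ∈ X := by
  have := mul_mem (zpow_mem hn (Nat.gcdA n m)) (zpow_mem hm (Nat.gcdB n m))
  rwa [← zpow_natCast, ← zpow_natCast, ← zpow_mul, ← zpow_mul, ← zpow_add, ← Nat.gcd_eq_gcd_ab, h,
    Nat.cast_one, zpow_one] at this

theorem SR.mono {k : ℕ} (h : SR p k S) (h' : X ≤ S) : SR p k X := fun _ _ h1 => h _ _ (h1.trans h')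

variable [Finite Γ] [hp : Fact p.Prime]

theorem card_eq (h : IsPGroup p X) : Nat.card X = p ^ lg p X := by
  obtain ⟨k, hk⟩ := IsPGroup.iff_card.1 h
  rw [lg, hk, padicValNat.prime_pow]

omit [Finite Γ] in
theorem lg_of_card {k : ℕ} (h : Nat.card X = p ^ k) : lg p X = k := by
  rw [lg, h, padicValNat.prime_pow]

theorem lg_add {Γ₁ Γ₂ : Type*} [Group Γ₁] [Group Γ₂] [Finite Γ₁] [Finite Γ₂] {X : Subgroup Γ₁}
    {Y : Subgroup Γ₂} {n : ℕ} (h : Nat.card X * Nat.card Y = n) :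
    lg p X + lg p Y = padicValNat p n := by
  rw [← h, padicValNat.mul Nat.card_pos.ne' Nat.card_pos.ne', lg, lg]

theorem lg_mono (h : X ≤ Y) : lg p X ≤ lg p Y :=
  (padicValNat_dvd_iff_le Nat.card_pos.ne').1 (pow_padicValNat_dvd.trans (card_dvd_of_le h))

theorem le_of_lg (hY : IsPGroup p Y) (h : X ≤ Y) (h' : lg p Y ≤ lg p X) : Y ≤ X :=
  (eq_of_le_of_card_ge h (by
    rw [card_eq hY, card_eq (hY.to_le h)]; exact Nat.pow_le_pow_right hp.out.pos h')).ge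

theorem eq_of_lg (hY : IsPGroup p Y) (h : X ≤ Y) (h' : lg p Y ≤ lg p X) : X = Y :=
  le_antisymm h (le_of_lg hY h h')

theorem lg_lt (hY : IsPGroup p Y) (h : X ≤ Y) (h' : ¬ Y ≤ X) : lg p X < lg p Y :=
  lt_of_not_ge fun e => h' (le_of_lg hY h e)

theorem lg_lt_of_mem (hY : IsPGroup p Y) (h : X ≤ Y) (hx : x ∈ Y) (hx' : x ∉ X) :
    lg p X < lg p Y := lg_lt hY h fun e => hx' (e hx)

theorem lg_inf_lt (hY : IsPGroup p Y) (h : ¬ Y ≤ X) : lg p (X ⊓ Y) < lg p Y :=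
  lg_lt hY inf_le_right fun e => h (e.trans inf_le_left)

theorem lg_inf_lt' (hY : IsPGroup p Y) (h : ¬ Y ≤ X) : lg p (Y ⊓ X) < lg p Y :=
  inf_comm X Y ▸ lg_inf_lt hY h

omit [Finite Γ] in
theorem lg_bot : lg p (⊥ : Subgroup Γ) = 0 := lg_of_card (by simp)

theorem lg_pos (hX : IsPGroup p X) (h : X ≠ ⊥) : 0 < lg p X :=
  lg_bot (Γ := Γ) (p := p) ▸ lg_lt hX bot_le fun e => h (le_bot_iff.1 e)

theorem eq_bot_of_lg (hX : IsPGroup p X) (h : lg p X = 0) : X = ⊥ := by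
  by_contra e
  exact (lg_pos hX e).ne' h

theorem lg_sup (h : X ≤ 𝐍(Y)) : lg p (X ⊔ Y) + lg p (X ⊓ Y) = lg p X + lg p Y :=
  (lg_add (H1.card_sup_mul_card_inf_of_le_normalizer h)).trans (lg_add rfl).symm

theorem lg_sup' (h : Y ≤ 𝐍(X)) : lg p (X ⊔ Y) + lg p (X ⊓ Y) = lg p X + lg p Y := by
  rw [sup_comm, inf_comm, lg_sup h, add_comm]

theorem lg_map {Γ' : Type*} [Group Γ'] [Finite Γ'] (f : Γ →* Γ') (X : Subgroup Γ) :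
    lg p (X.map f) + lg p (f.ker ⊓ X) = lg p X := lg_add (H1.card_map_mul_card_inf_ker f X)

omit [Finite Γ] hp in
theorem lg_cn : lg p (cn g X) = lg p X := by rw [lg, H1.card_conj_smul, lg]

theorem lg_rel (h : Y ≤ X) : lg p Y + padicValNat p (Y.relIndex X) = lg p X := by
  rw [lg, lg, ← H1.card_mul_relIndex_of_le h, padicValNat.mul (b := Y.relIndex X)
    Nat.card_pos.ne' (FiniteIndex.index_ne_zero (H := Y.subgroupOf X))]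

theorem relIndex_eq (hX : IsPGroup p X) (h : Y ≤ X) {k : ℕ} (e : lg p Y + k = lg p X) :
    Y.relIndex X = p ^ k := Nat.eq_of_mul_eq_mul_left (Nat.card_pos (α := Y)) (by
  rw [H1.card_mul_relIndex_of_le h, card_eq hX, card_eq (hX.to_le h), ← pow_add, e])

theorem lg_inf (hS : IsPGroup p S) (hX : X ≤ S) (hY : Y ≤ S) :
    lg p X + lg p Y ≤ lg p S + lg p (X ⊓ Y) := by
  have h1 := H1.card_mul_set_mul_card_inf X Y
  have h2 : Nat.card ((X : Set Γ) * (Y : Set Γ) : Set Γ) ≤ Nat.card S :=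
    Nat.card_mono (Set.toFinite _) (by rintro _ ⟨a, ha, b, hb, rfl⟩; exact mul_mem (hX ha) (hY hb))
  rw [← Nat.pow_le_pow_iff_right hp.out.one_lt, pow_add, pow_add, ← card_eq hS,
    ← card_eq (hS.to_le hX), ← card_eq (hS.to_le hY), ← card_eq (hS.to_le (inf_le_left.trans hX)),
    ← h1]
  exact Nat.mul_le_mul_right _ h2

theorem lg_sup_zpowers (hx : x ∈ 𝐍(X)) (h : x ^ p ∈ X) (h' : x ∉ X) :
    lg p (X ⊔ zpowers x) = lg p X + 1 := by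
  rw [lg, H5.card_sup_zpowers hp.out hx h' h, padicValNat.mul Nat.card_pos.ne' hp.out.ne_zero,
    padicValNat_self, lg]

theorem lg_sup_zpowers_le (hx : x ∈ 𝐍(X)) (h : x ^ p ∈ X) : lg p (X ⊔ zpowers x) ≤ lg p X + 1 := by
  by_cases h' : x ∈ X
  · rw [sup_eq_left.2 (zpowers_le.2 h')]; omega
  · exact (lg_sup_zpowers hx h h').le

theorem lg_zpowers (h : x ^ p = 1) (h' : x ≠ 1) : lg p (zpowers x) = 1 := by
  have := lg_sup_zpowers (X := ⊥) (norm_bot ⊤ (mem_top x)) h h'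
  rwa [bot_sup_eq, lg_bot] at this

theorem lg_zpowers_le (h : x ^ p = 1) : lg p (zpowers x) ≤ 1 := by
  have := lg_sup_zpowers_le (X := ⊥) (norm_bot ⊤ (mem_top x)) h
  rwa [bot_sup_eq, lg_bot] at this

theorem le_sup_of_lg (hX : IsPGroup p X) (h : Y ≤ X) (e : lg p X ≤ lg p Y + 1) (hZ : Z ≤ X)
    (hZ' : ¬ Z ≤ Y) : X ≤ Y ⊔ Z :=
  le_of_lg hX (sup_le h hZ) (e.trans (lg_lt (hX.to_le (sup_le h hZ)) le_sup_left
    fun e => hZ' (le_sup_right.trans e)))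

theorem le_sup_zpowers (hX : IsPGroup p X) (h : Y ≤ X) (e : lg p X ≤ lg p Y + 1) (hx : x ∈ X)
    (hx' : x ∉ Y) : X ≤ Y ⊔ zpowers x :=
  le_sup_of_lg hX h e (zpowers_le.2 hx) fun e => hx' (zpowers_le.1 e)

/-- A subgroup containing `Y` of index at most `p` in `X` and a further element contains `X`. -/
theorem le_of_mem (hX : IsPGroup p X) (h : Y ≤ X) (e : lg p X ≤ lg p Y + 1) (hx : x ∈ X)
    (hx' : x ∉ Y) (h1 : Y ≤ U) (h2 : x ∈ U) : X ≤ U :=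
  (le_sup_zpowers hX h e hx hx').trans (sup_le h1 (zpowers_le.2 h2))

theorem le_or_le (hX : IsPGroup p X) (h : Y ≤ X) (e : lg p X ≤ lg p Y + 1) (h1 : Y ≤ U) :
    X ⊓ U ≤ Y ∨ X ≤ U := by
  refine or_iff_not_imp_left.2 fun h2 => ?_
  obtain ⟨x, hx, hx'⟩ := SetLike.not_le_iff_exists.1 h2
  exact le_of_mem hX h e hx.1 hx' h1 hx.2

theorem inf_eq_bot (hX : IsPGroup p X) (e : lg p X ≤ 1) (h : ¬ X ≤ U) : X ⊓ U = ⊥ :=
  le_bot_iff.1 ((le_or_le hX bot_le (by rw [lg_bot]; omega) bot_le).resolve_right h)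

theorem le_of_ne_one (hX : IsPGroup p X) (e : lg p X ≤ 1) (hx : x ∈ X) (h1 : x ≠ 1) (h2 : x ∈ U) :
    X ≤ U := le_of_mem hX bot_le (by rw [lg_bot]; omega) hx h1 bot_le h2

theorem comm_le_of_lg (hS : IsPGroup p S) (hX : X ≤ S) (h : Y ≤ X) (e : lg p X ≤ lg p Y + 1)
    (n1 : S ≤ 𝐍(X)) (n2 : S ≤ 𝐍(Y)) : ⁅S, X⁆ ≤ Y := by
  by_cases h1 : X ≤ Y
  · exact (comm_le_r n1).trans h1
  obtain ⟨x, hx, hx', -, h2⟩ := H5.exists_step_of_le hS Y hX n1 h1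
  exact comm_le_symm (comm_le_of_rc (le_of_mem (hS.to_le hX) h e hx hx'
    (le_rc (h.trans (hX.trans n2)) (comm_le_l n2)) ⟨n2 (hX hx), h2⟩))

theorem norm_of_lg (hS : IsPGroup p S) (h : Y ≤ S) (e : lg p S ≤ lg p Y + 1) : S ≤ 𝐍(Y) := by
  rcases h.eq_or_lt with rfl | h1
  · exact le_normalizer
  obtain ⟨x, hx, hx', -, h2⟩ := H5.exists_mem_normalizer_of_lt hS h1
  exact le_of_mem hS h e hx hx' le_normalizer h2

theorem cent_of_lg (hS : IsPGroup p S) (hX : X ≤ S) (e : lg p X ≤ 1) (n1 : S ≤ 𝐍(X)) :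
    S ≤ 𝐂(X) := comm_le_bot.1 (comm_le_of_lg hS hX bot_le (by rw [lg_bot]; omega) n1 (norm_bot _))

theorem pow_mem_of_lg (hS : IsPGroup p S) (h : Y ≤ S) (e : lg p S ≤ lg p Y + 1) (hx : x ∈ S) :
    x ^ p ∈ Y := by
  by_cases h1 : x ∈ Y
  · exact pow_mem h1 p
  have h2 := lg_lt_of_mem hS h hx h1
  have := normal_subgroupOf_of_le_normalizer (norm_of_lg hS h e)
  have h3 := (Y.subgroupOf S).pow_index_mem ⟨x, hx⟩
  rwa [← relIndex, relIndex_eq hS h (k := 1) (by omega), pow_one] at h3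

theorem eq_of_index (hS : IsPGroup p S) (h : Y ≤ S) (e : lg p S ≤ lg p Y + 1) : EQ p S Y :=
  ⟨h, comm_le_of_lg hS le_rfl h e le_normalizer (norm_of_lg hS h e),
    fun _ hx => pow_mem_of_lg hS h e hx⟩

theorem ph_le (hX : IsPGroup p X) : ph X ≤ Y ↔ ⁅X, X⁆ ≤ Y ∧ ∀ x ∈ X, x ^ p ∈ Y :=
  H1.map_subtype_frattini_le_iff hX
omit [Finite Γ] hp in
theorem ph_le_self : ph X ≤ X := map_subtype_le _
theorem eq_ph (hX : IsPGroup p X) : EQ p X (ph X) :=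
  ⟨ph_le_self, ((ph_le hX).1 le_rfl).1, ((ph_le hX).1 le_rfl).2⟩
theorem EQ.ph_le (h : EQ p X Y) (hX : IsPGroup p X) : ph X ≤ Y := (R3.ph_le hX).2 ⟨h.comm, h.pow⟩
theorem ph_mono (hX : IsPGroup p X) (h : Y ≤ X) : ph Y ≤ ph X :=
  H1.map_subtype_frattini_mono_of_isPGroup hX h
omit hp in
theorem le_of_ph (h : Y ≤ X) (h' : X ≤ ph X ⊔ Y) : X ≤ Y := (eq_of_sup_frattini h h').ge
omit hp in
theorem eq_bot_of_ph (h : X ≤ ph X) : X = ⊥ :=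
  le_bot_iff.1 (le_of_ph bot_le (h.trans le_sup_left))
theorem ea_of_ph (hX : IsPGroup p X) (h : ph X = ⊥) : EA p X := (h ▸ eq_ph hX).ea

theorem SR.ea {k : ℕ} (h : SR p k S) (hX : X ≤ S) (e : EA p X) : lg p X ≤ k := by
  simpa [lg_bot] using h X ⊥ hX e.eq

theorem om_ne_bot (hS : IsPGroup p S) (hX : X ≤ S) (hn : S ≤ 𝐍(X)) (h : X ≠ ⊥) :
    X ⊓ om p S ≠ ⊥ := fun e => by
  obtain ⟨z, h1, h2, h3⟩ := H5.exists_mem_centralizer_orderOf_eq hS hX hn h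
  have : z ∈ X ⊓ om p S := ⟨h1, hX h1, h2, h3 ▸ pow_orderOf_eq_one z⟩
  rw [e, mem_bot] at this
  exact hp.out.one_lt.ne (by rw [← h3, this, orderOf_one])

theorem om_le_of (hS : IsPGroup p S) (e : lg p (om p S) ≤ 1) (hX : X ≤ S) (hn : S ≤ 𝐍(X))
    (h : X ≠ ⊥) : om p S ≤ X := by
  by_contra h1
  exact om_ne_bot hS hX hn h (inf_comm X _ ▸ inf_eq_bot (hS.to_le om_le) e h1)

theorem lg_cz (hX : IsPGroup p X) (hU : IsPGroup p U) (hV : V ≤ U) (hn : X ≤ 𝐍(V))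
    (h : ∀ x ∈ X, ⁅x, a⁆ ∈ U) : lg p X + lg p V ≤ lg p (X ⊓ cz a V) + lg p U := by
  have h1 : (X ⊓ cz a V).relIndex X ≤ V.relIndex U := by
    refine Nat.card_le_card_of_injective (Quotient.map' (fun x : X => (⟨⁅x.1, a⁆⁻¹,
      inv_mem (h x x.2)⟩ : U)) fun x y e => ?_) ?_
    · rw [QuotientGroup.leftRel_apply] at e ⊢
      have := conj_mem (hn x.2) (inv_mem e.2.2)
      refine mem_subgroupOf.2 ?_
      convert this using 1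
      simp only [commutatorElement_def, coe_mul, coe_inv, coe_subtype]; group
    · rintro ⟨x⟩ ⟨y⟩ e
      have e' := QuotientGroup.eq.1 e
      refine QuotientGroup.eq.2 ⟨(x⁻¹ * y).2, hn (x⁻¹ * y).2, ?_⟩
      have := inv_mem (conj_mem' (hn x.2) (mem_subgroupOf.1 e'))
      convert this using 1
      simp only [commutatorElement_def, coe_mul, coe_inv, coe_subtype]; group
  obtain ⟨i, hi⟩ := Nat.exists_eq_add_of_le (lg_mono (p := p) (inf_le_left : X ⊓ cz a V ≤ X))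
  obtain ⟨j, hj⟩ := Nat.exists_eq_add_of_le (lg_mono (p := p) hV)
  rw [relIndex_eq hX inf_le_left hi.symm, relIndex_eq hU hV hj.symm,
    Nat.pow_le_pow_iff_right hp.out.one_lt] at h1
  omega

theorem lg_comm (hX : IsPGroup p X) (hV : V ≤ 𝐍(U)) (hn : X ≤ 𝐍(U)) (h : X ≤ Y ⊔ zpowers x)
    (hV' : V ≤ Z ⊔ zpowers y) (h1 : ⁅Y, V⁆ ≤ U) (h2 : ⁅X, Z⁆ ≤ U) (hY : Y ≤ X) (hZ : Z ≤ V)
    (hx : x ∈ X) (hy : y ∈ V) (h3 : ⁅x, y⁆ ∈ U) : ⁅X, V⁆ ≤ U := by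
  refine comm_le_of_rc (h.trans (sup_le (le_rc (hY.trans hn) h1) (zpowers_le.2 ⟨hn hx, fun v hv => ?_⟩)))
  exact comm_symm (hV'.trans (sup_le (fun z hz => ⟨hV (hZ hz), comm_symm (comm_mem h2 hx hz)⟩)
    (zpowers_le.2 ⟨hV hy, comm_symm h3⟩) : _ ≤ cz x U) hv).2

theorem r3basic_eq_defs : True := by
  have := @lg.eq_1.{0}
  have := @cn.eq_1.{0}
  have := @ph.eq_1.{0}
  have := @om.eq_1.{0}
  have := @mho.eq_1.{0}
  have := @cz.eq_1.{0}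
  have := @SR.eq_1.{0}
  have := @Ev.eq_1.{0}
  trivial

end H93.R3
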