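import Mathlib
import Cfsg.Agent.Base
import Cfsg.Agent.Lib.R3.Basic
import Cfsg.Agent.Lib.Fusion.Transv

/-!
Groups of automorphisms of an elementary abelian group with Sylow `p`-subgroups of order `p`
containing a transvection.
-/

set_option autoImplicit false

namespace H93.R3

open Subgroup

variable {p : ℕ} {V : Type*} [CommGroup V] {τ σ : MulAut V} {z₀ z₁ : V}

theorem pow_apply_of_fix {α : MulAut V} {v : V} (h : α (v⁻¹ * α v) = v⁻¹ * α v) (k : ℕ) :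
    (α ^ k) v = v * (v⁻¹ * α v) ^ k := by
  induction k with
  | zero => simp
  | succ k ih =>
    rw [pow_succ', MulAut.mul_apply, ih, map_mul, map_pow, h, pow_succ', ← mul_assoc,
      mul_inv_cancel_left]

/-- The stabilizer of the chain `V ≥ U ≥ W ≥ 1`. -/
def st (U W : Subgroup V) (h : W ≤ U) : Subgroup (MulAut V) where
  carrier := {α | (∀ v, v⁻¹ * α v ∈ U) ∧ (∀ v ∈ U, v⁻¹ * α v ∈ W) ∧ ∀ v ∈ W, α v = v}
  one_mem' := by simp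
  mul_mem' := fun {α β} ha hb => ⟨fun v => by
      simpa [mul_assoc] using U.mul_mem (hb.1 v) (ha.1 (β v)), fun v hv => by
      simpa [mul_assoc] using W.mul_mem (hb.2.1 v hv)
        (ha.2.1 (β v) (by simpa using U.mul_mem hv (hb.1 v))),
    fun v hv => by rw [MulAut.mul_apply, hb.2.2 v hv, ha.2.2 v hv]⟩
  inv_mem' := fun {α} ha => ⟨fun v => by simpa using U.inv_mem (ha.1 (α⁻¹ v)), fun v hv => by
      simpa using W.inv_mem (ha.2.1 (α⁻¹ v) (by simpa using U.mul_mem hv (U.inv_mem (ha.1 (α⁻¹ v))))),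
    fun v hv => by rw [MulAut.inv_apply, MulEquiv.symm_apply_eq, ha.2.2 v hv]⟩

theorem pg_st (hV : ∀ v : V, v ^ p = 1) (U W : Subgroup V) (h : W ≤ U) : IsPGroup p (st U W h) :=
  fun α => ⟨2, Subtype.ext (MulEquiv.ext fun v => by
    have h1 : ∀ u ∈ U, (α.1 ^ p) u = u := fun u hu => by
      rw [pow_apply_of_fix (α.2.2.2 _ (α.2.2.1 u hu)), hV, mul_one]
    show (α.1 ^ p ^ 2) v = v
    rw [sq, pow_mul, pow_apply_of_fix (h1 _ ((α ^ p).2.1 v)), hV, mul_one])⟩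

variable [Finite V] [hp : Fact p.Prime] (hV : ∀ v : V, v ^ p = 1) {A : Subgroup (MulAut V)}
  (hA : lg p A ≤ 1)
include hV hA

theorem zpowers_eq (hτ : Tv τ z₀) (hσ : Tv σ z₁) (h1 : τ ∈ A) (h2 : σ ∈ A) (h3 : τ ≠ 1)
    (h4 : σ ≠ 1) (h : τ z₁ = z₁) : zpowers τ = zpowers σ := by
  have hle : zpowers z₁ ≤ zpowers z₀ ⊔ zpowers z₁ := le_sup_right
  have h5 : τ ∈ st _ _ hle := by
    refine ⟨fun v => mem_sup_left (hτ.mem v), fun v hv => ?_, ?_⟩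
    · obtain ⟨_, ⟨i, rfl⟩, _, ⟨j, rfl⟩, rfl⟩ := mem_sup.1 hv
      simp [hτ.fix, h]
    · rintro _ ⟨j, rfl⟩; simp [h]
  have h6 : σ ∈ st _ _ hle := ⟨fun v => mem_sup_right (hσ.mem v), fun v _ => hσ.mem v,
    fun v hv => hσ.fix_mem hv⟩
  have h7 : IsPGroup p (st _ _ hle ⊓ A : Subgroup _) := (pg_st hV _ _ hle).to_inf_left
  have h8 := (lg_mono (p := p) (inf_le_right : st _ _ hle ⊓ A ≤ A)).trans hA
  exact le_antisymm (zpowers_le.2 (le_of_ne_one h7 h8 ⟨h6, h2⟩ h4 (mem_zpowers _) ⟨h5, h1⟩))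
    (zpowers_le.2 (le_of_ne_one h7 h8 ⟨h5, h1⟩ h3 (mem_zpowers _) ⟨h6, h2⟩))

theorem conj_mem_pair (hτ : Tv τ z₀) (hσ : Tv σ z₁) (h₁ : τ z₁ ≠ z₁) (h₀ : σ z₀ ≠ z₀)
    {K : Subgroup (MulAut V)} (hK : K ≤ A) (h1 : τ ∈ K) (h2 : σ ∈ K) {b : MulAut V} (hb : b ∈ A) :
    b * τ * b⁻¹ ∈ K := by
  have h3 : τ ≠ 1 := fun e => h₁ (by rw [e]; rfl)
  have hτ' := hτ.conj b
  obtain ⟨i, j, h4, h5⟩ : ∃ i j : ℤ, z₀ ^ i * z₁ ^ j ≠ 1 ∧
      (b * τ * b⁻¹) (z₀ ^ i * z₁ ^ j) = z₀ ^ i * z₁ ^ j := by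
    by_cases h : (b * τ * b⁻¹) z₀ = z₀
    · exact ⟨1, 0, by simpa using fun e => h₀ (by simp [e]), by simpa using h⟩
    obtain ⟨k, hk⟩ := exists_zpow_eq (hV _) hτ' h (inv_mem (hτ'.mem z₁))
    refine ⟨k, 1, fun e => h₁ ?_, ?_⟩
    · rw [zpow_one, mul_eq_one_iff_inv_eq] at e
      rw [← e, map_inv, map_zpow, hτ.fix]
    · rw [map_mul, map_zpow, zpow_one, ← mul_inv_cancel_left z₀ ((b * τ * b⁻¹) z₀), mul_zpow, hk,
        ← mul_inv_cancel_left z₁ ((b * τ * b⁻¹) z₁)]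
      simp only [mul_inv_rev, inv_inv, mul_assoc, mul_comm, mul_left_comm, mul_inv_cancel_left,
        inv_mul_cancel_left, mul_inv_cancel, mul_one]
  obtain ⟨β, hβ, h6⟩ := exists_apply_mem hV hτ hσ h₁ h₀ h1 h2 i j
  obtain ⟨k, hk⟩ := mem_zpowers_of_mem_zpowers (hV _) h6 fun e => h4 (β.map_eq_one_iff.1 e)
  have h7 : β⁻¹ * τ * β⁻¹⁻¹ ∈ K := mul_mem (mul_mem (inv_mem hβ) h1) (inv_mem (inv_mem hβ))
  have := zpowers_eq hV hA hτ' (hτ.conj β⁻¹) (mul_mem (mul_mem hb (hK h1)) (inv_mem hb)) (hK h7)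
    (fun e => h3 (conj_eq_one_iff.1 e)) (fun e => h3 (conj_eq_one_iff.1 e)) (by
    have e : β⁻¹ (β (z₀ ^ i * z₁ ^ j)) = z₀ ^ i * z₁ ^ j := β.symm_apply_apply _
    rw [← hk]
    simp only [map_zpow, e, h5])
  exact zpowers_le.2 h7 (this ▸ mem_zpowers _)

theorem r3lin_eq_defs : True := by
  have := @st.eq_1.{0}
  trivial

end H93.R3
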