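import Mathlib
import Cfsg.Agent.Base
import Cfsg.Agent.Lib.R3.Lin
import Cfsg.Agent.Lib.Fusion.Alperin

/-!
A group `G` normalizing a subgroup `E` of index `p` in a `p`-group `S`, where `S` is a Sylow
`p`-subgroup of `G` modulo a normal subgroup `K` centralizing `E`.
-/

set_option autoImplicit false

namespace H93.R3

open Subgroup H2
open scoped commutatorElement Pointwise

local notation:max "𝐍(" A ")" => Subgroup.normalizer (SetLike.coe A)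
local notation:max "𝐂(" A ")" => Subgroup.centralizer (SetLike.coe A)

universe u

variable {Γ : Type u} [Group Γ] {p : ℕ} {S E G K B H M N X Y Z : Subgroup Γ} {a g s x : Γ}

/-- The normal closure of `S` in `G`, times `K`. -/
def nc (S G K : Subgroup Γ) : Subgroup Γ := K ⊔ closure {y | ∃ g ∈ G, ∃ s ∈ S, y = g * s * g⁻¹}

/-- The subgroup generated by the `p'`-elements of `N`. -/
def pr (p : ℕ) (N : Subgroup Γ) : Subgroup Γ := closure {x | x ∈ N ∧ (orderOf x).Coprime p}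

/-- The basic configuration; `B` plays the role of the normalizer of `S` in `G`. -/
structure Par (p : ℕ) (S E G K B : Subgroup Γ) : Prop where
  pg : IsPGroup p S
  le : E ≤ S
  idx : lg p E + 1 = lg p S
  sB : S ≤ B
  bG : B ≤ G
  nS : B ≤ 𝐍(S)
  nE : G ≤ 𝐍(E)
  kG : K ≤ G
  nK : G ≤ 𝐍(K)
  cK : K ≤ 𝐂(E)
  syl : lg p G ≤ lg p (E ⊔ K) + 1
  inf : S ⊓ (E ⊔ K) ≤ E
  fr : ∀ g ∈ G, g ∈ 𝐍(S ⊔ K) → g ∈ B ⊔ K

theorem conj_mem_nc (hg : g ∈ G) (hs : s ∈ S) : g * s * g⁻¹ ∈ nc S G K :=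
  mem_sup_right (subset_closure ⟨g, hg, s, hs, rfl⟩)
theorem le_nc : S ≤ nc S G K := fun s hs => by simpa using conj_mem_nc (K := K) G.one_mem hs
theorem k_le_nc : K ≤ nc S G K := le_sup_left
theorem nc_le (h1 : K ≤ M) (h2 : ∀ g ∈ G, ∀ s ∈ S, g * s * g⁻¹ ∈ M) : nc S G K ≤ M :=
  sup_le h1 ((closure_le _).2 (by rintro _ ⟨g, hg, s, hs, rfl⟩; exact h2 g hg s hs))
theorem nc_le' (h1 : K ≤ M) (h2 : S ≤ M) (h3 : G ≤ 𝐍(M)) : nc S G K ≤ M :=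
  nc_le h1 fun _ hg _ hs => conj_mem (h3 hg) (h2 hs)
theorem pr_le' (h : ∀ x ∈ N, (orderOf x).Coprime p → x ∈ M) : pr p N ≤ M :=
  (closure_le _).2 fun x hx => h x hx.1 hx.2
theorem mem_pr (hx : x ∈ N) (h : (orderOf x).Coprime p) : x ∈ pr p N := subset_closure ⟨hx, h⟩
theorem pr_le : pr p N ≤ N := pr_le' fun _ h _ => h

theorem exists_pow_mem (hE : IsPGroup p E) (hn : E ≤ 𝐍(M)) (hx : x ∈ M ⊔ E) :
    ∃ k, x ^ p ^ k ∈ M := by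
  obtain ⟨m, hm, e, he, rfl⟩ := (mem_sup_iff hn).1 hx
  have : ∀ n : ℕ, (m * e) ^ n * (e ^ n)⁻¹ ∈ M := fun n => by
    induction n with
    | zero => simp
    | succ n ih =>
      have := mul_mem hm (conj_mem (hn he) ih)
      rw [pow_succ', pow_succ']
      simpa [mul_assoc] using this
  obtain ⟨k, hk⟩ := hE ⟨e, he⟩
  have hk' : e ^ p ^ k = 1 := congrArg Subtype.val hk
  exact ⟨k, by simpa [hk'] using this (p ^ k)⟩

theorem mem_of_coprime {k : ℕ} (h : x ^ p ^ k ∈ M) (hx : (orderOf x).Coprime p) : x ∈ M :=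
  mem_of_pow_coprime (n := orderOf x) (by simp) h (hx.pow_right k)

theorem comm_mem_of_coprime (hY : IsPGroup p Y) (hx : (orderOf x).Coprime p) (hn : x ∈ 𝐍(Z))
    (h1 : ⁅x, a⁆ ∈ Y) (h2 : ∀ y ∈ Y, ⁅x, y⁆ ∈ Z) : ⁅x, a⁆ ∈ Z := by
  have : ∀ n : ℕ, ⁅x ^ n, a⁆ * (⁅x, a⁆ ^ n)⁻¹ ∈ Z := fun n => by
    induction n with
    | zero => simp
    | succ n ih =>
      have := mul_mem (conj_mem hn ih) (h2 _ (pow_mem h1 n))
      convert this using 1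
      rw [pow_succ' x, pow_succ ⁅x, a⁆]
      generalize ⁅x, a⁆ ^ n = c
      simp only [commutatorElement_def]; group
  obtain ⟨k, hk⟩ := hY ⟨_, h1⟩
  have hk' : ⁅x, a⁆ ^ p ^ k = 1 := congrArg Subtype.val hk
  exact mem_of_pow_coprime (n := orderOf x) (by simpa using this (orderOf x)) (hk' ▸ one_mem Z)
    (hx.pow_right k)

theorem pr_trans (hY : IsPGroup p Y) (hn : pr p N ≤ 𝐍(Z)) (h1 : ⁅pr p N, X⁆ ≤ Y)
    (h2 : ⁅pr p N, Y⁆ ≤ Z) : ⁅pr p N, X⁆ ≤ Z :=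
  comm_le_of_rc (pr_le' fun _ hx hc => ⟨hn (mem_pr hx hc), fun _ ha => comm_mem_of_coprime hY hc
    (hn (mem_pr hx hc)) (comm_mem h1 (mem_pr hx hc) ha) fun _ => comm_mem h2 (mem_pr hx hc)⟩)

theorem pr_cent (hY : IsPGroup p Y) (h1 : ⁅pr p N, X⁆ ≤ Y) (h2 : pr p N ≤ 𝐂(Y)) :
    pr p N ≤ 𝐂(X) := comm_le_bot.1 (pr_trans hY (norm_bot _) h1 (comm_le_bot.2 h2))

variable [Finite Γ]

theorem norm_pr (h : H ≤ 𝐍(N)) : H ≤ 𝐍(pr p N) := fun g hg => mem_norm <| cn_le_iff.1 <|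
  map_le_iff_le_comap.2 <| pr_le' fun x hx hc => mem_pr (conj_mem (h hg) hx) (by
    show (orderOf (MulAut.conj g x)).Coprime p
    rwa [MulEquiv.orderOf_eq])

variable [hp : Fact p.Prime]

theorem cent_of_ph (hX : IsPGroup p X) (hx : (orderOf x).Coprime p) (hn : x ∈ 𝐍(X))
    (h : ∀ y ∈ X, ⁅x, y⁆ ∈ ph X) : x ∈ 𝐂(X) :=
  le_centralizer_of_commutator_le_frattini (zpowers_le.2 hn) (by
    obtain ⟨k, hk⟩ := IsPGroup.iff_card.1 (hX.to_subgroup (frattini X))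
    rw [hk, Nat.card_zpowers]; exact hx.pow_right k) (comm_le_symm (comm_le_of_rc
      (zpowers_le.2 ⟨norm_ph le_rfl hn, h⟩))) (mem_zpowers x)

theorem pr_ph (hX : IsPGroup p X) (hn : pr p N ≤ 𝐍(X)) (h : ⁅pr p N, X⁆ ≤ ph X) :
    pr p N ≤ 𝐂(X) := pr_le' fun _ hx hc =>
  cent_of_ph hX hc (hn (mem_pr hx hc)) fun _ => comm_mem h (mem_pr hx hc)

theorem exists_syl (hS : IsPGroup p S) (h : S ≤ H) :
    ∃ P, S ≤ P ∧ P ≤ H ∧ ∀ M, H ≤ M → lg p M ≤ lg p H → H68.SylowIn p P M := by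
  obtain ⟨P, hP, h1⟩ := H68.exists_sylowIn_ge hS h
  refine ⟨P, h1, hP.le, fun M h2 h3 => ⟨hP.le.trans h2, hP.isPGroup, fun Q hQ h4 h5 => ?_⟩⟩
  refine (eq_of_lg hQ h4 ((lg_mono h5).trans (h3.trans ?_))).symm
  rw [lg_of_card hP.card_eq, Nat.factorization_def _ hp.out, lg]

namespace Par

variable (h : Par p S E G K B)
include h

omit [Finite Γ] hp in
theorem sG : S ≤ G := h.sB.trans h.bG
omit [Finite Γ] hp in
theorem pE : IsPGroup p E := h.pg.to_le h.le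
omit [Finite Γ] hp in
theorem eG : E ≤ G := h.le.trans h.sG
omit [Finite Γ] hp in
theorem N_le : nc S G K ≤ G := nc_le' h.kG h.sG le_normalizer
omit [Finite Γ] hp in
theorem L_le : pr p (nc S G K) ≤ G := pr_le.trans h.N_le
omit hp in
theorem nN : G ≤ 𝐍(nc S G K) := fun g hg => mem_norm <| cn_le_iff.1 <|
  map_le_iff_le_comap.2 <| nc_le (fun k hk' => k_le_nc (conj_mem (h.nK hg) hk')) fun g' hg' s hs => by
    simpa [mul_assoc] using conj_mem_nc (K := K) (mul_mem hg hg') hs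
omit hp in
theorem nL : G ≤ 𝐍(pr p (nc S G K)) := norm_pr h.nN

theorem exists_not_mem : ∃ s ∈ S, s ∉ E := SetLike.not_le_iff_exists.1 fun e => by
  have := lg_mono (p := p) e; have := h.idx; omega

theorem le_of (hs : s ∈ S) (hs' : s ∉ E) (h1 : E ≤ M) (h2 : s ∈ M) : S ≤ M :=
  le_of_mem h.pg h.le h.idx.ge hs hs' h1 h2

theorem eq_of (h1 : E ≤ M) (h2 : ¬ S ≤ M) : S ⊓ M = E :=
  le_antisymm ((le_or_le h.pg h.le h.idx.ge h1).resolve_right h2) (le_inf h.le h1)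

theorem eq : EQ p S E := eq_of_index h.pg h.le h.idx.ge

theorem lg_le : lg p G ≤ lg p (S ⊔ K) := by
  have h1 := lg_sup (p := p) (h.sG.trans (norm_sup h.nE h.nK))
  have h2 := lg_mono (p := p) h.inf
  have := h.idx; have := h.syl
  rw [← sup_assoc, sup_eq_left.2 h.le] at h1
  omega

theorem exists_conj (h1 : S ⊔ K ≤ H) (h2 : H ≤ G) (hg : g ∈ G) (h3 : cn g S ≤ H) :
    ∃ c ∈ H, c * g ∈ B ⊔ K := by
  obtain ⟨P, -, h4, h5⟩ := exists_syl h.pg (le_sup_left : S ≤ S ⊔ K)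
  obtain ⟨c, hc, h6⟩ := (h5 H h1 ((lg_mono h2).trans h.lg_le)).exists_cj_le (h.pg.map _) h3
  refine ⟨c, hc, h.fr _ (mul_mem (h2 hc) hg) (mem_norm (cn_le_iff.1 ?_))⟩
  rw [cn_sup, cn_eq (h.nK (mul_mem (h2 hc) hg)), ← cn_cn]
  exact sup_le (le_trans h6 h4) le_sup_right

theorem le_of_L (h1 : pr p (nc S G K) ≤ M) (h2 : B ≤ M) (h3 : K ≤ M) : G ≤ M := fun g hg => by
  obtain ⟨P, -, h4, h5⟩ := exists_syl h.pg (le_sup_left : S ≤ S ⊔ K)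
  have h6 : S ⊔ K ≤ nc S G K := sup_le le_nc k_le_nc
  have h7 := H90.mem_of_sylowIn_of_p'_elts (h5 _ h6 ((lg_mono h.N_le).trans h.lg_le))
    (h4.trans (sup_le (h.sB.trans h2) h3)) fun x hx hc => h1 (mem_pr hx hc)
  obtain ⟨c, hc, h8⟩ := h.exists_conj h6 h.N_le hg (cn_le_iff.2 fun _ => conj_mem_nc hg)
  simpa using mul_mem (inv_mem (h7 hc)) (sup_le h2 h3 h8)

theorem norm (hX : X ≤ E) (h1 : pr p (nc S G K) ≤ 𝐍(X)) (h2 : B ≤ 𝐍(X)) : G ≤ 𝐍(X) :=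
  h.le_of_L h1 h2 (norm_of_cent h.cK hX)

theorem norm' (hX : X ≤ E) (hY : Y ≤ X) (h1 : ⁅pr p (nc S G K), X⁆ ≤ Y) (h2 : B ≤ 𝐍(X)) :
    G ≤ 𝐍(X) := h.norm hX (norm_of_comm_le (h1.trans hY)) h2

theorem norm_c (hX : X ≤ E) (hY : X ≤ Y) (h1 : pr p (nc S G K) ≤ 𝐂(Y)) (h2 : B ≤ 𝐍(X)) :
    G ≤ 𝐍(X) := h.norm hX (norm_of_cent h1 hY) h2

theorem L_le_of (hM : G ≤ 𝐍(M)) (hK : K ≤ M) (hs : s ∈ S) (hs' : s ∉ E) (h1 : s ∈ M) :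
    pr p (nc S G K) ≤ M := pr_le' fun x hx hc => by
  obtain ⟨k, hk⟩ := exists_pow_mem h.pE (h.eG.trans hM) (nc_le' (hK.trans le_sup_left)
    (h.le_of hs hs' le_sup_right (mem_sup_left h1)) (norm_sup hM h.nE) hx)
  exact mem_of_coprime hk hc

omit hp in
theorem k_le_rc (hX : X ≤ E) (hY : G ≤ 𝐍(Y)) : K ≤ relCentralizer X Y :=
  le_rc (h.kG.trans hY) ((comm_le_bot.2 (h.cK.trans (cent_anti hX))).trans bot_le)

theorem cL (hX : X ≤ E) (n1 : G ≤ 𝐍(X)) (n2 : G ≤ 𝐍(Y)) (hs : s ∈ S) (hs' : s ∉ E)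
    (h1 : ∀ x ∈ X, ⁅s, x⁆ ∈ Y) : ⁅pr p (nc S G K), X⁆ ≤ Y :=
  comm_le_of_rc (h.L_le_of (norm_rc n1 n2) (h.k_le_rc hX n2) hs hs' ⟨n2 (h.sG hs), h1⟩)

theorem cL' (hX : X ≤ E) (n1 : G ≤ 𝐍(X)) (n2 : G ≤ 𝐍(Y)) (h1 : ⁅S, X⁆ ≤ Y) :
    ⁅pr p (nc S G K), X⁆ ≤ Y :=
  let ⟨_, hs, hs'⟩ := h.exists_not_mem
  h.cL hX n1 n2 hs hs' fun _ => comm_mem h1 hs

theorem cL1 (hX : X ≤ E) (n1 : G ≤ 𝐍(X)) (n2 : G ≤ 𝐍(Y)) (hY : Y ≤ X)
    (e : lg p X ≤ lg p Y + 1) : ⁅pr p (nc S G K), X⁆ ≤ Y :=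
  h.cL' hX n1 n2 (comm_le_of_lg h.pg (hX.trans h.le) hY e (h.sG.trans n1) (h.sG.trans n2))

theorem cL0 (hX : X ≤ E) (n1 : G ≤ 𝐍(X)) (hs : s ∈ S) (hs' : s ∉ E) (h1 : s ∈ 𝐂(X)) :
    pr p (nc S G K) ≤ 𝐂(X) :=
  comm_le_bot.1 (h.cL hX n1 (norm_bot _) hs hs' fun _ hx => mem_bot.2 (comm_eq_one h1 hx))

theorem cL0' (hX : X ≤ E) (n1 : G ≤ 𝐍(X)) (h1 : S ≤ 𝐂(X)) : pr p (nc S G K) ≤ 𝐂(X) :=
  comm_le_bot.1 (h.cL' hX n1 (norm_bot _) (comm_le_bot.2 h1))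

theorem trans (hY : Y ≤ E) (n : G ≤ 𝐍(Z)) (h1 : ⁅pr p (nc S G K), X⁆ ≤ Y)
    (h2 : ⁅pr p (nc S G K), Y⁆ ≤ Z) : ⁅pr p (nc S G K), X⁆ ≤ Z :=
  pr_trans (h.pE.to_le hY) (h.L_le.trans n) h1 h2

theorem cent (hY : Y ≤ E) (h1 : ⁅pr p (nc S G K), X⁆ ≤ Y) (h2 : pr p (nc S G K) ≤ 𝐂(Y)) :
    pr p (nc S G K) ≤ 𝐂(X) := pr_cent (h.pE.to_le hY) h1 h2

/-- A normal section of order at most `p²` with an intermediate normal subgroup is centralized. -/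
theorem cL2 (hX : X ≤ E) (n1 : G ≤ 𝐍(X)) (n2 : G ≤ 𝐍(Y)) (n3 : G ≤ 𝐍(Z)) (h1 : Z ≤ Y)
    (h2 : Y ≤ X) (e : lg p X ≤ lg p Z + 2) (h3 : ¬ Y ≤ Z) (h4 : ¬ X ≤ Y) :
    ⁅pr p (nc S G K), X⁆ ≤ Z := by
  have := lg_lt (h.pE.to_le hX) h2 h4
  have := lg_lt (h.pE.to_le (h2.trans hX)) h1 h3
  exact h.trans (h2.trans hX) n3 (h.cL1 hX n1 n2 h2 (by omega))
    (h.cL1 (h2.trans hX) n2 n3 h1 (by omega))

end Par

theorem r3par_eq_defs : True := by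
  have := @nc.eq_1.{0}
  have := @pr.eq_1.{0}
  trivial

end H93.R3
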