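import Mathlib
import Cfsg.Agent.Base
import Cfsg.Agent.Lib.R3.Par

/-!
Sections of `E` on which `S` induces transvections: the normal closure of `S` acts as `SL₂(p)`.
-/

set_option autoImplicit false

namespace H93.R3

open Subgroup H2
open scoped commutatorElement Pointwise

local notation:max "𝐍(" A ")" => Subgroup.normalizer (SetLike.coe A)
local notation:max "𝐂(" A ")" => Subgroup.centralizer (SetLike.coe A)

universe u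

variable {Γ : Type u} [Group Γ] {p : ℕ} {S E G K B H M N X Y Z : Subgroup Γ} {a g s x y : Γ}

/-- The action of `H` on the elementary abelian section `X / Y`. -/
structure Act (p : ℕ) (H X Y : Subgroup Γ) (V : Type*) [CommGroup V] where
  φ : X →* V
  t : H →* MulAut V
  n : H ≤ 𝐍(X)
  surj : Function.Surjective φ
  ker : ∀ x : X, φ x = 1 ↔ x.1 ∈ Y
  conj : ∀ (g : H) (x : X), φ ⟨g * x * g.1⁻¹, conj_mem (n g.2) x.2⟩ = t g (φ x)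
  exp : ∀ v : V, v ^ p = 1

open scoped IsMulCommutative in
theorem exists_act [Finite Γ] (h : EQ p X Y) (n1 : H ≤ 𝐍(X)) (n2 : H ≤ 𝐍(Y)) :
    ∃ (V : Type u) (_ : CommGroup V) (_ : Finite V), Nonempty (Act p H X Y V) := by
  have := normal_subgroupOf_of_commutator_le h.comm
  have := isMulCommutative_section h.comm
  refine ⟨X ⧸ Y.subgroupOf X, inferInstance, inferInstance, ⟨QuotientGroup.mk' _,
    quotAut (conjAut n1) _ fun a x hx => conj_mem (n2 a.2) hx, n1, QuotientGroup.mk'_surjective _,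
    fun x => QuotientGroup.eq_one_iff x, fun _ _ => rfl, fun v => ?_⟩⟩
  obtain ⟨x, rfl⟩ := QuotientGroup.mk_surjective v
  exact (QuotientGroup.eq_one_iff (x ^ p)).2 (h.pow x x.2)

namespace Act

variable {V : Type*} [CommGroup V] (A : Act p H X Y V)

open Classical in
/-- The projection to the section. -/
noncomputable def π (x : Γ) : V := if h : x ∈ X then A.φ ⟨x, h⟩ else 1

theorem π_eq (hx : x ∈ X) : A.π x = A.φ ⟨x, hx⟩ := dif_pos hx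
theorem π_mul (hx : x ∈ X) (hy : y ∈ X) : A.π (x * y) = A.π x * A.π y := by
  rw [A.π_eq hx, A.π_eq hy, A.π_eq (mul_mem hx hy), ← map_mul]; rfl
theorem π_zpow (hx : x ∈ X) (k : ℤ) : A.π (x ^ k) = A.π x ^ k := by
  rw [A.π_eq hx, A.π_eq (zpow_mem hx k), ← map_zpow]; rfl
theorem π_inv (hx : x ∈ X) : A.π x⁻¹ = (A.π x)⁻¹ := by simpa using A.π_zpow hx (-1)
theorem π_surj (v : V) : ∃ x ∈ X, A.π x = v :=
  let ⟨x, hx⟩ := A.surj v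
  ⟨x, x.2, (A.π_eq x.2).trans hx⟩
theorem π_one (hx : x ∈ X) : A.π x = 1 ↔ x ∈ Y := by rw [A.π_eq hx, A.ker]
theorem π_conj (hg : g ∈ H) (hx : x ∈ X) : A.π (g * x * g⁻¹) = A.t ⟨g, hg⟩ (A.π x) := by
  rw [A.π_eq hx, ← A.conj, A.π_eq]
theorem π_div (hx : x ∈ X) (hy : y ∈ X) : x * y⁻¹ ∈ Y ↔ A.π x = A.π y := by
  rw [← A.π_one (mul_mem hx (inv_mem hy)), A.π_mul hx (inv_mem hy), A.π_inv hy, mul_inv_eq_one]
theorem π_comm (hg : g ∈ H) (hx : x ∈ X) :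
    A.π ⁅g, x⁆ = (A.π x)⁻¹ * A.t ⟨g, hg⟩ (A.π x) := by
  rw [commutatorElement_def, A.π_mul (conj_mem (A.n hg) hx) (inv_mem hx), A.π_conj hg hx,
    A.π_inv hx, mul_comm]
theorem comm_iff (hg : g ∈ H) (hx : x ∈ X) : ⁅g, x⁆ ∈ Y ↔ A.t ⟨g, hg⟩ (A.π x) = A.π x := by
  rw [← A.π_one (comm_mem_r (A.n hg) hx), A.π_comm hg hx, inv_mul_eq_one, eq_comm]
theorem t_eq_one (hg : g ∈ H) : A.t ⟨g, hg⟩ = 1 ↔ ∀ x ∈ X, ⁅g, x⁆ ∈ Y :=
  ⟨fun h x hx => (A.comm_iff hg hx).2 (by rw [h]; rfl), fun h => MulEquiv.ext fun v => by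
    obtain ⟨x, hx, rfl⟩ := A.π_surj v
    exact (A.comm_iff hg hx).1 (h x hx)⟩
theorem ev_iff (hg : g ∈ H) (hx : x ∈ X) {k : ℤ} :
    g * x * g⁻¹ * (x ^ k)⁻¹ ∈ Y ↔ A.t ⟨g, hg⟩ (A.π x) = A.π x ^ k := by
  rw [A.π_div (conj_mem (A.n hg) hx) (zpow_mem hx k), A.π_conj hg hx, A.π_zpow hx]
theorem π_ev (hg : g ∈ H) (hx : x ∈ X) (k : ℤ) :
    A.π (g * x * g⁻¹ * (x ^ k)⁻¹) = A.t ⟨g, hg⟩ (A.π x) * (A.π x ^ k)⁻¹ := by
  rw [A.π_mul (conj_mem (A.n hg) hx) (inv_mem (zpow_mem hx k)), A.π_conj hg hx,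
    A.π_inv (zpow_mem hx k), A.π_zpow hx]
theorem mem_sup_zpowers (hY : Y ≤ M) (hx : x ∈ X) (hy : y ∈ X) (hy' : y ∈ M)
    (h : A.π x ∈ zpowers (A.π y)) : x ∈ M := by
  obtain ⟨k, hk⟩ := h
  simpa using mul_mem (hY ((A.π_div hx (zpow_mem hy k)).2 (by rw [A.π_zpow hy]; exact hk.symm)))
    (zpow_mem hy' k)

theorem lg_range [Finite Γ] [Finite V] [Fact p.Prime] (hM : M ≤ H) (h : ⁅M, X⁆ ≤ Y) :
    lg p A.t.range + lg p M ≤ lg p H := by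
  have h1 := lg_map (p := p) A.t ⊤
  have h2 : lg p (M.subgroupOf H) ≤ lg p (A.t.ker ⊓ ⊤) := lg_mono fun x hx =>
    ⟨(A.t_eq_one x.2).2 fun _ => comm_mem h hx, trivial⟩
  rw [← MonoidHom.range_eq_map, lg.eq_1 p ⊤, card_top] at h1
  rw [lg, H1.card_subgroupOf_of_le hM] at h2
  unfold lg at *
  omega

end Act

/-- The automorphisms acting trivially modulo `U`. -/
def tq {V : Type*} [Group V] (U : Subgroup V) : Subgroup (MulAut V) where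
  carrier := {α | ∀ y, y⁻¹ * α y ∈ U}
  one_mem' := fun y => by simp
  mul_mem' := fun {α β} hα hβ y => by simpa [mul_assoc] using mul_mem (hβ y) (hα (β y))
  inv_mem' := fun {α} hα y => by simpa using inv_mem (hα (α⁻¹ y))

/-- The conclusions for a section `X / Y` on which `S` induces transvections. -/
structure TV (p : ℕ) (S E G B L X Y F P : Subgroup Γ) : Prop where
  yF : Y ≤ F
  fH : F ≤ X ⊓ relCentralizer S Y
  yP : Y ≤ P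
  pX : P ≤ X
  nF : G ≤ 𝐍(F)
  nP : G ≤ 𝐍(P)
  inf : F ⊓ P ≤ Y
  sup : X ≤ F ⊔ P
  lgP : lg p P = lg p Y + 2
  lgF : lg p X = lg p F + 2
  lgZ : lg p (⁅S, X⁆ ⊔ Y) = lg p Y + 1
  cF : ⁅L, F⁆ ≤ Y
  cP : ⁅L, X⁆ ≤ P
  zP : ⁅S, X⁆ ≤ P
  tor : ∀ m n : ℤ, m * n ≡ 1 [ZMOD p] → ∃ τ ∈ B, τ ∈ L ∧ (orderOf τ).Coprime p ∧
    Ev τ (⁅S, X⁆ ⊔ Y) Y m ∧ Ev τ X (X ⊓ relCentralizer S Y) n ∧ Ev τ S E (m * m) ∧
    (∃ x ∈ P, x ∉ relCentralizer S Y ∧ τ * x * τ⁻¹ * (x ^ n)⁻¹ ∈ Y) ∧ (m = n → Ev τ P Y m)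

variable [Finite Γ] [hp : Fact p.Prime]

theorem Par.tv (h : Par p S E G K B) (hX : X ≤ E) (e : EQ p X Y) (n1 : G ≤ 𝐍(X)) (n2 : G ≤ 𝐍(Y))
    (hE : ⁅E, X⁆ ≤ Y) (hi : lg p X ≤ lg p (X ⊓ relCentralizer S Y) + 1)
    (hn : ¬ G ≤ 𝐍(X ⊓ relCentralizer S Y)) :
    ∃ F P, TV p S E G B (pr p (nc S G K)) X Y F P := by
  obtain ⟨V, _, _, ⟨A⟩⟩ := exists_act e n1 n2
  have hV := A.exp
  have pX := h.pE.to_le hX
  have nY : X ≤ 𝐍(Y) := hX.trans (h.eG.trans n2)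
  obtain ⟨s, hs, hs'⟩ := h.exists_not_mem
  set τ := A.t ⟨s, h.sG hs⟩ with eτ
  have hH : ∀ x ∈ X, x ∈ X ⊓ relCentralizer S Y ↔ τ (A.π x) = A.π x := fun x hx => by
    rw [← A.comm_iff (h.sG hs) hx]
    refine ⟨fun h1 => comm_symm (h1.2.2 s hs), fun h1 => ⟨hx, nY hx, fun z hz => comm_symm ?_⟩⟩
    exact (h.le_of (M := cz x Y) hs hs' (fun y hy => ⟨n2 (h.eG hy), comm_mem hE hy hx⟩)
      ⟨n2 (h.sG hs), h1⟩ hz).2
  obtain ⟨x₀, hx₀, hx₀'⟩ : ∃ x ∈ X, x ∉ X ⊓ relCentralizer S Y := SetLike.not_le_iff_exists.1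
    fun e => hn (by rw [inf_eq_left.2 (e.trans inf_le_right)]; exact n1)
  have hSX : ⁅S, X⁆ ≤ X ⊓ relCentralizer S Y := comm_le_of_lg h.pg (hX.trans h.le) inf_le_left hi
    (h.sG.trans n1) (norm_inf (h.sG.trans n1) (norm_rc le_normalizer (h.sG.trans n2)))
  have hc₀ : ⁅s, x₀⁆ ∈ ⁅S, X⁆ := commutator_mem_commutator hs hx₀
  have hc₀X : ⁅s, x₀⁆ ∈ X := (hSX hc₀).1
  set z₀ := A.π ⁅s, x₀⁆ with ez₀
  have hτ : Tv τ z₀ := ⟨fun v => by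
    obtain ⟨x, hx, rfl⟩ := A.π_surj v
    obtain ⟨y, hy, k, rfl⟩ := (H5.mem_sup_zpowers_iff (norm_of_lg pX inf_le_left hi hx₀)).1
      (le_sup_zpowers pX inf_le_left hi hx₀ hx₀' hx)
    refine ⟨k, ?_⟩
    rw [A.π_mul hy.1 (zpow_mem hx₀ k), A.π_zpow hx₀, map_mul, map_zpow, (hH y hy.1).1 hy, ez₀,
      A.π_comm (h.sG hs) hx₀]
    simp only [mul_zpow, inv_zpow, mul_inv_rev, mul_assoc, inv_mul_cancel_left, eτ],
    (hH _ hc₀X).1 (hSX hc₀)⟩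
  have hτ1 : τ ≠ 1 := fun e => hx₀' ((hH _ hx₀).2 (by rw [e]; rfl))
  have hA : lg p A.t.range ≤ 1 := by
    have := A.lg_range (M := E ⊔ K) (sup_le h.eG h.kG) (comm_le_of_rc (sup_le
      (le_rc (h.eG.trans n2) hE) (h.k_le_rc hX n2)))
    have := h.syl
    omega
  obtain ⟨g, hg, hg'⟩ := SetLike.not_le_iff_exists.1 hn
  set b := A.t ⟨g, hg⟩ with eb
  have hσ := hτ.conj b
  have hne : zpowers τ ≠ zpowers (b * τ * b⁻¹) := fun e => hg' (mem_norm fun x hx => by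
    obtain ⟨k, hk⟩ : τ ∈ zpowers (b * τ * b⁻¹) := e ▸ mem_zpowers τ
    rw [hH _ (conj_mem (n1 hg) hx.1), A.π_conj hg hx.1, ← hk]
    exact zpow_fix (by simp [← eb, (hH x hx.1).1 hx]) k)
  have hτA : τ ∈ A.t.range := ⟨_, rfl⟩
  have hσA : b * τ * b⁻¹ ∈ A.t.range := mul_mem (mul_mem ⟨_, rfl⟩ hτA) (inv_mem ⟨_, rfl⟩)
  have hσ1 : b * τ * b⁻¹ ≠ 1 := fun e => hτ1 (conj_eq_one_iff.1 e)
  have h₁ : τ (b z₀) ≠ b z₀ := fun e => hne (zpowers_eq hV hA hτ hσ hτA hσA hτ1 hσ1 e)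
  have h₀ : (b * τ * b⁻¹) z₀ ≠ z₀ := fun e => hne (zpowers_eq hV hA hσ hτ hσA hτA hσ1 hτ1 e).symm
  have hS : ∀ y (hy : y ∈ S), A.t ⟨y, h.sG hy⟩ ∈ zpowers τ := fun y hy => by
    obtain ⟨_, hy', e⟩ := h.le_of (M := ((zpowers τ).comap A.t).map G.subtype) hs hs'
      (fun z hz => ⟨⟨z, h.eG hz⟩, by
        rw [SetLike.mem_coe, mem_comap, (A.t_eq_one _).2 fun _ => comm_mem hE hz]
        exact one_mem _, rfl⟩) ⟨_, mem_zpowers τ, rfl⟩ hy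
    exact (Subtype.ext e : _ = (⟨y, h.sG hy⟩ : G)) ▸ hy'
  have hN : ∀ U : Subgroup (MulAut V), τ ∈ U → b * τ * b⁻¹ ∈ U →
      ∀ y (hy : y ∈ nc S G K), A.t ⟨y, h.N_le hy⟩ ∈ U := fun U u1 u2 y hy => by
    obtain ⟨_, hy', e⟩ := nc_le (M := (U.comap A.t).map G.subtype)
      (fun z hz => ⟨⟨z, h.kG hz⟩, by
        rw [SetLike.mem_coe, mem_comap, (A.t_eq_one _).2 (h.k_le_rc hX n2 hz).2]
        exact one_mem _, rfl⟩) (fun a ha z hz => ⟨⟨a, ha⟩ * ⟨z, h.sG hz⟩ * ⟨a, ha⟩⁻¹, by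
        obtain ⟨k, hk⟩ := hS z hz
        rw [SetLike.mem_coe, mem_comap, map_mul, map_mul, map_inv, ← hk, ← conj_zpow]
        exact U.zpow_mem (conj_mem_pair hV hA hτ hσ h₁ h₀ (inf_le_right : U ⊓ _ ≤ _) ⟨u1, hτA⟩
          ⟨u2, hσA⟩ ⟨_, rfl⟩).1 k, rfl⟩) hy
    exact (Subtype.ext e : _ = (⟨y, h.N_le hy⟩ : G)) ▸ hy'
  have hs₁ : g * s * g⁻¹ ∈ nc S G K := conj_mem_nc hg hs
  have et : A.t ⟨_, h.N_le hs₁⟩ = b * τ * b⁻¹ := by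
    rw [eb, eτ, ← map_inv, ← map_mul, ← map_mul]; rfl
  have hF : ∀ x ∈ X, x ∈ X ⊓ relCentralizer (nc S G K) Y ↔
      τ (A.π x) = A.π x ∧ (b * τ * b⁻¹) (A.π x) = A.π x := fun x hx =>
    ⟨fun h1 => ⟨(A.comm_iff _ hx).1 (comm_symm (h1.2.2 s (le_nc hs))),
      et ▸ (A.comm_iff _ hx).1 (comm_symm (h1.2.2 _ hs₁))⟩, fun h1 => ⟨hx, nY hx, fun z hz =>
      comm_symm ((A.comm_iff (h.N_le hz) hx).2
        (hN (MulAction.stabilizer (MulAut V) (A.π x)) h1.1 h1.2 z hz))⟩⟩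
  have hc₁X := conj_mem (n1 hg) hc₀X
  have ez₁ : A.π (g * ⁅s, x₀⁆ * g⁻¹) = b z₀ := A.π_conj hg hc₀X
  have hc₀P : ⁅s, x₀⁆ ∈ ⁅nc S G K, X⁆ ⊔ Y := mem_sup_left (commutator_mono le_nc le_rfl hc₀)
  have nP : G ≤ 𝐍(⁅nc S G K, X⁆ ⊔ Y) := norm_sup (norm_comm h.nN n1) n2
  have hc₁P := conj_mem (nP hg) hc₀P
  have hPX : ⁅nc S G K, X⁆ ⊔ Y ≤ X := sup_le (comm_le_r (h.N_le.trans n1)) e.le
  have hin : ∀ i j : ℤ, ∀ x ∈ X, A.π x = z₀ ^ i * b z₀ ^ j → ∀ M, Y ≤ M → ⁅s, x₀⁆ ∈ M →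
      g * ⁅s, x₀⁆ * g⁻¹ ∈ M → x ∈ M := fun i j x hx e1 M m1 m2 m3 => by
    have h2 := mul_mem (zpow_mem hc₀X i) (zpow_mem hc₁X j)
    exact mem_of_div (m1 ((A.π_div hx h2).2 (by
      rw [e1, A.π_mul (zpow_mem hc₀X i) (zpow_mem hc₁X j), A.π_zpow hc₀X, A.π_zpow hc₁X, ez₁])))
      (mul_mem (zpow_mem m2 i) (zpow_mem m3 j))
  have hP : ∀ x ∈ ⁅nc S G K, X⁆ ⊔ Y, ∃ i j : ℤ, A.π x = z₀ ^ i * b z₀ ^ j := fun x hx => by
    obtain ⟨x, hx', rfl⟩ : x ∈ ((zpowers z₀ ⊔ zpowers (b z₀)).comap A.φ).map X.subtype := by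
      refine (sup_le (commutator_le.2 fun z hz y hy => ?_) (fun y hy => ?_) :
        _ ≤ ((zpowers z₀ ⊔ zpowers (b z₀)).comap A.φ).map X.subtype) hx
      · refine ⟨⟨_, comm_mem_r (n1 (h.N_le hz)) hy⟩, ?_, rfl⟩
        rw [SetLike.mem_coe, mem_comap, ← A.π_eq, A.π_comm (h.N_le hz) hy]
        exact hN (tq _) (fun v => mem_sup_left (hτ.mem v)) (fun v => mem_sup_right (hσ.mem v)) z hz _
      · exact ⟨⟨y, e.le hy⟩, by
          rw [SetLike.mem_coe, mem_comap, (A.ker _).2 hy]; exact one_mem _, rfl⟩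
    obtain ⟨_, ⟨i, rfl⟩, _, ⟨j, rfl⟩, e1⟩ := mem_sup.1 hx'
    exact ⟨i, j, (A.π_eq x.2).trans e1.symm⟩
  have hz : ∀ {α : MulAut V} {z : V} {j : ℤ}, α z ≠ z → α (z ^ j) = z ^ j → z ^ j = 1 :=
    fun {α z j} h1 h2 => by
      by_contra h3
      obtain ⟨k, hk⟩ := mem_zpowers_of_mem_zpowers (hV z) (zpow_mem (mem_zpowers z) j) h3
      exact h1 (by rw [← hk]; simp only [map_zpow α (z ^ j), h2])
  have hc₀Y : ⁅s, x₀⁆ ∉ Y := fun e1 => h₀ (by rw [ez₀, (A.π_one hc₀X).2 e1, map_one])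
  have hZ : ∀ x ∈ ⁅nc S G K, X⁆ ⊔ Y, τ (A.π x) = A.π x → A.π x ∈ zpowers z₀ := fun x hx e1 => by
    obtain ⟨i, j, e2⟩ := hP x hx
    rw [e2, map_mul, map_zpow, hτ.fix, mul_right_inj] at e1
    exact ⟨i, by simp only [e2, hz h₁ e1, mul_one]⟩
  have eZ : ⁅S, X⁆ ⊔ Y = Y ⊔ zpowers ⁅s, x₀⁆ := le_antisymm (sup_le (fun x hx =>
    A.mem_sup_zpowers le_sup_left (hSX hx).1 hc₀X (mem_sup_right (mem_zpowers _))
      (hZ x (mem_sup_left (commutator_mono le_nc le_rfl hx)) ((hH x (hSX hx).1).1 (hSX hx))))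
    le_sup_left) (sup_le le_sup_right (zpowers_le.2 (mem_sup_left hc₀)))
  have lgZ : lg p (⁅S, X⁆ ⊔ Y) = lg p Y + 1 := eZ ▸ lg_sup_zpowers (nY hc₀X) (e.pow _ hc₀X) hc₀Y
  have hZX : ⁅S, X⁆ ⊔ Y ≤ X := sup_le (hSX.trans inf_le_left) e.le
  have hZH : ⁅S, X⁆ ⊔ Y ≤ X ⊓ relCentralizer S Y :=
    sup_le hSX (le_inf e.le (le_rc (e.le.trans nY) (comm_le_l (h.sG.trans n2))))
  have hc₁H : g * ⁅s, x₀⁆ * g⁻¹ ∉ X ⊓ relCentralizer S Y := fun e1 => h₁ (ez₁ ▸ (hH _ hc₁X).1 e1)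
  have lgP : lg p (⁅nc S G K, X⁆ ⊔ Y) = lg p Y + 2 := by
    rw [show ⁅nc S G K, X⁆ ⊔ Y = ⁅S, X⁆ ⊔ Y ⊔ zpowers (g * ⁅s, x₀⁆ * g⁻¹) from le_antisymm
      (fun x hx => let ⟨i, j, e1⟩ := hP x hx; hin i j x (hPX hx) e1 _ (le_sup_of_le_left le_sup_right)
        (mem_sup_left (mem_sup_left hc₀)) (mem_sup_right (mem_zpowers _)))
      (sup_le (sup_le_sup_right (commutator_mono le_nc le_rfl) _) (zpowers_le.2 hc₁P)),
      lg_sup_zpowers (e.norm le_sup_right hZX hc₁X) (mem_sup_right (e.pow _ hc₁X))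
        fun e1 => hc₁H (hZH e1), lgZ]
  have yF : Y ≤ X ⊓ relCentralizer (nc S G K) Y :=
    le_inf e.le (le_rc (e.le.trans nY) (comm_le_l (h.N_le.trans n2)))
  have hinf : (X ⊓ relCentralizer (nc S G K) Y) ⊓ (⁅nc S G K, X⁆ ⊔ Y) ≤ Y := fun x hx => by
    obtain ⟨i, j, e2⟩ := hP x hx.2
    obtain ⟨e3, e4⟩ := (hF x hx.1.1).1 hx.1
    rw [e2, map_mul, map_zpow, hτ.fix, mul_right_inj] at e3
    rw [e2, map_mul, map_zpow _ (b z₀), hσ.fix, mul_left_inj] at e4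
    rw [← A.π_one hx.1.1, e2, hz h₁ e3, hz h₀ e4, mul_one]
  have hsup : X ≤ (X ⊓ relCentralizer (nc S G K) Y) ⊔ (⁅nc S G K, X⁆ ⊔ Y) := fun x hx => by
    obtain ⟨i, j, c, e1, e2, e3⟩ := exists_decomp hV hτ hσ h₁ h₀ (A.π x)
    obtain ⟨y, hy, rfl⟩ := A.π_surj c
    simpa using mul_mem (hin i j (x * y⁻¹) (mul_mem hx (inv_mem hy)) (by
      rw [A.π_mul hx (inv_mem hy), A.π_inv hy, e3, mul_inv_cancel_right]) _
      (le_sup_of_le_right le_sup_right) (mem_sup_right hc₀P) (mem_sup_right hc₁P))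
      (mem_sup_left ((hF y hy).2 ⟨e1, e2⟩))
  refine ⟨_, _, yF, inf_le_inf_left _ fun x hx => ⟨hx.1, fun z hz => hx.2 z (le_nc hz)⟩,
    le_sup_right, hPX, norm_inf n1 (norm_rc h.nN n2), nP, hinf, hsup, lgP, ?_, lgZ,
    comm_le_symm ((commutator_mono le_rfl pr_le).trans (comm_le_of_rc inf_le_right)),
    (commutator_mono pr_le le_rfl).trans le_sup_left,
    (commutator_mono le_nc le_rfl).trans le_sup_left, fun m n hmn => ?_⟩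
  · have := lg_sup (p := p) (inf_le_left.trans (hX.trans (h.eG.trans nP)) :
      X ⊓ relCentralizer (nc S G K) Y ≤ _)
    rw [le_antisymm (sup_le inf_le_left hPX) hsup, le_antisymm hinf (le_inf yF le_sup_right)] at this
    omega
  obtain ⟨d, ⟨δ, hδ, rfl⟩, d0, d1, d2, d3, d4⟩ := exists_diag hV hτ hσ h₁ h₀
    (K := ((nc S G K).subgroupOf G).map A.t) ⟨_, le_nc hs, rfl⟩ ⟨_, hs₁, et⟩ hmn
  have hev : ∀ u (hu : u ∈ G), A.t ⟨u, hu⟩ = A.t δ → ∀ y ∈ S,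
      u * y * u⁻¹ * (y ^ (m * m))⁻¹ ∈ relCentralizer X Y := fun u hu e1 y hy => by
    have h1 := G.mul_mem (conj_mem (le_normalizer hu) (h.sG hy))
      (G.inv_mem (G.zpow_mem (h.sG hy) (m * m)))
    refine ⟨n2 h1, (A.t_eq_one h1).1 ?_⟩
    obtain ⟨k, hk⟩ := hS y hy
    rw [show (⟨_, h1⟩ : G) = ⟨u, hu⟩ * ⟨y, h.sG hy⟩ * ⟨u, hu⟩⁻¹ * (⟨y, h.sG hy⟩ ^ (m * m))⁻¹ from rfl,
      map_mul, map_mul, map_mul, map_inv, map_inv, map_zpow, e1, ← hk, ← conj_zpow, d3, ← zpow_mul,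
      ← zpow_mul, mul_comm k, mul_inv_cancel]
  obtain ⟨c, hc, hc'⟩ := h.exists_conj (H := nc S G K ⊓ (S ⊔ G ⊓ relCentralizer X Y))
    (le_inf (sup_le le_nc k_le_nc) (sup_le_sup_left (le_inf h.kG (h.k_le_rc hX n2)) _))
    (inf_le_left.trans h.N_le) δ.2 (cn_le_iff.2 fun y hy => ⟨conj_mem_nc δ.2 hy, by
      simpa using mul_mem (mem_sup_right (S := S) (show _ ∈ G ⊓ relCentralizer X Y from
        ⟨G.mul_mem (conj_mem (le_normalizer δ.2) (h.sG hy)) (G.inv_mem (G.zpow_mem (h.sG hy) _)),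
        hev δ δ.2 rfl y hy⟩)) (mem_sup_left (zpow_mem hy (m * m)))⟩)
  obtain ⟨s', hs1, c', hc1, rfl⟩ := (mem_sup_iff' (h.sG.trans
    (norm_inf le_normalizer (norm_rc n1 n2)))).1 hc.2
  obtain ⟨u, hu, k, hk, e1⟩ := (mem_sup_iff' (h.bG.trans h.nK)).1 hc'
  have e2 : s'⁻¹ * u = c' * δ * k⁻¹ := by rw [eq_mul_inv_of_mul_eq e1.symm]; group
  have hB : s'⁻¹ * u ∈ B := mul_mem (inv_mem (h.sB hs1)) hu
  have hBN : s'⁻¹ * u ∈ nc S G K := by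
    have := mul_mem (mul_mem (mul_mem (inv_mem (le_nc hs1)) (inf_le_left (a := nc S G K) hc)) hδ)
      (inv_mem (k_le_nc hk))
    rw [e2]; simpa [mul_assoc] using this
  have e3 : A.t ⟨_, h.bG hB⟩ = A.t δ := by
    rw [show (⟨_, h.bG hB⟩ : G) = ⟨c', hc1.1⟩ * δ * ⟨k, h.kG hk⟩⁻¹ from Subtype.ext e2, map_mul,
      map_mul, map_inv, (A.t_eq_one _).2 hc1.2.2, (A.t_eq_one _).2 (h.k_le_rc hX n2 hk).2]
    simp
  obtain ⟨j, hj⟩ := H90.exists_pow_p'_part (p := p) (s'⁻¹ * u) (n := p - 1)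
    ((Nat.coprime_self_sub_left hp.out.one_le).2 (by simp))
  have hB' := pow_mem hB (1 + (p - 1) * j)
  have e4 : A.t ⟨_, h.bG hB'⟩ = A.t δ := by
    rw [show (⟨_, h.bG hB'⟩ : G) = ⟨_, h.bG hB⟩ ^ (1 + (p - 1) * j) from rfl, map_pow, e3, pow_add,
      pow_mul, d4, one_pow, mul_one, pow_one]
  refine ⟨_, hB', mem_pr (pow_mem hBN _) hj, hj, fun x hx => ?_, fun x hx => ?_, fun y hy => ?_,
    ⟨_, hc₁P, fun e => hc₁H ⟨hc₁X, e⟩, ?_⟩, fun e5 x hx => ?_⟩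
  · obtain ⟨i, hi⟩ := hZ x (sup_le_sup_right (commutator_mono le_nc le_rfl) _ hx)
      ((hH x (hZX hx)).1 (hZH hx))
    rw [A.ev_iff (h.bG hB') (hZX hx), e4, ← hi, map_zpow, d0, ← zpow_mul, ← zpow_mul, mul_comm]
  · obtain ⟨i, j, c, e1, e2, e3⟩ := exists_decomp hV hτ hσ h₁ h₀ (A.π x)
    rw [hH _ (mul_mem (conj_mem (n1 (h.bG hB')) hx) (inv_mem (zpow_mem hx n))),
      A.π_ev (h.bG hB') hx, e4, e3]
    have : ∀ a w c a' c' : V, a * w * c * (a' * w * c')⁻¹ = a * a'⁻¹ * (c * c'⁻¹) :=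
      fun a w c a' c' => by
        rw [mul_inv, mul_inv, mul_mul_mul_comm, mul_mul_mul_comm a, mul_inv_cancel, mul_one]
    rw [map_mul (A.t δ), map_mul (A.t δ), map_zpow, map_zpow, d0, d1, d2 c e1 e2, mul_zpow, mul_zpow,
      zpow_comm (b z₀), this]
    simp only [map_mul, map_zpow, map_inv, hτ.fix, e1]
  · by_contra h1
    have h2 := mul_mem (conj_mem (h.nS hB') hy) (inv_mem (zpow_mem hy (m * m)))
    exact hτ1 ((A.t_eq_one _).2 (h.le_of h2 h1 (le_rc (h.eG.trans n2) hE) (hev _ _ e4 y hy) hs).2)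
  · rw [A.ev_iff (h.bG hB') hc₁X, e4, ez₁, d1]
  · obtain ⟨i, j, e1⟩ := hP x hx
    rw [A.ev_iff (h.bG hB') (hPX hx), e4, e1, map_mul, map_zpow, map_zpow, d0, d1, e5, mul_zpow,
      ← zpow_mul, ← zpow_mul, ← zpow_mul, ← zpow_mul, mul_comm i, mul_comm j]

theorem r3tv_eq_defs : True := by
  have := @Act.π.eq_1.{0, 0}
  have := @tq.eq_1.{0}
  trivial

end H93.R3
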