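import Mathlib
import Cfsg.Agent.Base
import Cfsg.Agent.Lib.R3.TV
import Cfsg.Agent.Lib.Fusion.Factor
import Cfsg.Agent.Lib.PGroup.Commutator

/-!
Passing to a quotient of a subgroup, and commutator and power maps on sections.
-/

set_option autoImplicit false

namespace H93.R3

open Subgroup H2 H91 Cfsg Cfsg.FusionSystem
open scoped commutatorElement Pointwise

local notation:max "𝐍(" A ")" => Subgroup.normalizer (SetLike.coe A)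
local notation:max "𝐂(" A ")" => Subgroup.centralizer (SetLike.coe A)

universe u

variable {Γ : Type u} [Group Γ] {p : ℕ} {S E G K B H M N T A X Y Z U V : Subgroup Γ}
  {a g s x y : Γ} {Γ' : Type u} [Group Γ'] {θ : H →* Γ'}

local notation:max "⟪" X "⟫" => imageAlong θ X

theorem exists_qt [Finite Γ] (hT : T ≤ H) (hn : H ≤ 𝐍(T)) :
    ∃ (Γ' : Type u) (_ : Group Γ') (_ : Finite Γ') (θ : H →* Γ'), kerIn θ = T :=
  have := normal_subgroupOf_of_le_normalizer hn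
  ⟨_, _, inferInstance, _, kerIn_mk' hT⟩

theorem ex_comm (hx : x ∈ H) (hy : y ∈ H) : ex θ ⁅x, y⁆ = ⁅ex θ x, ex θ y⁆ := by
  rw [commutatorElement_def, ex_mul θ (conj_mem (le_normalizer hx) hy) (inv_mem hy),
    ex_conj θ hx hy, ex_inv θ hy, commutatorElement_def]

theorem ex_zpow (hx : x ∈ H) (k : ℤ) : ex θ (x ^ k) = ex θ x ^ k := by
  rw [ex_of_mem θ hx, ex_of_mem θ (zpow_mem hx k), ← map_zpow]; rfl

theorem ex_eq_one (hx : x ∈ H) : ex θ x = 1 ↔ x ∈ kerIn θ := by simp [mem_kerIn, hx]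

theorem ex_div (hx : x ∈ H) (hy : y ∈ H) : x * y⁻¹ ∈ kerIn θ ↔ ex θ x = ex θ y := by
  rw [← ex_eq_one (mul_mem hx (inv_mem hy)), ex_mul θ hx (inv_mem hy), ex_inv θ hy, mul_inv_eq_one]

theorem norm_ker : H ≤ 𝐍(kerIn θ) := fun g hg => mem_normalizer_iff.2 fun x =>
  ⟨kerIn_conj hg, fun h => by simpa [mul_assoc] using kerIn_conj (inv_mem hg) h⟩

theorem ex_mem_iff (hX : X ≤ H) (hT : kerIn θ ≤ X) (hx : x ∈ H) : ex θ x ∈ ⟪X⟫ ↔ x ∈ X := by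
  conv_rhs => rw [← preimage_image hX hT, mem_preimageAlong]
  simp [hx]

theorem im_le_iff (hX : X ≤ H) (hY : Y ≤ H) (hT : kerIn θ ≤ Y) : ⟪X⟫ ≤ ⟪Y⟫ ↔ X ≤ Y :=
  (imageAlong_le_iff hX).trans (forall₂_congr fun _ hx => ex_mem_iff hY hT (hX hx))

theorem im_le_bot (hX : X ≤ H) : ⟪X⟫ ≤ ⊥ ↔ X ≤ kerIn θ :=
  (imageAlong_le_iff hX).trans (forall₂_congr fun _ hx => ex_eq_one (hX hx))

theorem im_eq_bot (hX : X ≤ H) : ⟪X⟫ = ⊥ ↔ X ≤ kerIn θ := le_bot_iff.symm.trans (im_le_bot hX)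

theorem ex_mem (hX : X ≤ H) (hx : x ∈ X) : ex θ x ∈ ⟪X⟫ := ex_mem_imageAlong hx (hX hx)

theorem comm_le_of_le (hX : X ≤ H) (hY : Y ≤ H) : ⁅X, Y⁆ ≤ H :=
  (commutator_mono hX hY).trans (comm_le_r le_normalizer)

theorem im_comm (hX : X ≤ H) (hY : Y ≤ H) : ⟪⁅X, Y⁆⟫ = ⁅⟪X⟫, ⟪Y⟫⁆ := by
  have : (⁅X, Y⁆ : Subgroup Γ).subgroupOf H = ⁅X.subgroupOf H, Y.subgroupOf H⁆ :=
    map_injective H.subtype_injective (by
      rw [map_commutator, map_subgroupOf_eq_of_le hX, map_subgroupOf_eq_of_le hY,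
        map_subgroupOf_eq_of_le (comm_le_of_le hX hY)])
  rw [imageAlong, this, map_commutator]; rfl

theorem im_comm_le (hX : X ≤ H) (hY : Y ≤ H) (hZ : Z ≤ H) (hT : kerIn θ ≤ Z) :
    ⁅⟪X⟫, ⟪Y⟫⁆ ≤ ⟪Z⟫ ↔ ⁅X, Y⁆ ≤ Z := by
  rw [← im_comm hX hY, im_le_iff (comm_le_of_le hX hY) hZ hT]

theorem im_cent (hX : X ≤ H) (hY : Y ≤ H) : ⟪X⟫ ≤ 𝐂(⟪Y⟫) ↔ ⁅X, Y⁆ ≤ kerIn θ := by
  rw [← comm_le_bot, ← im_comm hX hY, im_le_bot (comm_le_of_le hX hY)]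

theorem im_inf (hX : X ≤ H) (hY : Y ≤ H) (h1 : kerIn θ ≤ X) (h2 : kerIn θ ≤ Y) :
    ⟪X ⊓ Y⟫ = ⟪X⟫ ⊓ ⟪Y⟫ := le_antisymm
  (le_inf (imageAlong_mono θ inf_le_left) (imageAlong_mono θ inf_le_right)) fun y hy => by
    obtain ⟨x, hx, rfl⟩ := (mem_imageAlong' hX).1 hy.1
    exact ex_mem (inf_le_left.trans hX) ⟨hx, (ex_mem_iff hY h2 (hX hx)).1 hy.2⟩

theorem exists_pre (hX : X ≤ H) (hT : kerIn θ ≤ X) {U' : Subgroup Γ'} (h : U' ≤ ⟪X⟫) :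
    ∃ U, kerIn θ ≤ U ∧ U ≤ X ∧ ⟪U⟫ = U' :=
  ⟨preimageAlong θ U', kerIn_le_preimage θ _, (preimageAlong_mono θ h).trans_eq
    (preimage_image hX hT), image_preimage (h.trans (imageAlong_le_range θ X))⟩

theorem pg_im (hX : IsPGroup p X) : IsPGroup p ⟪X⟫ := (hX.comap_subtype).map θ

theorem eq_im (hX : X ≤ H) (h : EQ p X Y) : EQ p ⟪X⟫ ⟪Y⟫ :=
  ⟨imageAlong_mono θ h.le, im_comm (θ := θ) hX hX ▸ imageAlong_mono θ h.comm, fun y hy => by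
    obtain ⟨x, hx, rfl⟩ := (mem_imageAlong' hX).1 hy
    exact ex_pow θ (hX hx) p ▸ ex_mem (θ := θ) (h.le.trans hX) (h.pow x hx)⟩

theorem eq_of_im (hX : X ≤ H) (hY : Y ≤ H) (h1 : kerIn θ ≤ X) (h2 : kerIn θ ≤ Y)
    (h : EQ p ⟪X⟫ ⟪Y⟫) : EQ p X Y :=
  ⟨(im_le_iff hY hX h1).1 h.le, (im_comm_le hX hX hY h2).1 h.comm, fun x hx =>
    (ex_mem_iff hY h2 (pow_mem (hX hx) p)).1 (ex_pow θ (hX hx) p ▸ h.pow _ (ex_mem hX hx))⟩

theorem im_ker : ⟪kerIn θ⟫ = ⊥ := (im_eq_bot (kerIn_le θ)).2 le_rfl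

theorem ea_im (hX : X ≤ H) (hT : kerIn θ ≤ X) : EA p ⟪X⟫ ↔ EQ p X (kerIn θ) :=
  ⟨fun h => eq_of_im hX (kerIn_le θ) hT le_rfl (im_ker (θ := θ) ▸ h.eq),
    fun h => (im_ker (θ := θ) ▸ eq_im hX h).ea⟩

theorem nc_le_of (hS : S ≤ G) (hK : K ≤ G) : nc S G K ≤ G := nc_le' hK hS le_normalizer

theorem im_nc (hG : G ≤ H) (hS : S ≤ G) (hK : K ≤ G) : ⟪nc S G K⟫ = nc ⟪S⟫ ⟪G⟫ ⟪K⟫ := by
  have hN := (nc_le_of hS hK).trans hG
  refine le_antisymm ((imageAlong_le_iff hN).2 fun x hx => (mem_preimageAlong.1 (nc_le (M :=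
    preimageAlong θ _) (fun k hk => ?_) (fun g hg s hs => ?_) hx)).2)
    (nc_le (imageAlong_mono θ k_le_nc) fun g hg s hs => ?_)
  · exact mem_preimageAlong.2 ⟨hG (hK hk), k_le_nc (ex_mem (hK.trans hG) hk)⟩
  · exact mem_preimageAlong.2 ⟨hN (conj_mem_nc hg hs), ex_conj θ (hG hg) (hG (hS hs)) ▸
      conj_mem_nc (ex_mem hG hg) (ex_mem (hS.trans hG) hs)⟩
  · obtain ⟨g, hg', rfl⟩ := (mem_imageAlong' hG).1 hg
    obtain ⟨s, hs', rfl⟩ := (mem_imageAlong' (hS.trans hG)).1 hs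
    exact ex_conj θ (hG hg') (hG (hS hs')) ▸ ex_mem hN (conj_mem_nc hg' hs')

variable [Finite Γ]

theorem im_norm [Finite Γ'] (hA : A ≤ H) (hX : X ≤ H) (h : A ≤ 𝐍(X)) : ⟪A⟫ ≤ 𝐍(⟪X⟫) :=
  norm_of_comm_le (im_comm (θ := θ) hA hX ▸ imageAlong_mono θ (comm_le_r h))

theorem norm_of_im (hA : A ≤ H) (hX : X ≤ H) (hT : kerIn θ ≤ X) (h : ⟪A⟫ ≤ 𝐍(⟪X⟫)) :
    A ≤ 𝐍(X) := norm_of_comm_le ((im_comm_le hA hX hX hT).1 (comm_le_r h))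

theorem norm_nc (hK : G ≤ 𝐍(K)) : G ≤ 𝐍(nc S G K) := fun g hg => mem_norm <| cn_le_iff.1 <|
  map_le_iff_le_comap.2 <| nc_le (fun k hk' => k_le_nc (conj_mem (hK hg) hk')) fun g' hg' s hs => by
    simpa [mul_assoc] using conj_mem_nc (K := K) (mul_mem hg hg') hs

theorem norm_nc' (hK : A ≤ 𝐍(K)) (hG : A ≤ 𝐍(G)) (hS : A ≤ 𝐍(S)) : A ≤ 𝐍(nc S G K) :=
  fun g hg => mem_norm <| cn_le_iff.1 <| map_le_iff_le_comap.2 <|
    nc_le (fun k hk' => k_le_nc (conj_mem (hK hg) hk')) fun g' hg' s hs => by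
      simpa [mul_assoc] using conj_mem_nc (K := K) (conj_mem (hG hg) hg') (conj_mem (hS hg) hs)

variable [hp : Fact p.Prime]

theorem im_pr (hN : N ≤ H) : ⟪pr p N⟫ = pr p ⟪N⟫ := by
  refine le_antisymm ((imageAlong_le_iff (pr_le.trans hN)).2 fun x hx => (mem_preimageAlong.1
    (pr_le' (M := preimageAlong θ _) (fun x hx hc => ?_) hx)).2) (pr_le' fun y hy hc => ?_)
  · exact mem_preimageAlong.2 ⟨hN hx, mem_pr (ex_mem hN hx) (hc.coprime_dvd_left (by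
      rw [orderOf_dvd_iff_pow_eq_one, ← ex_pow θ (hN hx), pow_orderOf_eq_one, ex_one]))⟩
  · obtain ⟨x, hx, rfl⟩ := (mem_imageAlong' hN).1 hy
    obtain ⟨j, hj⟩ := H90.exists_pow_p'_part (p := p) x hc
    have := ex_mem (θ := θ) (pr_le.trans hN) (mem_pr (pow_mem hx _) hj)
    rwa [ex_pow θ (hN hx), pow_add, pow_mul, pow_orderOf_eq_one, one_pow, mul_one, pow_one] at this

variable [Finite Γ']

theorem lg_im (hX : X ≤ H) (hT : kerIn θ ≤ X) : lg p ⟪X⟫ + lg p (kerIn θ) = lg p X := by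
  have h1 := card_preimageAlong (imageAlong_le_range θ X)
  rw [preimage_image hX hT] at h1
  rw [lg.eq_1 p X, h1, ← lg_add rfl, lg.eq_1 p (kerIn θ), kerIn, card_map_of_injective
    H.subtype_injective, lg.eq_1 p θ.ker]

theorem SR.im {k : ℕ} (h : SR p k S) (hS : S ≤ H) (hT : kerIn θ ≤ S) : SR p k ⟪S⟫ :=
  fun X' Y' hX e => by
    obtain ⟨X, h1, h2, rfl⟩ := exists_pre hS hT hX
    obtain ⟨Y, h3, h4, rfl⟩ := exists_pre (h2.trans hS) h1 e.le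
    have := h X Y h2 (eq_of_im (h2.trans hS) (h4.trans (h2.trans hS)) h1 h3 e)
    have := lg_im (p := p) (h2.trans hS) h1
    have := lg_im (p := p) (h4.trans (h2.trans hS)) h3
    omega

theorem Par.im (h : Par p S E G K B) (hG : G ≤ H) (hT : kerIn θ ≤ E) :
    Par p ⟪S⟫ ⟪E⟫ ⟪G⟫ ⟪K⟫ ⟪B⟫ := by
  have hS := h.sG.trans hG
  have hE := h.eG.trans hG
  have hK := h.kG.trans hG
  have hB := h.bG.trans hG
  refine ⟨pg_im h.pg, imageAlong_mono θ h.le, ?_, imageAlong_mono θ h.sB, imageAlong_mono θ h.bG,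
    im_norm hB hS h.nS, im_norm hG hE h.nE, imageAlong_mono θ h.kG, im_norm hG hK h.nK,
    (im_cent hK hE).2 ((comm_le_bot.2 h.cK).trans bot_le), ?_, ?_, fun g hg' h1 => ?_⟩
  · have := lg_im (p := p) hS (hT.trans h.le); have := lg_im (p := p) hE hT; have := h.idx; omega
  · have := lg_im (p := p) hG (hT.trans h.eG); have := h.syl
    have := lg_im (p := p) (sup_le hE hK) (hT.trans le_sup_left)
    rw [imageAlong_sup θ hE hK] at this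
    omega
  · rw [← imageAlong_sup θ hE hK, ← im_inf hS (sup_le hE hK) (hT.trans h.le) (hT.trans le_sup_left)]
    exact imageAlong_mono θ h.inf
  · obtain ⟨g, hg, rfl⟩ := (mem_imageAlong' hG).1 hg'
    rw [← imageAlong_sup θ hS hK] at h1
    rw [← imageAlong_sup θ hB hK]
    refine ex_mem (sup_le hB hK) (h.fr g hg (zpowers_le.1 (norm_of_im (zpowers_le.2 (hG hg))
      (sup_le hS hK) (hT.trans (h.le.trans le_sup_left)) ((imageAlong_le_iff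
        (zpowers_le.2 (hG hg))).2 ?_))))
    rintro _ ⟨k, rfl⟩
    exact ex_zpow (θ := θ) (hG hg) k ▸ zpow_mem h1 k

omit [Finite Γ'] in
theorem Par.im_L (h : Par p S E G K B) (hG : G ≤ H) :
    pr p (nc ⟪S⟫ ⟪G⟫ ⟪K⟫) = ⟪pr p (nc S G K)⟫ := by
  rw [im_pr (h.N_le.trans hG), im_nc hG h.sG h.kG]

omit [Finite Γ] [Finite Γ'] hp

theorem Ev.mono {k : ℤ} (h : Ev g X Y k) (h1 : U ≤ X) (h2 : Y ≤ V) : Ev g U V k :=
  fun x hx => h2 (h x (h1 hx))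

theorem ev_one (h : ∀ x ∈ X, ⁅g, x⁆ ∈ Y) : Ev g X Y 1 := fun x hx => by
  simpa [commutatorElement_def] using h x hx

theorem ev_one' (h : ⁅A, X⁆ ≤ Y) (hg : g ∈ A) : Ev g X Y 1 := ev_one fun _ => comm_mem h hg

theorem Ev.exists {k : ℤ} (h : Ev g X Y k) (hx : x ∈ X) : ∃ y ∈ Y, g * x * g⁻¹ = y * x ^ k :=
  ⟨_, h x hx, by simp⟩

theorem Ev.mul_cent {k : ℤ} (h : Ev (g * a) X Y k) (ha : a ∈ 𝐂(X)) : Ev g X Y k := fun x hx => by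
  have := h x hx
  rwa [show g * a * x * (g * a)⁻¹ = g * (a * x * a⁻¹) * g⁻¹ by group, conj_eq ha hx] at this

theorem Ev.inf {k : ℤ} (h : Ev g X Y k) (hU : g ∈ 𝐍(U)) : Ev g (X ⊓ U) (Y ⊓ U) k := fun x hx =>
  ⟨h x hx.1, U.mul_mem (conj_mem hU hx.2) (U.inv_mem (U.zpow_mem hx.2 k))⟩

theorem comm_bil {x x' y y' : Γ} (h1 : Commute x ⁅x, y⁆) (h2 : Commute y ⁅x, y⁆)
    (h3 : Commute x' y) (h4 : Commute x' y') (h5 : Commute x y') (h6 : Commute x' ⁅x, y⁆)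
    (h7 : Commute y' ⁅x, y⁆) (a b : ℤ) : ⁅x' * x ^ a, y' * y ^ b⁆ = ⁅x, y⁆ ^ (a * b) := by
  have e1 : ⁅x ^ a, y ^ b⁆ = ⁅x, y⁆ ^ (a * b) := by
    rw [H5.commutator_zpow_right, H5.commutator_zpow_left h1, zpow_mul]
    rw [H5.commutator_zpow_left h1]; exact h2.zpow_right a
  have e2 : ⁅x ^ a, y' * y ^ b⁆ = ⁅x, y⁆ ^ (a * b) := by
    rw [show ⁅x ^ a, y' * y ^ b⁆ = ⁅x ^ a, y'⁆ * (y' * ⁅x ^ a, y ^ b⁆ * y'⁻¹) by
      simp only [commutatorElement_def]; group, e1, (h5.zpow_left a).commutator_eq,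
      (h7.zpow_right _).eq, one_mul, mul_inv_cancel_right]
  rw [show ⁅x' * x ^ a, y' * y ^ b⁆ = x' * ⁅x ^ a, y' * y ^ b⁆ * x'⁻¹ * ⁅x', y' * y ^ b⁆ by
    simp only [commutatorElement_def]; group, e2, (h4.mul_right (h3.zpow_right b)).commutator_eq,
    (h6.zpow_right _).eq, mul_one, mul_inv_cancel_right]

theorem comm_bil' {X' Y' : Subgroup Γ} (n1 : X ≤ 𝐍(V)) (n2 : Y ≤ 𝐍(V)) (h : ⁅X, Y⁆ ≤ U)
    (h1 : ⁅X, U⁆ ≤ V) (h2 : ⁅Y, U⁆ ≤ V) (h3 : ⁅X', Y⁆ ≤ V) (h4 : ⁅X, Y'⁆ ≤ V) (h5 : X' ≤ X)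
    (h6 : Y' ≤ Y) (hx : x ∈ X) (hy : y ∈ Y) {x' y' : Γ} (hx' : x' ∈ X') (hy' : y' ∈ Y') (a b : ℤ) :
    ⁅x' * x ^ a, y' * y ^ b⁆ * (⁅x, y⁆ ^ (a * b))⁻¹ ∈ V := by
  obtain ⟨Γ', _, θ, e⟩ : ∃ (Γ' : Type u) (_ : Group Γ') (θ : 𝐍(V) →* Γ'), kerIn θ = V :=
    have := normal_subgroupOf_of_le_normalizer (le_refl 𝐍(V))
    ⟨_, _, _, kerIn_mk' le_normalizer⟩
  have hc := comm_mem h hx hy
  have hcN : ⁅x, y⁆ ∈ 𝐍(V) := comm_mem_r (le_normalizer (n1 hx)) (n2 hy)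
  have k : ∀ {u v}, u ∈ 𝐍(V) → v ∈ 𝐍(V) → ⁅u, v⁆ ∈ V → Commute (ex θ u) (ex θ v) :=
    fun hu hv h => commutatorElement_eq_one_iff_commute.1 (by
      rw [← ex_comm hu hv, ex_eq_one (comm_mem_r (le_normalizer hu) hv), e]; exact h)
  have m1 := mul_mem (n1 (h5 hx')) (zpow_mem (n1 hx) a)
  have m2 := mul_mem (n2 (h6 hy')) (zpow_mem (n2 hy) b)
  have := ex_div (θ := θ) (comm_mem_r (le_normalizer m1) m2) (zpow_mem hcN (a * b))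
  rw [e] at this
  rw [this, ex_comm m1 m2, ex_mul θ (n1 (h5 hx')) (zpow_mem (n1 hx) a),
    ex_mul θ (n2 (h6 hy')) (zpow_mem (n2 hy) b), ex_zpow (n1 hx), ex_zpow (n2 hy), ex_zpow hcN,
    ex_comm (n1 hx) (n2 hy)]
  refine comm_bil ?_ ?_ (k (n1 (h5 hx')) (n2 hy) (comm_mem h3 hx' hy))
    (k (n1 (h5 hx')) (n2 (h6 hy')) (comm_mem h3 hx' (h6 hy')))
    (k (n1 hx) (n2 (h6 hy')) (comm_mem h4 hx hy')) ?_ ?_ a b <;> rw [← ex_comm (n1 hx) (n2 hy)]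
  exacts [k (n1 hx) hcN (comm_mem h1 hx hc), k (n2 hy) hcN (comm_mem h2 hy hc),
    k (n1 (h5 hx')) hcN (comm_mem h1 (h5 hx') hc), k (n2 (h6 hy')) hcN (comm_mem h2 (h6 hy') hc)]

variable [hp : Fact p.Prime]

theorem mem_of_zpow {k : ℤ} (h1 : x ^ p ∈ V) (h2 : x ^ k ∈ V) (h : ¬ (p : ℤ) ∣ k) : x ∈ V := by
  by_contra e
  exact h (H5.dvd_of_zpow_mem hp.out e h1 h2)

theorem mem_of_ev {a b : ℤ} (h1 : g * x * g⁻¹ * (x ^ a)⁻¹ ∈ V) (h2 : g * x * g⁻¹ * (x ^ b)⁻¹ ∈ V)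
    (h3 : x ^ p ∈ V) (h : ¬ (p : ℤ) ∣ a - b) : x ∈ V :=
  mem_of_zpow h3 (by simpa [mul_assoc, zpow_sub] using mul_mem (inv_mem h1) h2) h

/-- Eigenvalues multiply under a nonzero commutator map. -/
theorem comm_ev {X' Y' : Subgroup Γ} {a b c : ℤ} (n1 : X ≤ 𝐍(V)) (n2 : Y ≤ 𝐍(V))
    (h : ⁅X, Y⁆ ≤ U) (h1 : ⁅X, U⁆ ≤ V) (h2 : ⁅Y, U⁆ ≤ V) (h3 : ⁅X', Y⁆ ≤ V) (h4 : ⁅X, Y'⁆ ≤ V)
    (h5 : X' ≤ X) (h6 : Y' ≤ Y) (h7 : ∀ y ∈ Y, y ^ p ∈ Y') (e1 : Ev g X X' a) (e2 : Ev g Y Y' b)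
    (e3 : Ev g U V c) (e : ¬ (p : ℤ) ∣ a * b - c) : ⁅X, Y⁆ ≤ V :=
  commutator_le.2 fun x hx y hy => by
    obtain ⟨x', hx', e4⟩ := e1.exists hx
    obtain ⟨y', hy', e5⟩ := e2.exists hy
    refine mem_of_ev (g := g) ?_ (e3 _ (comm_mem h hx hy)) ?_ e
    · rw [conj_comm, e4, e5]; exact comm_bil' n1 n2 h h1 h2 h3 h4 h5 h6 hx hy hx' hy' a b
    · have := comm_bil' n1 n2 h h1 h2 h3 h4 h5 h6 hx hy (one_mem _) (one_mem _) 1 p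
      simp only [one_mul, zpow_one, zpow_natCast] at this
      exact (inv_mem_iff (H := V)).1 (mem_of_mul' this (comm_mem h4 hx (h7 y hy)))

/-- The power map of an abelian group respects eigenvalues. -/
theorem pow_ev {a c : ℤ} (hX : X ≤ 𝐂(X)) (hY : Y ≤ X) (h1 : ∀ y ∈ Y, y ^ p ∈ V)
    (h2 : ∀ x ∈ X, x ^ p ∈ U) (h3 : ∀ x ∈ U, x ^ p ∈ V) (e1 : Ev g X Y a) (e2 : Ev g U V c)
    (e : ¬ (p : ℤ) ∣ a - c) : ∀ x ∈ X, x ^ p ∈ V := fun x hx => by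
  obtain ⟨y, hy, e4⟩ := e1.exists hx
  refine mem_of_ev (g := g) ?_ (e2 _ (h2 x hx)) (h3 _ (h2 x hx)) e
  rw [← conj_pow, e4, Commute.mul_pow (hX (zpow_mem hx a) y (hY hy)), ← zpow_natCast (x ^ a),
    zpow_comm, zpow_natCast, mul_inv_cancel_right]
  exact h1 y hy

variable [Finite Γ]

theorem exists_comm_of_lg (hX : IsPGroup p X) (hU : IsPGroup p U) (hV : V ≤ U) (hn : X ≤ 𝐍(V))
    (h : ∀ x ∈ X, ⁅x, a⁆ ∈ U) (e : lg p (X ⊓ cz a V) + lg p U ≤ lg p X + lg p V) (hy : y ∈ U) :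
    ∃ x ∈ X, ⁅x, a⁆ * y ∈ V := by
  have h0 := lg_cz hX hU hV hn h
  obtain ⟨i, hi⟩ := Nat.exists_eq_add_of_le (lg_mono (p := p) (inf_le_left : X ⊓ cz a V ≤ X))
  obtain ⟨j, hj⟩ := Nat.exists_eq_add_of_le (lg_mono (p := p) hV)
  have h1 : Function.Bijective (Quotient.map' (s₁ := QuotientGroup.leftRel
      ((X ⊓ cz a V).subgroupOf X)) (s₂ := QuotientGroup.leftRel (V.subgroupOf U))
      (fun x : X => (⟨⁅x.1, a⁆⁻¹, inv_mem (h x x.2)⟩ : U)) fun x y e => by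
      rw [QuotientGroup.leftRel_apply] at e ⊢
      have := conj_mem (hn x.2) (inv_mem e.2.2)
      refine mem_subgroupOf.2 ?_
      convert this using 1
      simp only [commutatorElement_def, coe_mul, coe_inv, coe_subtype]; group) := by
    refine (Nat.bijective_iff_injective_and_card _).2 ⟨?_, ?_⟩
    · rintro ⟨x⟩ ⟨y⟩ e
      have e' := QuotientGroup.eq.1 e
      refine QuotientGroup.eq.2 ⟨(x⁻¹ * y).2, hn (x⁻¹ * y).2, ?_⟩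
      have := inv_mem (conj_mem' (hn x.2) (mem_subgroupOf.1 e'))
      convert this using 1
      simp only [commutatorElement_def, coe_mul, coe_inv, coe_subtype]; group
    · show (X ⊓ cz a V).relIndex X = V.relIndex U
      rw [relIndex_eq hX inf_le_left hi.symm, relIndex_eq hU hV hj.symm]
      congr 1; omega
  obtain ⟨⟨x⟩, hx⟩ := h1.2 (QuotientGroup.mk ⟨y, hy⟩)
  exact ⟨x, x.2, by simpa using mem_subgroupOf.1 (QuotientGroup.eq.1 hx)⟩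

theorem ev_of_lg (hX : IsPGroup p X) (h : Y ≤ X) (e : lg p X ≤ lg p Y + 1) (n1 : g ∈ 𝐍(X))
    (n2 : g ∈ 𝐍(Y)) : ∃ k, Ev g X Y k := by
  by_cases h1 : X ≤ Y
  · exact ⟨0, fun x hx => by simpa using conj_mem n2 (h1 hx)⟩
  obtain ⟨x, hx, hx'⟩ := SetLike.not_le_iff_exists.1 h1
  have hn := norm_of_lg hX h e
  obtain ⟨V, _, _, ⟨A⟩⟩ := exists_act (H := zpowers g) (eq_of_index hX h e) (zpowers_le.2 n1)
    (zpowers_le.2 n2)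
  have key : ∀ y ∈ X, ∃ i : ℤ, A.π y = A.π x ^ i := fun y hy => by
    obtain ⟨z, hz, i, rfl⟩ := (H5.mem_sup_zpowers_iff (hn hx)).1 (le_sup_zpowers hX h e hx hx' hy)
    exact ⟨i, by rw [A.π_mul (h hz) (zpow_mem hx i), (A.π_one (h hz)).2 hz, one_mul, A.π_zpow hx]⟩
  obtain ⟨k, hk⟩ := key _ (conj_mem n1 hx)
  refine ⟨k, fun y hy => ?_⟩
  obtain ⟨i, hi⟩ := key y hy
  rw [A.ev_iff (mem_zpowers g) hy, hi, map_zpow, ← A.π_conj (mem_zpowers g) hx, hk, zpow_comm]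

theorem comm_mem_rc (hX : IsPGroup p X) (h : Y ≤ X) (e : lg p X ≤ lg p Y + 1) (n1 : A ≤ 𝐍(X))
    (n2 : A ≤ 𝐍(Y)) (ha : a ∈ A) (hg : g ∈ A) : ⁅a, g⁆ ∈ relCentralizer X Y := by
  obtain ⟨i, hi⟩ := ev_of_lg hX h e (n1 ha) (n2 ha)
  obtain ⟨j, hj⟩ := ev_of_lg hX h e (n1 hg) (n2 hg)
  obtain ⟨V, _, _, ⟨C⟩⟩ := exists_act (eq_of_index hX h e) n1 n2
  have hc := comm_mem_r (le_normalizer ha) hg
  refine ⟨n2 hc, (C.t_eq_one hc).1 ?_⟩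
  rw [show (⟨_, hc⟩ : A) = ⁅(⟨a, ha⟩ : A), (⟨g, hg⟩ : A)⁆ from rfl, map_commutatorElement,
    commutatorElement_eq_one_iff_mul_comm]
  ext v
  obtain ⟨x, hx, rfl⟩ := C.π_surj v
  rw [MulAut.mul_apply, MulAut.mul_apply, (C.ev_iff ha hx).1 (hi x hx), (C.ev_iff hg hx).1 (hj x hx),
    map_zpow, map_zpow, (C.ev_iff ha hx).1 (hi x hx), (C.ev_iff hg hx).1 (hj x hx), zpow_comm]

theorem le_of_syl {J R : Subgroup Γ} (h1 : J ≤ R) (h2 : lg p R ≤ lg p J) (h3 : J ≤ M)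
    (h4 : ∀ x ∈ R, (orderOf x).Coprime p → x ∈ M) : R ≤ M := by
  obtain ⟨P, -, h5, h6⟩ := exists_syl (p := p) IsPGroup.of_bot (bot_le : ⊥ ≤ J)
  exact H90.mem_of_sylowIn_of_p'_elts (h6 R h1 h2) (h5.trans h3) h4

theorem le_of_comm_sup (hS : IsPGroup p S) (hX : X ≤ S) (n1 : S ≤ 𝐍(X)) (n2 : S ≤ 𝐍(Y))
    (hY : Y ≤ X) (h : X ≤ ⁅S, X⁆ ⊔ Y) : X ≤ Y := by
  induction hk : lg p X - lg p Y using Nat.strong_induction_on generalizing Y with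
  | _ k ih =>
  by_contra h1
  obtain ⟨x, hx, hx', h2, h3⟩ := H5.exists_step_of_le hS Y hX n1 h1
  have h4 := lg_sup_zpowers (n2 (hX hx)) h2 hx'
  have h5 : Y ⊔ zpowers x ≤ X := sup_le hY (zpowers_le.2 hx)
  have h6 : ⁅Y ⊔ zpowers x, S⁆ ≤ Y := comm_le_of_rc (sup_le
    (le_rc (hY.trans (hX.trans n2)) (comm_le_l n2)) (zpowers_le.2 ⟨n2 (hX hx), h3⟩))
  have h7 := lg_lt (hS.to_le hX) hY h1
  have h8 := ih _ (by omega) (norm_of_comm_le ((comm_le_symm h6).trans le_sup_left)) h5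
    (h.trans (sup_le_sup_left le_sup_left _)) rfl
  exact h1 (h.trans (sup_le ((commutator_mono le_rfl h8).trans (comm_le_symm h6)) le_rfl))

end H93.R3
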