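import Mathlib
import Cfsg.Agent.Base
import Cfsg.Agent.Lib.R3.Quot

/-!
Elementary abelian sections of rank at most three.
-/

set_option autoImplicit false

namespace H93.R3

open Subgroup H2 H91 Cfsg Cfsg.FusionSystem
open scoped commutatorElement Pointwise

local notation:max "𝐍(" A ")" => Subgroup.normalizer (SetLike.coe A)
local notation:max "𝐂(" A ")" => Subgroup.centralizer (SetLike.coe A)

universe u

variable {Γ : Type u} [Group Γ] {p : ℕ} {S E G K B H M N T A Q X Y Z U V : Subgroup Γ}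
  {E₁ E₂ G₁ G₂ K₁ K₂ : Subgroup Γ} {a g s x y : Γ}

/-- The `p`-th power map of `Q` is a homomorphism. -/
def PH (p : ℕ) (Q : Subgroup Γ) : Prop := ∀ a ∈ Q, ∀ b ∈ Q, (a * b) ^ p = a ^ p * b ^ p

/-- The elements of `Q` whose `p`-th power lies in `X`. -/
def pw (h : PH p Q) (X : Subgroup Γ) : Subgroup Γ where
  carrier := {x | x ∈ Q ∧ x ^ p ∈ X}
  one_mem' := ⟨one_mem _, by simp⟩
  mul_mem' := fun {a b} ha hb => ⟨mul_mem ha.1 hb.1, h a ha.1 b hb.1 ▸ mul_mem ha.2 hb.2⟩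
  inv_mem' := fun {a} ha => ⟨inv_mem ha.1, inv_pow a p ▸ inv_mem ha.2⟩

theorem mem_pw {h : PH p Q} : x ∈ pw h X ↔ x ∈ Q ∧ x ^ p ∈ X := Iff.rfl
theorem pw_le {h : PH p Q} : pw h X ≤ Q := fun _ h => h.1

theorem ph_of (hp : Odd p) (h1 : ⁅Q, Q⁆ ≤ Z) (h2 : Q ≤ 𝐂(Z)) (h3 : ∀ z ∈ Z, z ^ p = 1) :
    PH p Q := fun _ ha _ hb => H5.mul_pow_eq_of_class_two_of_odd
  (h2 ha _ (comm_mem h1 hb ha)).symm (h2 hb _ (comm_mem h1 hb ha)).symm hp (h3 _ (comm_mem h1 hb ha))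

theorem norm_pw [Finite Γ] {h : PH p Q} (h1 : A ≤ 𝐍(Q)) (h2 : A ≤ 𝐍(X)) : A ≤ 𝐍(pw h X) :=
  le_norm fun _ hg _ hx => ⟨conj_mem (h1 hg) hx.1, by rw [conj_pow]; exact conj_mem (h2 hg) hx.2⟩

theorem PH.cent (h : PH p Q) (hU : U ≤ Q) (hX : X ≤ Q) (h1 : ⁅A, U⁆ ≤ X) (h2 : ∀ x ∈ X, x ^ p = 1) :
    A ≤ 𝐂(mho p U) := cent_symm (mho_le.2 fun x hx a ha => by
  have := h _ (hX (comm_mem h1 ha hx)) x (hU hx)
  rw [h2 _ (comm_mem h1 ha hx), one_mul, ← H5.conj_eq_commutator_mul, conj_pow] at this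
  exact mul_inv_eq_iff_eq_mul.1 this)

theorem pow_nc (h : PH p Q) (h1 : X ≤ Q) (h2 : G ≤ 𝐍(Q)) (h3 : ∀ x ∈ X, x ^ p = 1) :
    ∀ x ∈ nc X G ⊥, x ^ p = 1 := fun _ hx => mem_bot.1 (nc_le (M := pw h ⊥) bot_le
  (fun _ hg _ hs => ⟨conj_mem (h2 hg) (h1 hs), by rw [conj_pow, h3 _ hs]; simp⟩) hx).2

variable [Finite Γ] [hp : Fact p.Prime]

theorem comm_cyc (hQ : IsPGroup p Q) (hZ : Z ≤ Q) (e : lg p Q ≤ lg p Z + 2) (n : Q ≤ 𝐍(Y))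
    (h1 : ⁅Z, Q⁆ ≤ Y) (h2 : ⁅⁅Q, Q⁆, Q⁆ ≤ Y) (h3 : ∀ c ∈ ⁅Q, Q⁆, c ^ p ∈ Y) :
    lg p (⁅Q, Q⁆ ⊔ Y) ≤ lg p Y + 1 := by
  rcases hZ.eq_or_lt with rfl | h4
  · rw [sup_eq_right.2 h1]; omega
  obtain ⟨x, hx, hx', h5, h6⟩ := H5.exists_mem_normalizer_of_lt hQ h4
  have h7 := lg_sup_zpowers h6 h5 hx'
  have hM : Z ⊔ zpowers x ≤ Q := sup_le hZ (zpowers_le.2 hx)
  obtain ⟨y, hy, h8⟩ : ∃ y ∈ Q, Q ≤ Z ⊔ zpowers x ⊔ zpowers y := by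
    by_cases h8 : Q ≤ Z ⊔ zpowers x
    · exact ⟨1, one_mem _, h8.trans le_sup_left⟩
    · obtain ⟨y, hy, hy'⟩ := SetLike.not_le_iff_exists.1 h8
      exact ⟨y, hy, le_sup_zpowers hQ hM (by omega) hy hy'⟩
  have hc : ⁅x, y⁆ ∈ ⁅Q, Q⁆ := commutator_mem_commutator hx hy
  have hcQ := comm_le_r le_normalizer hc
  have nU : Q ≤ 𝐍(Y ⊔ zpowers ⁅x, y⁆) := norm_of_comm_le ((comm_le_symm (comm_le_of_rc (sup_le
    (le_rc le_normalizer (comm_le_l n)) (zpowers_le.2 ⟨n hcQ, fun _ => comm_mem h2 hc⟩)))).trans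
    le_sup_left)
  have h1' : ⁅Z, Q⁆ ≤ Y ⊔ zpowers ⁅x, y⁆ := h1.trans le_sup_left
  have a1 := lg_comm (hQ.to_le hM) (hM.trans nU) (hM.trans nU) le_rfl le_rfl
    ((commutator_mono le_rfl hM).trans h1') (comm_le_symm ((commutator_mono le_rfl hM).trans h1'))
    le_sup_left le_sup_left (mem_sup_right (mem_zpowers x)) (mem_sup_right (mem_zpowers x)) (by simp)
  have a2 := lg_comm (hQ.to_le hM) nU (hM.trans nU) le_rfl h8 h1' a1 le_sup_left hM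
    (mem_sup_right (mem_zpowers x)) hy (mem_sup_right (mem_zpowers _))
  have a3 := lg_comm hQ nU nU h8 h8 a2 (comm_le_symm a2) hM hM hy hy (by simp)
  exact (lg_mono (sup_le a3 le_sup_left)).trans (lg_sup_zpowers_le (n hcQ) (h3 _ hc))

theorem exists_chain (hS : IsPGroup p S) (hX : X ≤ S) (n1 : S ≤ 𝐍(X)) (n2 : S ≤ 𝐍(Y)) (h : Y ≤ X)
    (k : ℕ) (e : lg p Y + k ≤ lg p X) : ∃ M, Y ≤ M ∧ M ≤ X ∧ lg p M = lg p Y + k ∧ S ≤ 𝐍(M) := by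
  induction k with
  | zero => exact ⟨Y, le_rfl, h, rfl, n2⟩
  | succ k ih =>
    obtain ⟨M, h1, h2, h3, h4⟩ := ih (by omega)
    obtain ⟨x, hx, hx', h5, h6⟩ := H5.exists_step_of_le hS M hX n1
      fun e => by have := lg_mono (p := p) e; omega
    exact ⟨M ⊔ zpowers x, h1.trans le_sup_left, sup_le h2 (zpowers_le.2 hx), by
      rw [lg_sup_zpowers (h4 (hX hx)) h5 hx', h3, add_assoc], norm_of_comm_le ((comm_le_symm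
      (comm_le_of_rc (sup_le (le_rc le_normalizer (comm_le_l h4))
        (zpowers_le.2 ⟨h4 (hX hx), h6⟩)))).trans le_sup_left)⟩

theorem exists_gen (hX : IsPGroup p X) (h : Y ≤ X) (e : lg p X ≤ lg p Y + 1) :
    ∃ x ∈ X, X ≤ Y ⊔ zpowers x := by
  by_cases h1 : X ≤ Y
  · exact ⟨1, one_mem _, h1.trans le_sup_left⟩
  · obtain ⟨y, hy, hy'⟩ := SetLike.not_le_iff_exists.1 h1
    exact ⟨y, hy, le_sup_zpowers hX h e hy hy'⟩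

omit hp in
theorem mem_rc_of (h : Y ≤ X) (h1 : ∀ y ∈ X, ⁅x, y⁆ ∈ Y) : x ∈ relCentralizer X Y :=
  ⟨mem_norm fun y hy => by simpa [commutatorElement_def] using mul_mem (h1 y (h hy)) hy, h1⟩

omit [Finite Γ] hp in
theorem comm_mem_of_gen (h : X ≤ Y ⊔ zpowers y) (n : X ≤ 𝐍(U)) (hY : Y ≤ X) (hy : y ∈ X)
    (h1 : ∀ z ∈ Y, ⁅x, z⁆ ∈ U) (h2 : ⁅x, y⁆ ∈ U) : ∀ z ∈ X, ⁅x, z⁆ ∈ U := fun _ hz =>
  comm_symm (h.trans (sup_le (fun z hz => ⟨n (hY hz), comm_symm (h1 z hz)⟩)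
    (zpowers_le.2 ⟨n hy, comm_symm h2⟩) : _ ≤ cz x U) hz).2

theorem lg_rc (hS : IsPGroup p S) (hX : X ≤ S) (n1 : S ≤ 𝐍(X)) (n2 : S ≤ 𝐍(Y)) (h : Y ≤ X)
    (e : lg p X ≤ lg p Y + 2) : lg p S ≤ lg p (S ⊓ relCentralizer X Y) + 1 := by
  have := lg_mono (p := p) h
  obtain ⟨M, h1, h2, h3, h4⟩ := exists_chain hS hX n1 n2 h (min 1 (lg p X - lg p Y)) (by omega)
  obtain ⟨w, hw, h5⟩ := exists_gen (hS.to_le hX) h2 (by omega)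
  have h6 := lg_cz hS (hS.to_le (h2.trans hX)) h1 n2
    fun x hx => comm_mem (comm_le_of_lg hS hX h2 (by omega) n1 h4) hx hw
  have h7 : S ⊓ cz w Y ≤ S ⊓ relCentralizer X Y := fun x hx => ⟨hx.1, n2 hx.1, comm_mem_of_gen h5
    (hX.trans n2) h2 hw (fun _ => comm_mem (comm_le_of_lg hS (h2.trans hX) h1 (by omega) h4 n2) hx.1)
    (mem_cz.1 hx.2).2⟩
  have := lg_mono (p := p) h7
  omega

namespace Par

variable (h : Par p S E G K B)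
include h

theorem eq_rc (hX : X ≤ E) (n1 : G ≤ 𝐍(X)) (n2 : G ≤ 𝐍(Y)) (h1 : ⁅E, X⁆ ≤ Y)
    (hn : ¬ ⁅pr p (nc S G K), X⁆ ≤ Y) : S ⊓ relCentralizer X Y = E :=
  h.eq_of (le_rc (h.eG.trans n2) h1) fun e => hn (h.cL' hX n1 n2 (comm_le_of_rc e))

theorem inf_cent_le (hX : X ≤ E) (n1 : G ≤ 𝐍(X)) (hn : ¬ pr p (nc S G K) ≤ 𝐂(X)) :
    S ⊓ 𝐂(X) ≤ E := fun s hs => by_contra fun e => hn (h.cL0 hX n1 hs.1 e hs.2)

theorem v3 (hX : X ≤ E) (e : EQ p X Y) (n1 : G ≤ 𝐍(X)) (n2 : G ≤ 𝐍(Y))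
    (hl : lg p X ≤ lg p Y + 3) (hn : ¬ ⁅pr p (nc S G K), X⁆ ≤ Y) : ⁅E, X⁆ ≤ Y ∨
    (lg p X = lg p Y + 3 ∧ lg p (⁅S, X⁆ ⊔ Y) = lg p Y + 2 ∧ G ≤ 𝐍(⁅S, X⁆ ⊔ Y) ∧
      ⁅E, ⁅S, X⁆ ⊔ Y⁆ ≤ Y ∧ ¬ ⁅pr p (nc S G K), ⁅S, X⁆ ⊔ Y⁆ ≤ Y) ∨
    (lg p X = lg p Y + 3 ∧ lg p (X ⊓ relCentralizer S Y) = lg p Y + 1 ∧
      G ≤ 𝐍(X ⊓ relCentralizer S Y) ∧ ⁅E, X⁆ ≤ X ⊓ relCentralizer S Y ∧
      ¬ ⁅pr p (nc S G K), X⁆ ≤ X ⊓ relCentralizer S Y) := by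
  refine or_iff_not_imp_left.2 fun h0 => ?_
  have hXY : ¬ X ≤ Y := fun e1 => h0 ((comm_le_r (h.eG.trans n1)).trans e1)
  have nU := norm_sup (norm_comm h.nE n1) n2
  have hU : ⁅E, X⁆ ⊔ Y ≤ X := sup_le (comm_le_r (h.eG.trans n1)) e.le
  have h1 : ¬ X ≤ ⁅E, X⁆ ⊔ Y := fun e1 =>
    hXY (le_of_comm_sup h.pE hX (h.eG.trans n1) (h.eG.trans n2) e.le e1)
  have h2 : ¬ ⁅E, X⁆ ⊔ Y ≤ Y := fun e1 => h0 (le_sup_left.trans e1)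
  have pX := h.pE.to_le hX
  have h3 := lg_lt pX hU h1
  have h4 := lg_lt (pX.to_le hU) le_sup_right h2
  have h5 : lg p X = lg p Y + 3 := le_antisymm hl (not_lt.1 fun e1 =>
    hn (h.cL2 hX n1 nU n2 le_sup_right hU (by omega) h2 h1))
  rcases (show lg p (⁅E, X⁆ ⊔ Y) = lg p Y + 2 ∨ lg p (⁅E, X⁆ ⊔ Y) = lg p Y + 1 by omega) with
    h6 | h6
  · have h7 : ¬ ⁅pr p (nc S G K), ⁅E, X⁆ ⊔ Y⁆ ≤ Y := fun e1 =>
      hn (h.trans (hU.trans hX) n2 (h.cL1 hX n1 nU hU (by omega)) e1)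
    have h8 : ⁅S, X⁆ ⊔ Y = ⁅E, X⁆ ⊔ Y := le_antisymm (sup_le (comm_le_of_lg h.pg (hX.trans h.le) hU
      (by omega) (h.sG.trans n1) (h.sG.trans nU)) le_sup_right)
      (sup_le_sup_right (commutator_mono h.le le_rfl) _)
    refine Or.inl ⟨h5, h8 ▸ h6, h8 ▸ nU, h8 ▸ by_contra fun e1 => h7 ?_, h8 ▸ h7⟩
    exact h.cL2 (hU.trans hX) nU (norm_sup (norm_comm h.nE nU) n2) n2 le_sup_right
      (sup_le (comm_le_r (h.eG.trans nU)) le_sup_right) h6.le (fun e2 => e1 (le_sup_left.trans e2))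
      fun e2 => h2 (le_of_comm_sup h.pE (hU.trans hX) (h.eG.trans nU) (h.eG.trans n2) le_sup_right e2)
  · have h7 : ¬ ⁅pr p (nc S G K), X⁆ ≤ ⁅E, X⁆ ⊔ Y := fun e1 =>
      hn (h.trans (hU.trans hX) n2 e1 (h.cL1 (hU.trans hX) nU n2 le_sup_right h6.le))
    have h9 : ⁅E, X⁆ ⊔ Y ≤ X ⊓ relCentralizer S Y := le_inf hU (le_rc
      (hU.trans (hX.trans (h.eG.trans n2))) (comm_le_symm (comm_le_of_lg h.pg
        (hU.trans (hX.trans h.le)) le_sup_right h6.le (h.sG.trans nU) (h.sG.trans n2))))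
    have h10 : X ⊓ relCentralizer S Y ≤ X ⊓ relCentralizer E Y :=
      inf_le_inf_left _ fun x hx => ⟨hx.1, fun z hz => hx.2 z (h.le hz)⟩
    have h8 : X ⊓ relCentralizer S Y = ⁅E, X⁆ ⊔ Y := le_antisymm (h10.trans (by_contra fun e1 =>
      h7 (h.cL2 hX n1 (norm_inf n1 (norm_rc h.nE n2)) nU (h9.trans h10) inf_le_left (by omega) e1
        fun e2 => h0 (comm_le_symm (comm_le_of_rc (e2.trans inf_le_right)))))) h9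
    exact Or.inr ⟨h5, h8 ▸ h6, h8 ▸ nU, h8 ▸ le_sup_left, h8 ▸ h7⟩

theorem v3' (hX : X ≤ E) (e : EQ p X Y) (n1 : G ≤ 𝐍(X)) (n2 : G ≤ 𝐍(Y))
    (hl : lg p X ≤ lg p Y + 3) (hn : ¬ ⁅pr p (nc S G K), X⁆ ≤ Y) : ∃ U V, Y ≤ U ∧ U ≤ X ∧
      Y ≤ V ∧ V ≤ X ∧ (∀ A, A ≤ 𝐍(S) → A ≤ 𝐍(X) → A ≤ 𝐍(Y) → A ≤ 𝐍(U) ∧ A ≤ 𝐍(V)) ∧
      S ⊓ relCentralizer U V = E := by
  have hU : ⁅S, X⁆ ⊔ Y ≤ X := sup_le (comm_le_r (h.sG.trans n1)) e.le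
  rcases h.v3 hX e n1 n2 hl hn with h1 | ⟨-, -, h1, h2, h3⟩ | ⟨-, -, h1, h2, h3⟩
  · exact ⟨X, Y, e.le, le_rfl, le_rfl, e.le, fun _ _ a b => ⟨a, b⟩, h.eq_rc hX n1 n2 h1 hn⟩
  · exact ⟨_, Y, le_sup_right, hU, le_rfl, e.le, fun _ a b c => ⟨norm_sup (norm_comm a b) c, c⟩,
      h.eq_rc (hU.trans hX) h1 n2 h2 h3⟩
  · exact ⟨X, _, e.le, le_rfl, le_inf e.le (le_rc le_normalizer (comm_le_l (h.sG.trans n2))),
      inf_le_left, fun _ a b c => ⟨b, norm_inf b (norm_rc a c)⟩, h.eq_rc hX n1 h1 h2 h3⟩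

end Par

/-- Two different subgroups of index `p` of `S`, each with its group. -/
structure Am (p : ℕ) (S E₁ E₂ G₁ G₂ K₁ K₂ B : Subgroup Γ) : Prop where
  a : Par p S E₁ G₁ K₁ B
  b : Par p S E₂ G₂ K₂ B
  ne : ¬ E₁ ≤ E₂
  ne' : ¬ E₂ ≤ E₁
  sr : SR p 3 S

omit [Finite Γ] hp in
theorem Am.symm (h : Am p S E₁ E₂ G₁ G₂ K₁ K₂ B) : Am p S E₂ E₁ G₂ G₁ K₂ K₁ B :=
  ⟨h.b, h.a, h.ne', h.ne, h.sr⟩

theorem Am.im {Γ' : Type u} [Group Γ'] [Finite Γ'] {θ : H →* Γ'} (h : Am p S E₁ E₂ G₁ G₂ K₁ K₂ B)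
    (g1 : G₁ ≤ H) (g2 : G₂ ≤ H) (h1 : kerIn θ ≤ E₁) (h2 : kerIn θ ≤ E₂) :
    Am p (imageAlong θ S) (imageAlong θ E₁) (imageAlong θ E₂) (imageAlong θ G₁) (imageAlong θ G₂)
      (imageAlong θ K₁) (imageAlong θ K₂) (imageAlong θ B) :=
  have a := h.a.eG.trans g1
  have b := h.b.eG.trans g2
  ⟨h.a.im g1 h1, h.b.im g2 h2, fun e => h.ne ((im_le_iff a b h2).1 e),
    fun e => h.ne' ((im_le_iff b a h1).1 e), h.sr.im (h.a.sG.trans g1) (h1.trans h.a.le)⟩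

theorem Am.lg_inf (h : Am p S E₁ E₂ G₁ G₂ K₁ K₂ B) : lg p (E₁ ⊓ E₂) + 2 = lg p S := by
  have := R3.lg_inf h.a.pg h.a.le h.b.le
  have := lg_inf_lt' h.a.pE h.ne
  have := h.a.idx; have := h.b.idx
  omega

theorem Am.sup (h : Am p S E₁ E₂ G₁ G₂ K₁ K₂ B) : S ≤ E₁ ⊔ E₂ :=
  le_sup_of_lg h.a.pg h.a.le h.a.idx.ge h.b.le h.ne'

theorem excl_core (hp2 : Odd p) (h : Am p S E₁ E₂ G₁ G₂ K₁ K₂ B) (x1 : X ≤ E₁) (x2 : X ≤ E₂)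
    (e : EA p X) (n1 : G₁ ≤ 𝐍(X)) (n2 : G₂ ≤ 𝐍(X)) (lX : lg p X = 3) {W : Subgroup Γ}
    (hW : W ≤ ⁅S, X⁆) (hW' : W ≤ X) (lW : lg p W = 2) (nW : G₁ ≤ 𝐍(W)) (cW : E₁ ≤ 𝐂(W))
    (tW : ¬ pr p (nc S G₁ K₁) ≤ 𝐂(W)) (eZ : Z = X ⊓ relCentralizer S ⊥) (lZ : lg p Z = 1)
    (nZ : G₂ ≤ 𝐍(Z)) (cZ : ⁅E₂, X⁆ ≤ Z) (tZ : ¬ ⁅pr p (nc S G₂ K₂), X⁆ ≤ Z)
    (ih : ∀ U, U ≤ E₁ → U ≤ E₂ → EQ p U X → G₁ ≤ 𝐍(U) → G₂ ≤ 𝐍(U) →
      ⁅pr p (nc S G₁ K₁), U⁆ ≤ X ∨ ⁅pr p (nc S G₂ K₂), U⁆ ≤ X) : False := by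
  rw [rc_bot] at eZ
  have zX : Z ≤ X := eZ.le.trans inf_le_left
  have zS : Z ≤ 𝐂(S) := eZ.le.trans inf_le_right
  have pS := h.a.pg
  have xS := x1.trans h.a.le
  have pX := pS.to_le xS
  have b0 : lg p (⊥ : Subgroup Γ) = 0 := lg_bot
  have t1 : ¬ pr p (nc S G₁ K₁) ≤ 𝐂(X) := fun e => tW (e.trans (cent_anti hW'))
  have t2 : ¬ pr p (nc S G₂ K₂) ≤ 𝐂(X) := fun e => tZ ((comm_le_bot.2 e).trans bot_le)
  have hZW : Z ≤ W := by_contra fun e1 => om_ne_bot pS (hW'.trans xS) (h.a.sG.trans nW)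
    (fun e2 => by rw [e2] at lW; omega) (le_bot_iff.1 ((le_inf ((inf_le_inf hW' om_cent).trans
      eZ.ge) inf_le_left).trans (inf_eq_bot (pX.to_le zX) lZ.le e1).le))
  have irr2 : ∀ C, Z ≤ C → C ≤ X → G₂ ≤ 𝐍(C) → 2 ≤ lg p C → X ≤ C := fun C c1 c2 c3 c4 =>
    by_contra fun c5 => tZ (h.b.cL2 x2 n2 c3 nZ c1 c2 (by omega)
      (fun c6 => by have := lg_mono (p := p) c6; omega) c5)
  have irr : ∀ C, C ≤ X → G₁ ≤ 𝐍(C) → G₂ ≤ 𝐍(C) → C ≠ ⊥ → X ≤ C := fun C c1 c2 c3 c4 => by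
    by_contra c5
    have := lg_lt pX c1 c5
    by_cases c6 : lg p C ≤ 1
    · exact tW (comm_le_bot.1 (h.a.cL2 (hW'.trans x1) nW c2 (norm_bot _) bot_le ((le_inf c1
        (cent_symm (cent_of_lg pS (c1.trans xS) c6 (h.a.sG.trans c2)))).trans (eZ.ge.trans hZW))
        (by omega)
        (fun c7 => c4 (le_bot_iff.1 c7)) fun c7 => by have := lg_mono (p := p) c7; omega))
    · exact c5 (irr2 C (hZW.trans (hW.trans (comm_le_of_lg pS xS c1 (by omega) (h.a.sG.trans n1)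
        (h.a.sG.trans c2)))) c1 c3 (by omega))
  have r1 := h.a.inf_cent_le x1 n1 t1
  have r2 := h.b.inf_cent_le x2 n2 t2
  set R := S ⊓ 𝐂(X) with eR
  have m1 : G₁ ≤ 𝐍(R) := (le_antisymm (le_inf r1 inf_le_right) (inf_le_inf_right _ h.a.le) :
    R = E₁ ⊓ 𝐂(X)) ▸ norm_inf h.a.nE (norm_cent n1)
  have m2 : G₂ ≤ 𝐍(R) := (le_antisymm (le_inf r2 inf_le_right) (inf_le_inf_right _ h.b.le) :
    R = E₂ ⊓ 𝐂(X)) ▸ norm_inf h.b.nE (norm_cent n2)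
  have xR : X ≤ R := le_inf xS e.comm
  have hR : R ≤ X := by
    by_contra h1
    obtain ⟨u, hu, hu', h2, h3⟩ := H5.exists_step_of_le pS X inf_le_left (h.a.sG.trans m1) h1
    have hQ : PH p (R ⊓ relCentralizer R X) := ph_of hp2 ((commutator_mono inf_le_right
      inf_le_left).trans (comm_le_of_rc le_rfl)) (inf_le_left.trans inf_le_right) e.pow
    have xQ : X ≤ R ⊓ relCentralizer R X :=
      le_inf xR (le_rc le_normalizer (comm_le_l (inf_le_left.trans (h.a.sG.trans n1))))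
    have uQ : u ∈ pw hQ X :=
      ⟨⟨hu, h.a.sG.trans n1 hu.1, fun z hz => h3 z hz.1⟩, h2⟩
    have k1 : G₁ ≤ 𝐍(pw hQ X) := norm_pw (norm_inf m1 (norm_rc m1 n1)) n1
    have k2 : G₂ ≤ 𝐍(pw hQ X) := norm_pw (norm_inf m2 (norm_rc m2 n2)) n2
    have h4 := irr (mho p (pw hQ X)) (mho_le.2 fun _ hx => hx.2) (norm_mho k1) (norm_mho k2)
      fun h4 => by
        have h5 : u ^ p = 1 := mem_bot.1 (h4 ▸ pow_mem_mho uQ)
        have := h.sr.ea (sup_le xS (zpowers_le.2 hu.1))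
          (e.sup (ea_zpowers h5) (cent_symm (zpowers_le.2 hu.2)))
        rw [lg_sup_zpowers (h.a.sG.trans n1 hu.1) h2 hu'] at this
        omega
    rcases ih (pw hQ X) (pw_le.trans (inf_le_left.trans r1)) (pw_le.trans (inf_le_left.trans r2))
      ⟨fun x hx => ⟨xQ hx, pow_mem hx p⟩, (commutator_mono (pw_le.trans inf_le_right)
        (pw_le.trans inf_le_left)).trans (comm_le_of_rc le_rfl), fun _ hx => hx.2⟩ k1 k2 with h5 | h5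
    · exact t1 ((hQ.cent pw_le xQ h5 e.pow).trans (cent_anti h4))
    · exact t2 ((hQ.cent pw_le xQ h5 e.pow).trans (cent_anti h4))
  obtain ⟨z, hz, hz', h2, h3⟩ := H5.exists_step_of_le pS X h.b.le (h.b.sG.trans h.b.nE)
    fun h1 => h.ne' (h1.trans x1)
  have h4 : z ^ p ∈ Z := eZ.ge ⟨h2, fun s hs => by
    have c1 := comm_symm (h3 s hs)
    have c2 := comm_mem cZ hz c1
    have := H5.mul_pow_eq_of_class_two_of_odd (zS c2 _ (xS c1)) (zS c2 _ (h.b.le hz)) hp2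
      (e.pow _ (zX c2))
    rw [e.pow _ c1, one_mul, ← H5.conj_eq_commutator_mul, conj_pow] at this
    exact mul_inv_eq_iff_eq_mul.1 this⟩
  have cS : S ≤ 𝐂(Z) := cent_symm zS
  have c2 : ⁅⁅E₂, X⁆, E₂⁆ ≤ ⊥ := (commutator_mono cZ h.b.le).trans (comm_le_bot.2 zS)
  have h5 : ⁅E₂, E₂⁆ ≤ X := (le_inf ((comm_le_r le_normalizer).trans h.b.le) (comm_le_bot.1
    (three_subgroups_le (norm_bot _) (norm_bot _) (norm_bot _) c2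
      (commutator_comm E₂ X ▸ c2)))).trans hR
  obtain ⟨b, hb, hb'⟩ := SetLike.not_le_iff_exists.1
    (show ¬ X ≤ W from fun e => by have := lg_mono (p := p) e; omega)
  have h6 := lg_cz (X := E₁ ⊓ E₂) (pS.to_le (inf_le_left.trans h.a.le)) (pX.to_le zX)
    bot_le (norm_bot _) fun x hx => comm_mem cZ hx.2 hb
  have h7 : E₁ ⊓ E₂ ⊓ cz b ⊥ ≤ X := (le_inf (inf_le_left.trans (inf_le_left.trans h.a.le))
    (cent_symm (le_of_mem pX hW' (by omega) hb hb' (cent_symm (inf_le_left.trans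
      (inf_le_left.trans cW))) (mem_cent' fun y hy => (mem_cz.1 hy.2).2)))).trans hR
  have h8 := lg_mono (p := p) h7
  have h9 := h.lg_inf
  have h10 := h.b.idx
  have nZ' := h.b.eG.trans nZ
  have h11 := comm_cyc h.b.pE x2 (by omega) nZ' (comm_le_symm cZ)
    ((commutator_mono h5 le_rfl).trans (comm_le_symm cZ)) fun c hc => by
      rw [e.pow c (h5 hc)]; exact one_mem _
  have h12 : ⁅E₂, E₂⁆ ≤ Z := by_contra fun h12 => by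
    have := lg_lt (pX.to_le (sup_le h5 zX)) (le_sup_right : Z ≤ _)
      fun e => h12 (le_sup_left.trans e)
    have := lg_mono (p := p) (irr2 _ le_sup_right (sup_le h5 zX)
      (norm_sup (norm_comm h.b.nE h.b.nE) nZ) (by omega))
    omega
  have hQ : PH p E₂ := ph_of hp2 h12 (h.b.le.trans cS) fun z hz => e.pow z (zX hz)
  have xA : X ≤ pw hQ Z := fun x hx => ⟨x2 hx, by rw [e.pow x hx]; exact one_mem _⟩
  have h13 := h.sr (pw hQ Z) Z (pw_le.trans h.b.le) ⟨zX.trans xA,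
    (commutator_mono pw_le pw_le).trans h12, fun _ hx => hx.2⟩
  have h14 := le_sup_zpowers (h.b.pE.to_le pw_le) xA (by omega) ⟨hz, h4⟩ hz'
  have h15 := lg_cz pX (pX.to_le zX) bot_le (norm_bot _)
    fun x hx => comm_symm (comm_mem cZ hz hx)
  have h16 : X ⊓ cz z ⊥ ≤ X ⊓ 𝐂(pw hQ Z) := le_inf inf_le_left ((cent_sup (inf_le_left.trans e.comm)
    fun x hx => mem_cent_zpowers.2 (mem_cz.1 hx.2).2).trans (cent_anti h14))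
  have h17 := lg_mono (p := p) h16
  exact hz' (hR ⟨h.b.le hz, cent_symm ((irr2 _ (le_inf zX (cent_symm ((pw_le.trans
    h.b.le).trans cS))) inf_le_left (norm_inf n2 (norm_cent (norm_pw h.b.nE nZ)))
    (by omega)).trans inf_le_right) (⟨hz, h4⟩ : z ∈ pw hQ Z)⟩)

omit [Finite Γ] in
theorem excl_aux (hp2 : Odd p) (n : ℕ) : ∀ {Γ : Type u} [Group Γ] [Finite Γ]
    {S E₁ E₂ G₁ G₂ K₁ K₂ B X Y : Subgroup Γ}, lg p S ≤ n → Am p S E₁ E₂ G₁ G₂ K₁ K₂ B →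
    X ≤ E₁ → X ≤ E₂ → EQ p X Y → G₁ ≤ 𝐍(X) → G₂ ≤ 𝐍(X) → G₁ ≤ 𝐍(Y) → G₂ ≤ 𝐍(Y) →
    ⁅pr p (nc S G₁ K₁), X⁆ ≤ Y ∨ ⁅pr p (nc S G₂ K₂), X⁆ ≤ Y := by
  induction n using Nat.strong_induction_on with
  | _ n ih =>
  intro Γ _ _ S E₁ E₂ G₁ G₂ K₁ K₂ B X Y hn h
  have key : ∀ {X Y : Subgroup Γ}, Y ≠ ⊥ → X ≤ E₁ → X ≤ E₂ → EQ p X Y → G₁ ≤ 𝐍(X) → G₂ ≤ 𝐍(X) →
      G₁ ≤ 𝐍(Y) → G₂ ≤ 𝐍(Y) → ⁅pr p (nc S G₁ K₁), X⁆ ≤ Y ∨ ⁅pr p (nc S G₂ K₂), X⁆ ≤ Y := by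
    intro X Y hY x1 x2 e n1 n2 n3 n4
    have hX := x1.trans (h.a.eG.trans (le_sup_left (b := G₂)))
    obtain ⟨Γ', _, _, θ, rfl⟩ := exists_qt (e.le.trans hX) (sup_le n3 n4)
    have h1 := lg_im (p := p) (h.a.sG.trans le_sup_left) (e.le.trans (x1.trans h.a.le))
    have h2 := lg_pos (h.a.pE.to_le (e.le.trans x1)) hY
    have := ih _ (by omega) le_rfl (h.im le_sup_left le_sup_right (e.le.trans x1) (e.le.trans x2))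
      (imageAlong_mono θ x1)
      (imageAlong_mono θ x2) (eq_im hX e) (im_norm le_sup_left hX n1) (im_norm le_sup_right hX n2)
      (im_norm le_sup_left (kerIn_le θ) n3) (im_norm le_sup_right (kerIn_le θ) n4)
    rwa [h.a.im_L le_sup_left, h.b.im_L le_sup_right, im_comm_le (h.a.L_le.trans le_sup_left) hX
      (kerIn_le θ) le_rfl, im_comm_le (h.b.L_le.trans le_sup_right) hX (kerIn_le θ) le_rfl] at this
  intro x1 x2 e n1 n2 n3 n4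
  by_cases hY : Y = ⊥
  swap; · exact key hY x1 x2 e n1 n2 n3 n4
  subst hY
  by_contra t
  obtain ⟨t1, t2⟩ := not_or.1 t
  have hX : X ≠ ⊥ := fun e => t1 (by simp [e])
  have hl := h.sr X ⊥ (x1.trans h.a.le) e
  have hU : ⁅S, X⁆ ⊔ ⊥ ≤ X := sup_le (comm_le_r (h.a.sG.trans n1)) bot_le
  have k : ∀ {E G K E' G' K'}, Par p S E G K B → Par p S E' G' K' B → ⁅E, X⁆ ≤ ⊥ → X ≤ E' →
      G' ≤ 𝐍(X) → ¬ ⁅pr p (nc S G' K'), X⁆ ≤ ⊥ → E ≤ E' := fun h h' c x n t =>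
    (le_inf h.le (comm_le_bot.1 c)).trans (h'.inf_cent_le x n fun e => t (comm_le_bot.2 e))
  rw [lg_bot] at hl
  have b0 : lg p (⊥ : Subgroup Γ) = 0 := lg_bot
  rcases h.a.v3 x1 e n1 n3 (by omega) t1 with c | ⟨c1, c2, c3, c4, c5⟩ | ⟨c1, c2, c3, c4, c5⟩
  · exact h.ne (k h.a h.b c x2 n2 t2)
  all_goals
    rcases h.b.v3 x2 e n2 n4 (by omega) t2 with d | ⟨d1, d2, d3, d4, d5⟩ | ⟨d1, d2, d3, d4, d5⟩
  · exact h.ne' (k h.b h.a d x1 n1 t1)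
  · exact h.ne ((h.a.eq_rc (hU.trans x1) c3 n3 c4 c5).symm.trans
      (h.b.eq_rc (hU.trans x2) d3 n4 d4 d5)).le
  · exact excl_core hp2 h x1 x2 e.ea n1 n2 (by omega) (sup_bot_eq _).le hU (by omega) c3
      (comm_le_bot.1 c4) (fun e => c5 (comm_le_bot.2 e)) rfl (by omega) d3 d4 d5
      fun U u1 u2 u3 u4 u5 => key hX u1 u2 u3 u4 u5 n1 n2
  · exact h.ne' (k h.b h.a d x1 n1 t1)
  · exact excl_core hp2 h.symm x2 x1 e.ea n2 n1 (by omega) (sup_bot_eq _).le hU (by omega) d3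
      (comm_le_bot.1 d4) (fun e => d5 (comm_le_bot.2 e)) rfl (by omega) c3 c4 c5
      fun U u1 u2 u3 u4 u5 => (key hX u2 u1 u3 u5 u4 n1 n2).symm
  · exact h.ne ((h.a.eq_rc x1 n1 c3 c4 c5).symm.trans (h.b.eq_rc x2 n2 d3 d4 d5)).le

/-- One of the two groups centralizes a common normal subgroup. -/
theorem Am.excl (hp2 : Odd p) (h : Am p S E₁ E₂ G₁ G₂ K₁ K₂ B) (x1 : X ≤ E₁) (x2 : X ≤ E₂)
    (n1 : G₁ ≤ 𝐍(X)) (n2 : G₂ ≤ 𝐍(X)) : pr p (nc S G₁ K₁) ≤ 𝐂(X) ∨ pr p (nc S G₂ K₂) ≤ 𝐂(X) :=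
  have pX := h.a.pE.to_le x1
  (excl_aux hp2 _ le_rfl h x1 x2 (eq_ph pX) n1 n2 (norm_ph n1) (norm_ph n2)).imp
    (pr_ph pX (h.a.L_le.trans n1)) (pr_ph pX (h.b.L_le.trans n2))

/-- In rank at most three a strongly `p`-embedded subgroup forces Sylow subgroups of order `p`. -/
theorem gl3 (hN : IsPGroup p N) (hE : E ≤ N) (hG : N ≤ G) (nE : G ≤ 𝐍(E))
    (hl : lg p E ≤ lg p (ph E) + 3) (hC : N ⊓ relCentralizer E (ph E) ≤ E) (hM : N ≤ M)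
    (hne : ¬ G ≤ M) (m1 : ∀ t ∈ N, t ∉ E → ∀ a ∈ G, a⁻¹ * t * a ∈ M → a ∈ M)
    (m2 : ∀ t₁ ∈ N, t₁ ∉ E → ∀ t₂ ∈ N, t₂ ∉ E → ∀ a ∈ G, ∀ Q ≤ G,
      (∀ x ∈ Q, (orderOf x).Coprime p → x ∈ 𝐂(E)) → t₁ ∈ Q → a * t₂ * a⁻¹ ∈ Q → a ∈ M) :
    lg p N ≤ lg p E + 1 := by
  by_contra h0
  have pE := hN.to_le hE
  have e := eq_ph pE
  have nY := norm_ph nE
  obtain ⟨Y, eY⟩ : ∃ Y, Y = ph E := ⟨_, rfl⟩
  rw [← eY] at hl hC e nY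
  have h1 := lg_lt pE e.le fun h1 => by
    have := lg_mono (p := p) ((le_inf le_rfl (le_rc (hG.trans nY)
      ((comm_le_r (hG.trans nE)).trans h1))).trans hC)
    omega
  obtain ⟨P, p1, p2, p3, p4⟩ := exists_chain hN hE (hG.trans nE) (hG.trans nY) e.le
    (lg p E - lg p Y - 1) (by omega)
  have h2 := lg_rc hN (p2.trans hE) p4 (hG.trans nY) p1 (by omega)
  obtain ⟨z, hz, hz'⟩ := SetLike.not_le_iff_exists.1
    (show ¬ N ⊓ relCentralizer P Y ≤ E from fun e => by have := lg_mono (p := p) e; omega)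
  obtain ⟨v, hv, h3⟩ := exists_gen pE p2 (by omega)
  have hNE := comm_le_of_lg hN hE p2 (by omega) (hG.trans nE) p4
  have hc := comm_mem hNE hz.1 hv
  have hzP : ∀ x ∈ P, ⁅z, x⁆ ∈ Y := (mem_rc.1 hz.2).2
  have h4 : ∀ x ∈ E, ⁅z, x⁆ ∈ Y ⊔ zpowers ⁅z, v⁆ := comm_mem_of_gen h3
    (e.norm le_sup_left (sup_le e.le (zpowers_le.2 (p2 hc)))) p2 hv
    (fun x hx => mem_sup_left (hzP x hx)) (mem_sup_right (mem_zpowers _))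
  have h5 : ∀ a ∈ G, a * ⁅z, v⁆ * a⁻¹ ∈ P → a ∈ M := fun a ha h5 => by
    have u1 : Y ⊔ zpowers (a * ⁅z, v⁆ * a⁻¹) ≤ P := sup_le p1 (zpowers_le.2 h5)
    have u2 : Y ⊔ zpowers (a * ⁅z, v⁆ * a⁻¹) ⊔ zpowers ⁅z, v⁆ ≤ P := sup_le u1 (zpowers_le.2 hc)
    have u3 : ∀ x ∈ E, ⁅a * z * a⁻¹, x⁆ ∈ Y ⊔ zpowers (a * ⁅z, v⁆ * a⁻¹) := fun x hx => by
      have := conj_mem_cn (g := a) (h4 _ (conj_mem' (nE ha) hx))
      rw [cn_sup, cn_eq (nY ha), conj_comm, show cn a (zpowers ⁅z, v⁆) = zpowers (a * ⁅z, v⁆ * a⁻¹)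
        from MonoidHom.map_zpowers _ _] at this
      simpa [mul_assoc] using this
    refine m2 z hz.1 hz' z hz.1 hz' a ha (G ⊓ (relCentralizer E _ ⊓ (relCentralizer _
      (Y ⊔ zpowers (a * ⁅z, v⁆ * a⁻¹)) ⊓ relCentralizer (Y ⊔ zpowers (a * ⁅z, v⁆ * a⁻¹)) Y)))
      inf_le_left (fun x ⟨x1, x2, x3, x4⟩ hx => cent_of_ph pE hx (nE x1) fun y hy => eY ▸
        comm_mem_of_coprime (pE.to_le (u1.trans p2)) hx (nY x1) (comm_mem_of_coprime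
          (pE.to_le (u2.trans p2)) hx x3.1 (x2.2 y hy) x3.2) x4.2)
      ⟨hG hz.1, mem_rc_of (u2.trans p2) fun y hy => (sup_le_sup_right le_sup_left _ :
          _ ≤ Y ⊔ zpowers (a * ⁅z, v⁆ * a⁻¹) ⊔ zpowers ⁅z, v⁆) (h4 y hy),
        mem_rc_of le_sup_left fun y hy => mem_sup_left (hzP y (u2 hy)),
        mem_rc_of le_sup_left fun y hy => hzP y (u1 hy)⟩
      ⟨conj_mem (le_normalizer ha) (hG hz.1), mem_rc_of (u2.trans p2) fun y hy =>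
        mem_sup_left (u3 y hy), mem_rc_of le_sup_left fun y hy => u3 y (p2 (u2 hy)),
        mem_rc_of le_sup_left (comm_mem_of_gen le_rfl ((u1.trans p2).trans (hE.trans (hG.trans nY)))
          le_sup_left (mem_sup_right (mem_zpowers _)) (fun y => comm_mem_r
            (nY (conj_mem (le_normalizer ha) (hG hz.1))))
          (conj_comm a z _ ▸ conj_mem (nY ha) (hzP _ hc)))⟩
  obtain ⟨σ, hσ, hσ'⟩ := SetLike.not_le_iff_exists.1 hne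
  have hc' := conj_mem (nE hσ) (p2 hc)
  have h6 : ∀ t ∈ N, t ∉ E → ⁅t, σ * ⁅z, v⁆ * σ⁻¹⁆ ∉ cn σ P := fun t ht ht' h6 =>
    hσ' (m1 t ht ht' σ hσ (h5 _ (conj_mem' (le_normalizer hσ) (hG ht)) (by
      have := mem_cn.1 (mul_mem h6 (conj_mem_cn hc))
      generalize ⁅z, v⁆ = c at this
      simpa [commutatorElement_def, mul_assoc] using this)))
  have h7 : Y ≤ cn σ P := (cn_eq (nY hσ)).ge.trans (cn_mono p1)
  have h8 := lg_mono (p := p) (show N ⊓ cz (σ * ⁅z, v⁆ * σ⁻¹) Y ≤ E from fun t ht =>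
    by_contra fun ht' => h6 t ht.1 ht' (h7 (mem_cz.1 ht.2).2))
  have h9 := lg_cz hN (pE.to_le p2) p1 (hG.trans nY) fun x hx => comm_mem hNE hx hc'
  have h10 := lg_inf pE p2 (cn_le p2 (nE hσ))
  rw [lg_cn] at h10
  obtain ⟨d, hd, hd'⟩ := SetLike.not_le_iff_exists.1
    (show ¬ P ⊓ cn σ P ≤ Y from fun e => by have := lg_mono (p := p) e; omega)
  obtain ⟨t, ht, h11⟩ := exists_comm_of_lg hN (pE.to_le p2) p1 (hG.trans nY)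
    (fun x hx => comm_mem hNE hx hc') (by omega) hd.1
  exact h6 t ht (fun ht' => hd' (mem_of_mul' h11 (comm_mem e.comm ht' hc'))) (mem_of_mul (h7 h11) hd.2)

theorem r3v3_eq_defs : True := by
  have := @PH.eq_1.{0}
  have := @pw.eq_1.{0}
  trivial

end H93.R3
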