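import Mathlib
import Cfsg.Agent.Base
import Cfsg.Agent.Lib.R3.V3

/-!
Two subgroups of index `p` without a common normal subgroup, in sectional rank at most three.
-/

set_option autoImplicit false

namespace H93.R3

open Subgroup H2
open scoped commutatorElement Pointwise

local notation:max "𝐍(" A ")" => Subgroup.normalizer (SetLike.coe A)
local notation:max "𝐂(" A ")" => Subgroup.centralizer (SetLike.coe A)

universe u

variable {Γ : Type u} [Group Γ] {p : ℕ} {S E G K B H L D F P W A Q X Y Z U V : Subgroup Γ}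
  {E₁ E₂ G₁ G₂ K₁ K₂ : Subgroup Γ} {a g s x y : Γ} [Finite Γ] [hp : Fact p.Prime]

omit [Finite Γ] in
theorem not_dvd_two (h : Odd p) : ¬ (p : ℤ) ∣ 2 := fun e =>
  hp.out.odd_iff.1 h |>.not_gt (Nat.lt_succ_of_le (Nat.le_of_dvd two_pos (by exact_mod_cast e)))

omit [Finite Γ] in
theorem TV.neg (h : TV p S E G B L X Y F P) (hp2 : Odd p) (e : EQ p X Y) (hX : X ≤ G)
    (nY : X ≤ 𝐍(Y)) : ∃ τ ∈ B, τ ∈ L ∧ Ev τ P Y (-1) ∧ Ev τ S E 1 ∧
      Ev τ X (X ⊓ relCentralizer S Y) (-1) ∧ ∀ x ∈ X, ⁅τ, x⁆ ∈ Y → x ∈ F := by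
  obtain ⟨τ, h1, h2, -, -, h3, h4, -, h5⟩ := h.tor (-1) (-1) (by simp)
  refine ⟨τ, h1, h2, h5 rfl, by simpa using h4, h3, fun x hx h6 => ?_⟩
  have fX := h.fH.trans inf_le_left
  obtain ⟨f, hf, y, hy, rfl⟩ := (mem_sup_iff' (fX.trans (hX.trans h.nP))).1 (h.sup hx)
  have h7 : y ∈ cz τ Y := mem_of_mul' ⟨nY hx, comm_symm h6⟩
    ⟨nY (fX hf), comm_symm (comm_mem h.cF h2 hf)⟩
  refine mul_mem hf (h.yF (mem_of_ev (a := 1) ?_ (h5 rfl y hy) (e.pow y (h.pX hy)) (not_dvd_two hp2)))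
  simpa [commutatorElement_def] using comm_symm h7.2

theorem ph_sup_le (hE : IsPGroup p E) (hD : D ≤ E) (h : E ≤ D ⊔ om p E) : ph E ≤ ph D := by
  have e := eq_ph (hE.to_le hD)
  have n : E ≤ 𝐍(ph D) := norm_ph (h.trans (sup_le le_normalizer (norm_of_cent om_cent hD)))
  have c : ∀ X ≤ E, ⁅om p E, X⁆ ≤ ph D := fun X hX =>
    (comm_le_bot.2 (om_cent.trans (cent_anti hX))).trans bot_le
  refine (ph_le hE).2 ⟨comm_le_of_rc (h.trans (sup_le (le_rc (hD.trans n) (comm_le_symm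
    (comm_le_of_rc (h.trans (sup_le (le_rc (hD.trans n) e.comm) (le_rc (om_le.trans n) (c D hD)))))))
    (le_rc (om_le.trans n) (c E le_rfl)))), fun x hx => ?_⟩
  obtain ⟨a, ha, b, hb, rfl⟩ := (mem_sup_iff (norm_of_cent om_cent hD)).1 (h hx)
  rw [Commute.mul_pow (hb.2.1 a (hD ha)), hb.2.2, mul_one]
  exact e.pow a ha

theorem SR.le_of_cent (h : SR p 3 S) (hS : IsPGroup p S) (h1 : U ≤ S) (h2 : V ≤ S) (e1 : EA p U)
    (e2 : EA p V) (c : U ≤ 𝐂(V)) (e : 3 ≤ lg p U) : V ≤ U :=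
  le_sup_right.trans (le_of_lg (hS.to_le (sup_le h1 h2)) le_sup_left
    ((h.ea (sup_le h1 h2) (e1.sup e2 c)).trans e))

theorem norm_of_cn_le (h : cn g X ≤ X) : g ∈ 𝐍(X) := mem_norm (cn_le_iff.1 h)

theorem norm_of_ti (hE : IsPGroup p E) (hs : SR p 3 E) (nE : G ≤ 𝐍(E)) (hU : U ≤ E) (e : EA p U)
    (hl : 3 ≤ lg p U) (h : ⁅U, E⁆ ≤ Z) (hZ : IsPGroup p Z) (hl' : lg p Z ≤ 1) (hn : ¬ G ≤ 𝐍(Z)) :
    G ≤ 𝐍(U) := le_of_not_mem hn fun g hg hg' => norm_of_cn_le (by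
  have h1 := cn_le hU (nE hg)
  refine hs.le_of_cent hE hU h1 e (e.cn g) (comm_le_bot.1 (le_trans (le_inf
    ((commutator_mono le_rfl h1).trans h) ?_) (inf_eq_bot hZ hl' (U := cn g Z) fun h2 => hg'
      (cn_eq_iff.1 (eq_of_lg (hZ.map _) h2 lg_cn.le).symm)).le)) hl
  exact comm_le_symm ((commutator_mono le_rfl (hU.trans (cn_eq (nE hg)).ge)).trans
    (cn_comm.ge.trans (cn_mono h))))

namespace Par

variable (h : Par p S E G K B)
include h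

theorem om_le (t : ¬ pr p (nc S G K) ≤ 𝐂(E)) : om p S ≤ om p E :=
  ea_om.le_om ((le_inf R3.om_le (om_cent.trans (cent_anti h.le))).trans
    (h.inf_cent_le le_rfl h.nE t)) (om_cent.trans (cent_anti h.le))

theorem mem_om (hx : x ∈ om p E) (hs : s ∈ S) (hs' : s ∉ E) (h1 : ⁅x, s⁆ = 1) : x ∈ om p S :=
  ⟨h.le hx.1, cent_zpowers.1 (h.le_of hs hs' (cent_zpowers.2 hx.2.1)
    (mem_cent_zpowers.2 (by rw [← comm_inv, h1, inv_one]))), hx.2.2⟩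

omit hp in
theorem inf_om (h1 : om p S ≤ X) (h2 : X ≤ om p E) : X ⊓ relCentralizer S ⊥ = om p S := by
  rw [rc_bot]
  exact le_antisymm (fun x hx => ⟨h.le (h2 hx.1).1, hx.2, (h2 hx.1).2.2⟩) (le_inf h1 om_cent)

theorem tv_om (h1 : om p S ≤ X) (h2 : X ≤ om p E) (n : G ≤ 𝐍(X)) (e : lg p X ≤ lg p (om p S) + 1)
    (hn : ¬ G ≤ 𝐍(om p S)) : ∃ F P, TV p S E G B (pr p (nc S G K)) X ⊥ F P :=
  h.tv (h2.trans R3.om_le) (ea_om.mono h2).eq n (norm_bot _)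
    (comm_le_bot.2 (cent_om.trans (cent_anti h2))) (by rwa [h.inf_om h1 h2]) (by rwa [h.inf_om h1 h2])

theorem not_cent_om (t : ¬ pr p (nc S G K) ≤ 𝐂(E)) (hn : ¬ G ≤ 𝐍(om p S)) :
    ¬ pr p (nc S G K) ≤ 𝐂(om p E) := fun e =>
  hn (h.norm_c ((h.om_le t).trans R3.om_le) (h.om_le t) e (norm_om h.nS))

theorem lg_inf (hX : X ≤ S) : lg p X ≤ lg p (X ⊓ E) + 1 := by
  have := R3.lg_inf h.pg hX h.le; have := h.idx; omega

theorem lg_le_two (hX : X ≤ om p E) (n : S ≤ 𝐍(X)) (h1 : ⁅X, S⁆ ≤ om p S) :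
    lg p X ≤ 2 * lg p (om p S) := by
  obtain ⟨s, hs, hs'⟩ := h.exists_not_mem
  have := lg_cz (h.pE.to_le (hX.trans R3.om_le)) (h.pg.to_le R3.om_le) bot_le (norm_bot _)
    fun x hx => comm_mem h1 hx hs
  have := lg_mono (p := p) (show X ⊓ cz s ⊥ ≤ om p S from fun x hx =>
    h.mem_om (hX hx.1) hs hs' (mem_cz.1 hx.2).2)
  have : lg p (⊥ : Subgroup Γ) = 0 := lg_bot
  omega

end Par

/-- The two subgroups are elementary abelian of order `p²`. -/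
structure TyA (p : ℕ) (S E₁ E₂ G₁ G₂ : Subgroup Γ) : Prop where
  lg : lg p S = 3
  ea₁ : EA p E₁
  ea₂ : EA p E₂
  n₁ : ¬ G₁ ≤ 𝐍(E₁ ⊓ E₂)
  n₂ : ¬ G₂ ≤ 𝐍(E₁ ⊓ E₂)

/-- The symplectic configuration. -/
structure TyC (p : ℕ) (S E₁ E₂ G₁ G₂ : Subgroup Γ) : Prop where
  lg : lg p S = 4
  ea : EA p E₂
  n₁ : ¬ G₁ ≤ 𝐍(E₁ ⊓ E₂)
  irr : ∀ X ≤ E₂, G₂ ≤ 𝐍(X) → X ≠ ⊥ → E₂ ≤ X
  cub : ¬ ⁅S, ⁅S, E₂⁆⁆ ≤ ⊥

namespace Am

variable (h : Am p S E₁ E₂ G₁ G₂ K₁ K₂ B) (hp2 : Odd p) (t1 : ¬ pr p (nc S G₁ K₁) ≤ 𝐂(E₁))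
  (t2 : ¬ pr p (nc S G₂ K₂) ≤ 𝐂(E₂))
  (hT : ∀ X, X ≤ E₁ → X ≤ E₂ → G₁ ≤ 𝐍(X) → G₂ ≤ 𝐍(X) → X = ⊥)
include h

theorem ne_bot (t1 : ¬ pr p (nc S G₁ K₁) ≤ 𝐂(E₁)) : 1 ≤ lg p (om p S) :=
  lg_pos (h.a.pg.to_le om_le) fun e => om_ne_bot h.a.pg le_rfl le_normalizer
    (fun e => h.ne (h.a.le.trans (e.le.trans bot_le))) (by simp [e])

include hp2 in
theorem f_le {F₁ P₁ F₂ P₂ : Subgroup Γ} (e1 : EA p E₁) (e2 : EA p E₂) (hD : E₁ ⊓ E₂ = om p S)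
    (v1 : TV p S E₁ G₁ B (pr p (nc S G₁ K₁)) E₁ ⊥ F₁ P₁)
    (v2 : TV p S E₂ G₂ B (pr p (nc S G₂ K₂)) E₂ ⊥ F₂ P₂) : F₂ ≤ F₁ := fun x hx => by
  obtain ⟨τ, h1, h2, -, -, -, h3⟩ := v1.neg hp2 e1.eq h.a.eG (norm_bot _)
  have d1 := h.a.inf_om (hD.ge.trans inf_le_left) (e1.le_om le_rfl e1.comm)
  have d2 := h.b.inf_om (hD.ge.trans inf_le_right) (e2.le_om le_rfl e2.comm)
  have h4 : F₂ ≤ E₁ ⊓ E₂ := v2.fH.trans (d2.trans hD.symm).le
  have h5 := comm_mem_r (v2.nF (h.b.bG h1)) hx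
  have h6 : ⁅S, E₁⁆ ⊔ ⊥ ≤ P₁ ⊓ E₂ :=
    sup_le (le_inf v1.zP ((commutator_mono le_rfl h.a.le).trans h.b.eq.comm)) bot_le
  have h7 := lg_inf_lt' (h.a.pE.to_le v1.pX) (show ¬ P₁ ≤ E₂ from fun e => h.ne (v1.sup.trans
    (sup_le (v1.fH.trans ((d1.trans hD.symm).le.trans inf_le_right)) e)))
  have h8 := v1.lgP
  have h9 := v1.lgZ
  have n := norm_comm (le_normalizer (H := S)) (h.b.sG.trans h.b.nE)
  have h10 : ⁅S, E₁⁆ ≤ ⁅S, E₂⁆ := comm_le_of_rc (h.sup.trans (sup_le (le_rc (h.a.le.trans n)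
    ((comm_le_bot.2 e1.comm).trans bot_le)) (le_rc (h.b.le.trans n)
      (comm_le_symm (commutator_mono h.a.le le_rfl)))))
  exact h3 x (h4 hx).1 (v2.inf ⟨h5, (le_of_lg (h.a.pE.to_le (inf_le_left.trans v1.pX)) h6
    (by omega)).trans (sup_le (h10.trans v2.zP) bot_le) ⟨comm_mem v1.cP h2 (h4 hx).1, (h4 h5).2⟩⟩)

include t1 t2 in
theorem ph_le (n1 : ¬ G₁ ≤ 𝐍(om p S)) (c : ¬ om p E₁ ≤ E₂) : ph E₁ ≤ ph E₂ :=
  (ph_sup_le h.a.pE inf_le_left (le_sup_of_lg h.a.pE inf_le_left (h.b.lg_inf h.a.le) om_le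
    fun e => c (e.trans inf_le_right))).trans (ph_mono h.b.pE inf_le_right)

include hp2 t1 t2 hT

theorem caseI (n1 : ¬ G₁ ≤ 𝐍(om p S)) (n2 : ¬ G₂ ≤ 𝐍(om p S)) : TyA p S E₁ E₂ G₁ G₂ := by
  have z1 := h.a.om_le t1
  have z2 := h.b.om_le t2
  have c1 := h.a.inf_cent_le om_le (norm_om h.a.nE) (h.a.not_cent_om t1 n1)
  have c2 := h.b.inf_cent_le om_le (norm_om h.b.nE) (h.b.not_cent_om t2 n2)
  have w1 : om p E₁ ≤ S := om_le.trans h.a.le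
  have w2 : om p E₂ ≤ S := om_le.trans h.b.le
  have l0 := h.ne_bot t1
  by_cases c : om p E₁ ≤ 𝐂(om p E₂)
  · exfalso
    have a1 : om p E₁ ≤ E₂ := (le_inf w1 c).trans c2
    have a2 : om p E₂ ≤ E₁ := (le_inf w2 (cent_symm c)).trans c1
    have e := ea_om.sup ea_om c
    have l1 := h.sr.ea (sup_le w1 w2) e
    have l2 := lg_lt (h.a.pg.to_le (sup_le w1 w2)) (le_sup_left : om p E₁ ≤ _) fun e => h.ne
      ((le_inf h.a.le (cent_om.trans (cent_anti (le_sup_right.trans e)))).trans c2)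
    have l3 := lg_lt (h.a.pg.to_le (sup_le w1 w2)) (le_sup_right : om p E₂ ≤ _) fun e => h.ne'
      ((le_inf h.b.le (cent_om.trans (cent_anti (le_sup_left.trans e)))).trans c1)
    have l4 := lg_lt (h.a.pg.to_le w1) z1 fun e => n1 (le_antisymm e z1 ▸ norm_om h.a.nE)
    have l5 := lg_lt (h.a.pg.to_le w2) z2 fun e => n2 (le_antisymm e z2 ▸ norm_om h.b.nE)
    have nZ : S ≤ 𝐍(om p S) := norm_om le_normalizer
    have b1 := comm_le_symm (comm_le_of_lg h.a.pg w1 z1 (by omega) (norm_om (h.a.sG.trans h.a.nE)) nZ)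
    have b2 := comm_le_symm (comm_le_of_lg h.a.pg w2 z2 (by omega) (norm_om (h.b.sG.trans h.b.nE)) nZ)
    have b : ⁅om p E₁ ⊔ om p E₂, S⁆ ≤ om p S :=
      comm_le_of_rc (sup_le (le_rc (w1.trans nZ) b1) (le_rc (w2.trans nZ) b2))
    have := hT _ (sup_le om_le a2) (sup_le a1 om_le) (norm_of_ti h.a.pE (h.sr.mono h.a.le) h.a.nE
      (sup_le om_le a2) e (by omega) ((commutator_mono le_rfl h.a.le).trans b)
      (h.a.pg.to_le om_le) (by omega) n1) (norm_of_ti h.b.pE (h.sr.mono h.b.le) h.b.nE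
      (sup_le a1 om_le) e (by omega) ((commutator_mono le_rfl h.b.le).trans b)
      (h.a.pg.to_le om_le) (by omega) n2)
    rw [this, lg_bot] at l2
    omega
  have a1 : ¬ om p E₁ ≤ E₂ := fun e => c (e.trans cent_om)
  have a2 : ¬ om p E₂ ≤ E₁ := fun e => c (cent_symm (e.trans cent_om))
  have e := le_antisymm (h.ph_le t1 t2 n1 a1) (h.symm.ph_le t2 t1 n2 a2)
  have e0 := hT _ ph_le_self (e ▸ ph_le_self) (norm_ph h.a.nE) (e ▸ norm_ph h.b.nE)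
  have e1 := ea_of_ph h.a.pE e0
  have e2 := ea_of_ph h.b.pE (e ▸ e0)
  have hD : E₁ ⊓ E₂ = om p S := le_antisymm ((e1.mono inf_le_left).le_om (inf_le_left.trans h.a.le)
    ((cent_sup (inf_le_left.trans e1.comm) (inf_le_right.trans e2.comm)).trans (cent_anti h.sup)))
    (le_inf (z1.trans om_le) (z2.trans om_le))
  have l := h.lg_inf
  have l1 := h.a.idx
  have l2 := h.b.idx
  rw [hD] at l
  obtain ⟨F₁, P₁, v1⟩ := h.a.tv_om (z1.trans om_le) (e1.le_om le_rfl e1.comm) h.a.nE (by omega) n1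
  obtain ⟨F₂, P₂, v2⟩ := h.b.tv_om (z2.trans om_le) (e2.le_om le_rfl e2.comm) h.b.nE (by omega) n2
  have e3 := le_antisymm (h.symm.f_le hp2 e2 e1 (inf_comm E₁ E₂ ▸ hD) v2 v1) (h.f_le hp2 e1 e2 hD v1 v2)
  have e4 := hT F₁ (v1.fH.trans inf_le_left) (e3 ▸ v2.fH.trans inf_le_left) v1.nF (e3 ▸ v2.nF)
  have l3 := v1.lgF
  rw [e4, lg_bot] at l3
  exact ⟨by omega, e1, e2, hD ▸ n1, hD ▸ n2⟩

theorem caseII (n1 : G₁ ≤ 𝐍(om p S)) (n2 : ¬ G₂ ≤ 𝐍(om p S)) : TyC p S E₁ E₂ G₁ G₂ := by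
  have z1 := h.a.om_le t1
  have z2 := h.b.om_le t2
  have c2 := h.b.inf_cent_le om_le (norm_om h.b.nE) (h.b.not_cent_om t2 n2)
  have cZ := h.a.cL0' (z1.trans om_le) n1 cent_om
  have l0 := h.ne_bot t1
  have b0 : lg p (⊥ : Subgroup Γ) = 0 := lg_bot
  have pS := h.a.pg
  have nW := norm_om (p := p) h.b.nE
  have eW : EA p (om p E₂) := ea_om
  have wE : om p E₂ ≤ E₂ := om_le
  have cW : E₂ ≤ 𝐂(om p E₂) := cent_om
  have w2 := wE.trans h.b.le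
  have l1 := h.sr.ea w2 eW
  have l2 := lg_lt (pS.to_le w2) z2 fun e => n2 (le_antisymm e z2 ▸ nW)
  have lZ : lg p (om p S) = 1 := by
    by_contra e
    obtain ⟨F, P, v⟩ := h.b.tv_om z2 le_rfl nW (by omega) n2
    have f := v.fH.trans (h.b.inf_om z2 le_rfl).le
    have := v.lgF
    rw [hT F (f.trans (z1.trans om_le)) (f.trans (z2.trans om_le)) (h.a.norm_c
      (f.trans (z1.trans om_le)) f cZ (h.b.bG.trans v.nF)) v.nF] at this
    omega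
  have zle : ∀ X ≤ E₂, G₂ ≤ 𝐍(X) → X ≠ ⊥ → om p S ≤ X := fun X x1 x2 x3 =>
    om_le_of pS lZ.le (x1.trans h.b.le) (h.b.sG.trans x2) x3
  have small : ∀ X ≤ E₂, G₂ ≤ 𝐍(X) → X ≠ ⊥ → 2 ≤ lg p X := fun X x1 x2 x3 => by
    have := lg_lt (h.b.pE.to_le x1) (zle X x1 x2 x3) fun e => n2 (le_antisymm e (zle X x1 x2 x3) ▸ x2)
    omega
  have big : ∀ X ≤ E₂, G₂ ≤ 𝐍(X) → X ≠ ⊥ → 2 ≤ lg p (X ⊓ om p E₂) := fun X x1 x2 x3 =>
    small _ (inf_le_left.trans x1) (norm_inf x2 nW) fun e => by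
      have := lg_mono (p := p) ((le_inf (zle X x1 x2 x3) z2).trans e.le)
      omega
  have nZ : S ≤ 𝐍(om p S) := norm_om le_normalizer
  have sW := h.b.sG.trans nW
  have s1 := h.a.sG.trans h.a.nE
  have s2 := h.b.sG.trans h.b.nE
  have i1 := h.a.idx
  have i2 := h.b.idx
  by_cases c : ¬ om p E₂ ≤ E₁
  · obtain ⟨s, hs, hs'⟩ := SetLike.not_le_iff_exists.1 c
    have h1 : ∀ X, om p E₂ ⊓ E₁ ≤ X → G₁ ≤ 𝐍(X) → ⁅pr p (nc S G₁ K₁), E₁⁆ ≤ X := fun X x1 x2 =>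
      h.a.cL le_rfl h.a.nE x2 (w2 hs) hs' fun x hx =>
        x1 ⟨comm_mem_l (sW (h.a.le hx)) hs, comm_mem_r (s1 (w2 hs)) hx⟩
    have l3 := lg_lt (pS.to_le (inf_le_left.trans w2)) (le_inf z2 (z1.trans om_le))
      fun e => t1 (h.a.cent (z1.trans om_le) (h1 _ e n1) cZ)
    have l4 := lg_inf_lt' (pS.to_le w2) c
    have h2 := ph_sup_le h.b.pE inf_le_left (le_sup_of_lg h.b.pE inf_le_left (h.a.lg_inf h.b.le) wE
      fun e => c (e.trans inf_le_right))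
    have h3 : ph E₂ ≤ ph E₁ := h2.trans (ph_mono h.a.pE inf_le_right)
    have e0 : ph E₂ = ⊥ := by_contra fun e => t1 (pr_ph h.a.pE (h.a.L_le.trans h.a.nE) (h1 _
      ((le_of_lg (pS.to_le (inf_le_left.trans w2)) (le_inf inf_le_right (inf_le_left.trans
        (h3.trans ph_le_self))) (by have := big _ ph_le_self (norm_ph h.b.nE) e; omega)).trans
      (inf_le_left.trans h3)) (norm_ph h.a.nE)))
    have e2 := ea_of_ph h.b.pE e0
    have e3 : om p E₂ = E₂ := le_antisymm wE (e2.le_om le_rfl e2.comm)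
    rw [e3] at l1 l3 l4 h1 z2
    have h4 : ¬ ⁅S, E₂⁆ ≤ om p S := fun e => by
      have := h.b.lg_le_two e3.ge s2 (comm_le_symm e); omega
    refine ⟨by omega, e2, fun e => t1 ?_, fun X x1 x2 x3 => by_contra fun x4 => h4 ?_, fun e => h4 ?_⟩
    · rw [inf_comm] at e
      exact h.a.cent (z1.trans om_le) (h.a.trans inf_le_right n1 (h1 _ le_rfl e)
        (h.a.cL1 inf_le_right e n1 (le_inf z2 (z1.trans om_le)) (by omega))) cZ
    · have l5 := small X x1 x2 x3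
      have l6 := lg_lt h.b.pE x1 x4
      obtain ⟨F, P, v⟩ := h.b.tv_om (zle X x1 x2 x3) (x1.trans e3.ge) x2 (by omega) n2
      obtain ⟨τ, -, k1, k2, k3, -⟩ := v.neg hp2 (e2.mono x1).eq (x1.trans h.b.eG) (norm_bot _)
      have k4 := comm_le_of_lg pS (x1.trans h.b.le) (zle X x1 x2 x3) (by omega) (h.b.sG.trans x2) nZ
      have k5 : ∀ X ≤ E₂, ⁅E₂, X⁆ ≤ om p S := fun X x =>
        (comm_le_bot.2 (e2.comm.trans (cent_anti x))).trans bot_le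
      exact comm_ev nZ (h.b.le.trans nZ) (comm_le_of_lg pS h.b.le x1 (by omega) s2
        (h.b.sG.trans x2)) k4 (k5 X x1) (k5 _ le_rfl) k4 h.b.le x1
        (fun y hy => by rw [e2.pow y hy]; exact one_mem _) k3
        (ev_one' (h.b.cL1 le_rfl h.b.nE x2 x1 (by omega)) k1) (k2.mono (le_of_lg (h.b.pE.to_le x1)
          v.pX (by have := v.lgP; omega)) bot_le) (not_dvd_two hp2)
    · exact (e2.mono (comm_le_r s2)).le_om ((comm_le_r s2).trans h.b.le) (cent_symm (comm_le_bot.1 e))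
  exfalso
  rw [not_not] at c
  have n3 : ¬ G₁ ≤ 𝐍(om p E₂) := fun e => by rw [hT _ c wE e nW] at l2; omega
  by_cases l3 : lg p (om p E₂) = 3
  · obtain ⟨g, hg, hg'⟩ := SetLike.not_le_iff_exists.1 n3
    have h1 := cn_le c (h.a.nE hg)
    obtain ⟨x, hx, hx'⟩ := SetLike.not_le_iff_exists.1 (show ¬ cn g (om p E₂) ≤ E₂ from fun e =>
      hg' (norm_of_cn_le (h.sr.le_of_cent pS w2 (h1.trans h.a.le) eW (eW.cn g)
        (cent_symm (e.trans cW)) l3.ge)))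
    have h2 := norm_cn (h.a.le.trans sW) (h.a.nE hg)
    have := lg_cz (pS.to_le w2) (pS.to_le om_le) bot_le (norm_bot _) fun w hw =>
      h.b.mem_om (comm_mem_l (sW (h.a.le (h1 hx))) hw) (h.a.le (h1 hx)) hx'
        (comm_eq_one ((eW.cn g).comm (comm_mem_r (h2 (c hw)) hx)) hx)
    have := lg_mono (p := p) (show om p E₂ ⊓ cz x ⊥ ≤ om p S from fun w hw =>
      h.b.mem_om hw.1 (h.a.le (h1 hx)) hx' (mem_cz.1 hw.2).2)
    omega
  have kW : ¬ ⁅pr p (nc S G₂ K₂), E₂⁆ ≤ om p E₂ := fun e => by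
    by_cases e0 : ph E₂ = ⊥
    · have e2 := ea_of_ph h.b.pE e0
      exact h.ne' ((e2.le_om le_rfl e2.comm).trans c)
    · exact t2 (pr_ph h.b.pE (h.b.L_le.trans h.b.nE) (e.trans ((le_of_lg (pS.to_le w2) inf_le_right
        (by have := big _ ph_le_self (norm_ph h.b.nE) e0; omega)).trans inf_le_left)))
  have b2 := comm_le_of_lg pS w2 z2 (by omega) sW nZ
  have q1 : om p E₂ ≤ E₁ ⊓ relCentralizer E₁ (om p S) :=
    le_inf c (le_rc (w2.trans nZ) (comm_le_symm ((commutator_mono h.a.le le_rfl).trans b2)))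
  have q2 := norm_inf h.a.nE (norm_rc h.a.nE n1)
  have q3 := nc_le' bot_le q1 q2
  have q4 := pow_nc (ph_of hp2 ((commutator_mono inf_le_right inf_le_left).trans
    (comm_le_of_rc le_rfl)) (inf_le_left.trans (h.a.le.trans cent_om)) ea_om.pow) q1 q2 eW.pow
  have nV : G₁ ≤ 𝐍(nc (om p E₂) G₁ ⊥) := norm_nc (norm_bot _)
  have wV : om p E₂ ≤ nc (om p E₂) G₁ ⊥ := le_nc
  have aV : nc (om p E₂) G₁ ⊥ ≤ E₂ → nc (om p E₂) G₁ ⊥ ≤ 𝐂(nc (om p E₂) G₁ ⊥) := fun e =>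
    nc_le' bot_le (cent_symm (e.trans cW)) (norm_cent nV)
  generalize nc (om p E₂) G₁ ⊥ = V at q3 q4 nV wV aV
  have vE : V ≤ E₁ := q3.trans inf_le_left
  have vS := vE.trans h.a.le
  have sV := h.a.sG.trans nV
  have bV : ⁅V, E₁⁆ ≤ om p S := comm_le_of_rc (q3.trans inf_le_right)
  have l4 := lg_lt (pS.to_le vS) wV fun e => n3 (le_antisymm e wV ▸ nV)
  have l5 := h.sr V _ vS ⟨z2.trans wV, (commutator_mono le_rfl vE).trans bV,
    fun x hx => by rw [q4 x hx]; exact one_mem _⟩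
  by_cases d : ¬ V ≤ E₂
  · obtain ⟨x, hx, hx'⟩ := SetLike.not_le_iff_exists.1 d
    have l6 := lg_inf_lt' (pS.to_le vS) d
    have l7 := h.b.lg_inf vS
    have wU : om p E₂ ≤ V ⊓ E₂ := le_inf wV wE
    have pU := pS.to_le ((inf_le_left (b := E₂)).trans vS)
    obtain ⟨u, hu, h1⟩ := exists_gen pU wU (by omega)
    have eU : EA p (V ⊓ E₂) := ⟨h1.trans ((comm_sup eW.comm (comm_zpowers u)
      (cent_zpowers.2 (cW hu.2))).trans (cent_anti h1)), fun x hx => q4 x hx.1⟩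
    have l8 := lg_cz pU (pS.to_le om_le) bot_le (norm_bot _) fun y hy => comm_mem bV hy.1 (vE hx)
    have l9 := lg_mono (p := p) (show V ⊓ E₂ ⊓ cz x ⊥ ≤ V ⊓ E₂ ⊓ 𝐂(V) from le_inf inf_le_left
      ((cent_sup (inf_le_left.trans eU.comm) fun y hy => mem_cent_zpowers.2 (mem_cz.1 hy.2).2).trans
        (cent_anti (le_sup_zpowers (pS.to_le vS) inf_le_left l7 hx fun e => hx' e.2))))
    have h2 : ¬ om p E₂ ≤ V ⊓ E₂ ⊓ 𝐂(V) := fun e =>
      hx' (c2 ⟨vS hx, cent_symm (e.trans inf_le_right) hx⟩)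
    have l10 := lg_lt pU inf_le_left fun e => h2 (wU.trans e)
    have nU := norm_inf sV s2
    have h3 : ⁅V ⊓ E₂, S⁆ ≤ om p S := comm_le_of_rc ((le_sup_of_lg pU inf_le_left (by omega) wU
      h2).trans (sup_le (le_rc (inf_le_left.trans (inf_le_left.trans (vS.trans nZ))) (comm_le_symm
        (comm_le_of_lg pS (inf_le_left.trans (inf_le_left.trans vS)) (le_inf (z2.trans wU)
          (om_cent.trans (cent_anti vS))) (by omega) (norm_inf nU (norm_cent sV)) nZ)))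
        (le_rc (w2.trans nZ) (comm_le_symm b2))))
    have h4 : G₂ ≤ 𝐍(V ⊓ E₂) := by
      by_cases e : 3 ≤ lg p (V ⊓ E₂)
      · exact norm_of_ti h.b.pE (h.sr.mono h.b.le) h.b.nE inf_le_right eU e
          ((commutator_mono le_rfl h.b.le).trans h3) (pS.to_le om_le) lZ.le n2
      · exact eq_of_lg pU wU (by omega) ▸ nW
    exact kW (h.b.trans inf_le_right nW (h.b.cL le_rfl h.b.nE h4 (vS hx) hx' fun y hy =>
      ⟨comm_mem_l (sV (h.b.le hy)) hx, comm_mem_r (s2 (vS hx)) hy⟩)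
      (h.b.cL' inf_le_right h4 nW ((comm_le_symm h3).trans z2)))
  rw [not_not] at d
  have eV : EA p V := ⟨aV d, q4⟩
  have l6 := h.sr.ea vS eV
  have n4 : ¬ G₂ ≤ 𝐍(V) := fun e => by rw [hT _ vE d nV e] at l4; omega
  have r1 : V ≤ E₂ ⊓ relCentralizer E₂ (om p E₂) := le_inf d (le_rc (vS.trans sW) (comm_le_symm
    ((commutator_mono h.b.le le_rfl).trans (comm_le_of_lg pS vS wV (by omega) sV sW))))
  have r2 := norm_inf h.b.nE (norm_rc h.b.nE nW)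
  have r3 := nc_le' bot_le r1 r2
  have r4 := pow_nc (ph_of hp2 ((commutator_mono inf_le_right inf_le_left).trans
    (comm_le_of_rc le_rfl)) (inf_le_left.trans cW) eW.pow) r1 r2 q4
  have nU : G₂ ≤ 𝐍(nc V G₂ ⊥) := norm_nc (norm_bot _)
  have vU : V ≤ nc V G₂ ⊥ := le_nc
  generalize nc V G₂ ⊥ = U at r3 r4 nU vU
  have uE : U ≤ E₂ := r3.trans inf_le_left
  have uS := uE.trans h.b.le
  have pU := pS.to_le uS
  have bU : ⁅U, U⁆ ≤ om p E₂ := (commutator_mono le_rfl uE).trans (comm_le_of_rc (r3.trans inf_le_right))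
  have l7 := h.sr U _ uS ⟨wV.trans vU, bU, fun x hx => by rw [r4 x hx]; exact one_mem _⟩
  have hR : U ⊓ relCentralizer U (om p S) ≤ om p E₂ := fun r hr => by_contra fun hr' => by
    have k1 : om p E₂ ⊔ zpowers r ≤ U := sup_le (wV.trans vU) (zpowers_le.2 hr.1)
    have k2 := eW.sup (ea_zpowers (r4 r hr.1)) (cent_zpowers.2 (cW (uE hr.1)))
    have k3 := lg_sup_zpowers (sW (uS hr.1)) (by rw [r4 r hr.1]; exact one_mem _) hr'
    have k4 : ⁅om p E₂ ⊔ zpowers r, U⁆ ≤ om p S := comm_le_of_rc (sup_le (le_rc (w2.trans nZ)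
      (comm_le_symm ((commutator_mono uS le_rfl).trans b2))) (zpowers_le.2 hr.2))
    have k5 := norm_of_ti pU (h.sr.mono uS) nU k1 k2 (by omega) k4 (pS.to_le om_le) lZ.le n2
    have k6 : ⁅om p E₂ ⊔ zpowers r, U⁆ = ⊥ := by_contra fun e => by
      have := small _ (k4.trans (z2.trans wE)) (norm_comm k5 nU) e
      have := lg_mono (p := p) k4
      omega
    exact n4 (eq_of_lg (pU.to_le k1) (h.sr.le_of_cent pS (k1.trans uS) vS k2 eV
      ((comm_le_bot.1 k6.le).trans (cent_anti vU)) (by omega)) (by omega) ▸ k5)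
  have h1 : ¬ ⁅V, U⁆ ≤ om p S := fun e => by
    have := lg_mono (p := p) ((le_inf vU (le_rc (vS.trans nZ) e)).trans hR); omega
  obtain ⟨x, hx, hx'⟩ := SetLike.not_le_iff_exists.1 (show ¬ U ≤ E₁ from fun e =>
    h1 ((commutator_mono le_rfl e).trans bV))
  have l8 := lg_lt_of_mem pU (inf_le_left (b := E₁)) hx fun e => hx' e.2
  have l9 := h.a.lg_inf uS
  have vM : V ≤ U ⊓ E₁ := le_inf vU vE
  have pM := pU.to_le (inf_le_left (b := E₁))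
  have nM := (inf_le_left (b := E₁)).trans (uS.trans nZ)
  obtain ⟨m, hm, h2⟩ := exists_gen pM vM (by omega)
  have h3 : ⁅V, U ⊓ E₁⁆ ≤ om p S := (commutator_mono le_rfl inf_le_right).trans bV
  have h4 := lg_comm pM nM nM h2 h2 h3 (comm_le_symm h3) vM vM hm hm (by simp)
  have l10 := lg_cz pM (pS.to_le w2) z2 nM fun y hy => comm_mem bU hy.1 hx
  have l11 := lg_mono (p := p) (show U ⊓ E₁ ⊓ cz x (om p S) ≤ om p E₂ from fun y hy => hR ⟨hy.1.1,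
    nM hy.1, comm_mem_of_gen (le_sup_zpowers pU inf_le_left l9 hx fun e => hx' e.2) (uS.trans nZ)
      inf_le_left hx (fun _ => comm_mem h4 hy.1) (mem_cz.1 hy.2).2⟩)
  have c3 : ⁅om p E₂, U⁆ ≤ ⊥ := comm_le_bot.2 (cent_symm (uE.trans cW))
  have l12 := comm_cyc pU (wV.trans vU) (by omega) (norm_bot _) c3
    ((commutator_mono bU le_rfl).trans c3) fun c hc => eW.pow c (bU hc)
  rw [sup_bot_eq] at l12
  have := small _ (bU.trans wE) (norm_comm nU nU) fun e =>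
    h1 ((commutator_mono vU le_rfl).trans (e.le.trans bot_le))
  omega

theorem one : TyA p S E₁ E₂ G₁ G₂ ∨ TyC p S E₁ E₂ G₁ G₂ ∨ TyC p S E₂ E₁ G₂ G₁ := by
  by_cases n1 : G₁ ≤ 𝐍(om p S) <;> by_cases n2 : G₂ ≤ 𝐍(om p S)
  · have := h.ne_bot t1
    rw [hT _ ((h.a.om_le t1).trans om_le) ((h.b.om_le t2).trans om_le) n1 n2, lg_bot] at this
    omega
  · exact Or.inr (Or.inl (h.caseII hp2 t1 t2 hT n1 n2))
  · exact Or.inr (Or.inr (h.symm.caseII hp2 t2 t1 (fun X a b c d => hT X b a d c) n2 n1))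
  · exact Or.inl (h.caseI hp2 t1 t2 hT n1 n2)

end Am

end H93.R3
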