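import Mathlib
import Cfsg.Agent.Base
import Cfsg.Agent.Lib.R3.Am1

/-!
Two subgroups of index `p`, in sectional rank at most three.
-/

set_option autoImplicit false

namespace H93.R3

open Subgroup H2 H91 Cfsg Cfsg.FusionSystem
open scoped commutatorElement Pointwise

local notation:max "𝐍(" A ")" => Subgroup.normalizer (SetLike.coe A)
local notation:max "𝐂(" A ")" => Subgroup.centralizer (SetLike.coe A)

universe u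

variable {Γ : Type u} [Group Γ] {p : ℕ} {S E G K B H L T D F P W A Q X Y Z U V : Subgroup Γ}
  {E₁ E₂ G₁ G₂ K₁ K₂ : Subgroup Γ} {a g s x y : Γ} [Finite Γ]

theorem exists_core (E G₁ G₂ : Subgroup Γ) : ∃ T, T ≤ E ∧ G₁ ≤ 𝐍(T) ∧ G₂ ≤ 𝐍(T) ∧
    ∀ X ≤ E, G₁ ≤ 𝐍(X) → G₂ ≤ 𝐍(X) → X ≤ T := by
  obtain ⟨T, ⟨h1, h2, h3⟩, h4⟩ := (Set.toFinite {X | X ≤ E ∧ G₁ ≤ 𝐍(X) ∧ G₂ ≤ 𝐍(X)}).exists_maximal
    ⟨⊥, bot_le, norm_bot _, norm_bot _⟩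
  exact ⟨T, h1, h2, h3, fun X x1 x2 x3 => le_sup_right.trans
    (h4 ⟨sup_le h1 x1, norm_sup h2 x2, norm_sup h3 x3⟩ le_sup_left)⟩

omit [Finite Γ] in
theorem comm_le_cent (nE : G ≤ 𝐍(E)) (hE : E ≤ G) (hL : L ≤ G) (n : G ≤ 𝐍(X)) (h : L ≤ 𝐂(X)) :
    ⁅L, E⁆ ≤ E ⊓ 𝐂(X) := le_inf (comm_le_r (hL.trans nE))
  ((commutator_mono h le_rfl).trans (comm_le_l (hE.trans (norm_cent n))))

omit [Finite Γ] in
theorem comm_le_om (hX : X ≤ 𝐂(X)) (n : A ≤ 𝐍(X)) (h : ∀ x ∈ X, x ^ p ∈ 𝐂(A)) :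
    ⁅A, X⁆ ≤ om p X := commutator_le.2 fun a ha x hx => by
  have h1 := comm_mem_r (n ha) hx
  refine ⟨h1, hX h1, ?_⟩
  rw [commutatorElement_def, Commute.mul_pow (hX (inv_mem hx) _ (conj_mem (n ha) hx)), conj_pow,
    h x hx a ha]
  simp

variable [hp : Fact p.Prime]

theorem comm_of_lg (hX : IsPGroup p X) (h : Y ≤ X) (e : lg p X ≤ lg p Y + 1) (c : X ≤ 𝐂(Y)) :
    X ≤ 𝐂(X) :=
  let ⟨x, hx, h1⟩ := exists_gen hX h e
  h1.trans ((comm_sup (h.trans c) (comm_zpowers x) (cent_symm (zpowers_le.2 (c hx)))).trans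
    (cent_anti h1))

theorem cent_of_rank (hE : IsPGroup p E) (hs : SR p 3 E) (e : EQ p E T) (h : E ≤ E ⊓ 𝐂(T) ⊔ T)
    (hl : lg p T + 2 ≤ lg p E) : E ≤ 𝐂(T) := by
  have pT := hE.to_le e.le
  have nT := e.norm le_rfl e.le
  have nY := norm_sup (norm_inf nT (norm_cent nT)) (norm_ph nT)
  have hY : T ⊓ 𝐂(T) ⊔ ph T ≤ T := sup_le inf_le_left ph_le_self
  have c1 : ⁅E ⊓ 𝐂(T), T⁆ ≤ T ⊓ 𝐂(T) ⊔ ph T := (comm_le_bot.2 inf_le_right).trans bot_le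
  have := hs E _ le_rfl ⟨hY.trans e.le, comm_le_of_rc (h.trans (sup_le (le_rc (inf_le_left.trans nY)
    (comm_le_symm (comm_le_of_rc (h.trans (sup_le (le_rc (inf_le_left.trans nY) ((le_inf
      ((commutator_mono inf_le_left inf_le_left).trans e.comm) ((comm_le_r le_normalizer).trans
        inf_le_right)).trans le_sup_left)) (le_rc (e.le.trans nY) (comm_le_symm c1)))))))
    (le_rc (e.le.trans nY) (comm_le_symm (comm_le_of_rc (h.trans (sup_le (le_rc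
      (inf_le_left.trans nY) c1) (le_rc (e.le.trans nY) ((eq_ph pT).comm.trans le_sup_right))))))))),
    fun x hx => by
      obtain ⟨a, ha, b, hb, rfl⟩ := (mem_sup_iff' (inf_le_left.trans nT)).1 (h hx)
      rw [Commute.mul_pow (ha.2 b hb).symm]
      exact mul_mem (mem_sup_left ⟨e.pow a ha.1, (𝐂(T)).pow_mem ha.2 p⟩)
        (mem_sup_right ((eq_ph pT).pow b hb))⟩
  obtain ⟨t, ht, h1⟩ := exists_gen pT hY (by omega)
  have h2 : T ≤ T ⊓ 𝐂(T) ⊔ zpowers t := le_of_ph (sup_le inf_le_left (zpowers_le.2 ht))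
    (h1.trans (sup_le (sup_le (le_sup_of_le_right le_sup_left) le_sup_left)
      (le_sup_of_le_right le_sup_right)))
  exact h.trans (sup_le inf_le_right (h2.trans (sup_le inf_le_right (cent_symm (h2.trans
    (sup_le (inf_le_right.trans (cent_anti (zpowers_le.2 ht))) (comm_zpowers t)))))))

theorem Par.cent_of_two (h : Par p S E G K B) (hs : SR p 3 S) (e : EQ p E T) (n : G ≤ 𝐍(T))
    (hl : lg p E = lg p T + 2) (c : pr p (nc S G K) ≤ 𝐂(T)) (t : ¬ ⁅pr p (nc S G K), E⁆ ≤ T) :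
    E ≤ 𝐂(T) := by
  refine cent_of_rank h.pE (hs.mono h.le) e (by_contra fun h1 => t ?_) hl.ge
  have h2 : E ⊓ 𝐂(T) ⊔ T ≤ E := sup_le inf_le_left e.le
  have := lg_lt h.pE h2 h1
  exact h.trans h2 n ((comm_le_cent h.nE h.eG h.L_le n c).trans le_sup_left)
    (h.cL1 h2 (norm_sup (norm_inf h.nE (norm_cent n)) n) n le_sup_right (by omega))

/-- The first configuration modulo `T`. -/
structure TyA' (p : ℕ) (S E₁ E₂ G₁ G₂ T : Subgroup Γ) : Prop where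
  lg : lg p S = lg p T + 3
  ea₁ : EQ p E₁ T
  ea₂ : EQ p E₂ T
  n₁ : ¬ G₁ ≤ 𝐍(E₁ ⊓ E₂)
  n₂ : ¬ G₂ ≤ 𝐍(E₁ ⊓ E₂)

/-- The symplectic configuration modulo `T`. -/
structure TyC' (p : ℕ) (S E₁ E₂ G₁ G₂ T : Subgroup Γ) : Prop where
  lg : lg p S = lg p T + 4
  ea : EQ p E₂ T
  n₁ : ¬ G₁ ≤ 𝐍(E₁ ⊓ E₂)
  irr : ∀ X, T ≤ X → X ≤ E₂ → G₂ ≤ 𝐍(X) → ¬ X ≤ T → E₂ ≤ X
  cub : ¬ ⁅S, ⁅S, E₂⁆⁆ ≤ T

namespace Am

variable (h : Am p S E₁ E₂ G₁ G₂ K₁ K₂ B)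
include h

section
variable {Γ' : Type u} [Group Γ'] [Finite Γ'] {θ : H →* Γ'} (g1 : G₁ ≤ H) (g2 : G₂ ≤ H)
  (h1 : kerIn θ ≤ E₁) (h2 : kerIn θ ≤ E₂)
include g1 g2 h1 h2

theorem tyC' (c : TyC p (imageAlong θ S) (imageAlong θ E₁) (imageAlong θ E₂) (imageAlong θ G₁)
    (imageAlong θ G₂)) : TyC' p S E₁ E₂ G₁ G₂ (kerIn θ) := by
  have a := h.a.eG.trans g1
  have b := h.b.eG.trans g2
  have s := h.a.sG.trans g1
  refine ⟨?_, (ea_im b h2).1 c.ea, fun e => c.n₁ (im_inf a b h1 h2 ▸ im_norm g1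
    (inf_le_left.trans a) e), fun X x1 x2 x3 x4 => (im_le_iff b (x2.trans b) x1).1 (c.irr _
      (imageAlong_mono θ x2) (im_norm g2 (x2.trans b) x3) fun e => x4 ((im_eq_bot (x2.trans b)).1 e)),
    fun e => c.cub ?_⟩
  · have := lg_im (p := p) s (h1.trans h.a.le); have := c.lg; omega
  · rwa [← im_comm s b, ← im_comm s (comm_le_of_le s b), im_le_bot
      (comm_le_of_le s (comm_le_of_le s b))]

theorem tyA' (c : TyA p (imageAlong θ S) (imageAlong θ E₁) (imageAlong θ E₂) (imageAlong θ G₁)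
    (imageAlong θ G₂)) : TyA' p S E₁ E₂ G₁ G₂ (kerIn θ) := by
  have a := h.a.eG.trans g1
  have b := h.b.eG.trans g2
  refine ⟨?_, (ea_im a h1).1 c.ea₁, (ea_im b h2).1 c.ea₂, fun e => c.n₁ (im_inf a b h1 h2 ▸
    im_norm g1 (inf_le_left.trans a) e), fun e => c.n₂ (im_inf a b h1 h2 ▸
    im_norm g2 (inf_le_left.trans a) e)⟩
  have := lg_im (p := p) (h.a.sG.trans g1) (h1.trans h.a.le); have := c.lg; omega

end

variable (hp2 : Odd p) (x1 : T ≤ E₁) (x2 : T ≤ E₂) (n1 : G₁ ≤ 𝐍(T)) (n2 : G₂ ≤ 𝐍(T))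
include hp2 x1 x2 n1 n2

theorem pull (hT : ∀ X ≤ E₁ ⊓ E₂, G₁ ≤ 𝐍(X) → G₂ ≤ 𝐍(X) → X ≤ T)
    (t1 : ¬ ⁅pr p (nc S G₁ K₁), E₁⁆ ≤ T) (t2 : ¬ ⁅pr p (nc S G₂ K₂), E₂⁆ ≤ T) :
    TyA' p S E₁ E₂ G₁ G₂ T ∨ TyC' p S E₁ E₂ G₁ G₂ T ∨ TyC' p S E₂ E₁ G₂ G₁ T := by
  have a := h.a.eG.trans (le_sup_left (b := G₂))
  have b := h.b.eG.trans (le_sup_right (a := G₁))
  obtain ⟨Γ', _, _, θ, rfl⟩ := exists_qt (x1.trans a) (sup_le n1 n2)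
  refine ((h.im le_sup_left le_sup_right x1 x2).one hp2 (fun e => t1 ?_) (fun e => t2 ?_)
    fun X y1 y2 y3 y4 => ?_).imp (h.tyA' le_sup_left le_sup_right x1 x2) (Or.imp
      (h.tyC' le_sup_left le_sup_right x1 x2) (h.symm.tyC' le_sup_right le_sup_left x2 x1))
  · rwa [h.a.im_L le_sup_left, im_cent (h.a.L_le.trans le_sup_left) a] at e
  · rwa [h.b.im_L le_sup_right, im_cent (h.b.L_le.trans le_sup_right) b] at e
  · obtain ⟨U, u1, u2, rfl⟩ := exists_pre (inf_le_left.trans a) (le_inf x1 x2)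
      (im_inf a b x1 x2 ▸ le_inf y1 y2)
    have u3 := u2.trans (inf_le_left.trans a)
    exact (im_eq_bot u3).2 (hT U u2 (norm_of_im le_sup_left u3 u1 y3) (norm_of_im le_sup_right u3 u1 y4))

theorem cent_core (hT : ∀ X ≤ E₁ ⊓ E₂, G₁ ≤ 𝐍(X) → G₂ ≤ 𝐍(X) → X ≤ T)
    (t2 : ¬ pr p (nc S G₂ K₂) ≤ 𝐂(E₂)) : pr p (nc S G₁ K₁) ≤ 𝐂(T) := by
  by_contra t
  have c := (h.excl hp2 x1 x2 n1 n2).resolve_left t
  have pT := h.a.pE.to_le x1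
  obtain ⟨U, V, -, u2, -, v2, h1, h2⟩ := h.a.v3' x1 (eq_ph pT) n1 (norm_ph n1)
    (h.sr _ _ (x1.trans h.a.le) (eq_ph pT)) fun e => t (pr_ph pT (h.a.L_le.trans n1) e)
  obtain ⟨h3, h4⟩ := h1 B h.a.nS (h.a.bG.trans n1) (norm_ph (h.a.bG.trans n1))
  have nD : G₂ ≤ 𝐍(E₁ ⊓ E₂) := by
    rw [← h2, inf_right_comm, inf_eq_right.2 h.b.le]
    exact norm_inf h.b.nE (norm_rc (h.b.norm_c (u2.trans x2) u2 c h3)
      (h.b.norm_c (v2.trans x2) v2 c h4))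
  have b2 : ¬ ⁅pr p (nc S G₂ K₂), E₂⁆ ≤ T := fun e => t2 (h.b.cent x2 e c)
  have hD : ¬ E₁ ⊓ E₂ ≤ T := fun e => b2 ((h.b.cL1 le_rfl h.b.nE nD inf_le_right
    (by have := h.lg_inf; have := h.b.idx; omega)).trans e)
  by_cases b1 : ⁅pr p (nc S G₁ K₁), E₁⁆ ≤ T
  · exact hD (hT _ le_rfl (h.a.norm' inf_le_left (le_inf x1 x2) ((commutator_mono le_rfl
      inf_le_left).trans b1) (h.b.bG.trans nD)) nD)
  rcases h.pull hp2 x1 x2 n1 n2 hT b1 b2 with d | d | d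
  · exact d.n₂ nD
  · exact h.ne' ((d.irr _ (le_inf x1 x2) inf_le_right nD hD).trans inf_le_left)
  · exact d.n₁ (inf_comm E₁ E₂ ▸ nD)

omit hp2 in
theorem eq_bot_of_tyC (c : TyC' p S E₁ E₂ G₁ G₂ T) (c2 : pr p (nc S G₂ K₂) ≤ 𝐂(T))
    (t2 : ¬ ⁅pr p (nc S G₂ K₂), E₂⁆ ≤ T) : T = ⊥ := by
  have l0 := c.lg
  have l1 := h.lg_inf
  have i1 := h.a.idx
  have i2 := h.b.idx
  have pS := h.a.pg
  have s2 := h.b.sG.trans h.b.nE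
  have sT := h.a.sG.trans n1
  have e : T ≤ ph E₂ := le_of_lg (h.b.pE.to_le x2) (c.ea.ph_le h.b.pE)
    (by have := h.sr _ _ h.b.le (eq_ph h.b.pE); omega)
  have k : ∀ X ≤ E₂, G₂ ≤ 𝐍(X) → ⁅pr p (nc S G₂ K₂), E₂⁆ ≤ X → E₂ ≤ X := fun X y1 y2 y3 =>
    le_of_ph y1 ((c.irr _ le_sup_left (sup_le x2 y1) (norm_sup n2 y2)
      fun e => t2 (y3.trans (le_sup_right.trans e))).trans (sup_le_sup_right e _))
  have h1 : E₂ ≤ 𝐂(T) := (k _ inf_le_left (norm_inf h.b.nE (norm_cent n2))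
    (comm_le_cent h.b.nE h.b.eG h.b.L_le n2 c2)).trans inf_le_right
  have h2 : E₁ ≤ 𝐂(T) := by_contra fun h2 => c.n₁ (eq_of_lg (h.a.pE.to_le inf_le_left)
    (inf_le_inf_left E₁ h1) (by have := lg_inf_lt' h.a.pE h2; omega) ▸
      norm_inf h.a.nE (norm_cent n1))
  have h3 : T ≤ 𝐂(S) := cent_symm (h.sup.trans (sup_le h2 h1))
  have a1 : ⁅S, E₂⁆ ≤ E₂ := comm_le_r s2
  have a2 : ⁅S, E₂⁆ ⊔ T ≤ E₁ ⊓ E₂ :=
    sup_le (le_inf ((commutator_mono le_rfl h.b.le).trans h.a.eq.comm) a1) (le_inf x1 x2)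
  have m1 := norm_comm (le_normalizer (H := S)) s2
  have m2 := norm_comm (le_normalizer (H := S)) m1
  have a3 : ⁅S, ⁅S, E₂⁆⁆ ⊔ T ≤ ⁅S, E₂⁆ ⊔ T := sup_le_sup_right (comm_le_r m1) _
  have a4 := a2.trans (inf_le_left.trans h.a.le)
  have l2 := lg_mono (p := p) a2
  have l3 := lg_lt (pS.to_le a4) a3 fun e => c.cub ((le_sup_left.trans a3).trans (le_of_comm_sup pS
    a4 (norm_sup m1 sT) sT le_sup_right (e.trans (sup_le_sup_right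
      (commutator_mono le_rfl le_sup_left) _))))
  have l4 := lg_lt (pS.to_le (a3.trans a4)) le_sup_right fun e => c.cub (le_sup_left.trans e)
  have a5 := comm_le_of_lg pS (a3.trans a4) le_sup_right (by omega) (norm_sup m2 sT) sT
  have cT : ∀ {X Y Z}, X ≤ E₂ → Y ≤ E₂ → Z ≤ S → ⁅⁅X, Y⁆, Z⁆ ≤ ⊥ := fun y1 y2 y3 =>
    comm_le_bot.2 ((commutator_mono y1 y2).trans (c.ea.comm.trans (h3.trans (cent_anti y3))))
  have a6 : ⁅S, E₂⁆ ⊔ T ≤ 𝐂(⁅S, ⁅S, E₂⁆⁆ ⊔ T) := sup_le (comm_le_bot.1 (three_subgroups_le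
    (norm_bot _) (norm_bot _) (norm_bot _) (cT le_rfl (a3.trans (a2.trans inf_le_right)) le_rfl)
    (comm_le_bot.2 ((comm_le_symm a5).trans (h3.trans (cent_anti h.b.le))))))
    (h3.trans (cent_anti (a3.trans a4)))
  have a7 := comm_of_lg (pS.to_le a4) a3 (by omega) a6
  have a8 : ⁅S, ⁅S, E₂⁆⁆ ≤ 𝐂(E₂) := comm_le_bot.1 (three_subgroups_le (norm_bot _) (norm_bot _)
    (norm_bot _) (cT a1 le_rfl le_rfl) (comm_le_bot.2 ((comm_le_symm le_sup_left).trans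
      (a7.trans (cent_anti le_sup_left)))))
  have a9 : E₂ ≤ 𝐂(E₂) := (c.irr (E₂ ⊓ 𝐂(E₂)) (le_inf x2 (cent_symm h1)) inf_le_left
    (norm_inf h.b.nE (norm_cent h.b.nE)) fun e => c.cub ((le_inf ((comm_le_r m1).trans a1)
      a8).trans e)).trans inf_le_right
  exact le_bot_iff.1 (e.trans ((ea_om.mono (k _ om_le (norm_om h.b.nE) (comm_le_om a9
    (h.b.L_le.trans h.b.nE) fun x hx => cent_symm c2 (c.ea.pow x hx)))).eq.ph_le h.b.pE))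

theorem comm_of_tyA (l0 : lg p S = lg p T + 3) (e1 : EQ p E₁ T) (e2 : EQ p E₂ T)
    (nD : ¬ G₁ ≤ 𝐍(E₁ ⊓ E₂)) (c1 : pr p (nc S G₁ K₁) ≤ 𝐂(T)) (c2 : pr p (nc S G₂ K₂) ≤ 𝐂(T))
    (t1 : ¬ ⁅pr p (nc S G₁ K₁), E₁⁆ ≤ T) (t2 : ¬ ⁅pr p (nc S G₂ K₂), E₂⁆ ≤ T) : E₂ ≤ 𝐂(E₂) := by
  have l1 := h.lg_inf
  have i1 := h.a.idx
  have i2 := h.b.idx
  have h1 := h.a.cent_of_two h.sr e1 n1 (by omega) c1 t1
  have h2 := h.b.cent_of_two h.sr e2 n2 (by omega) c2 t2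
  have dS := (inf_le_left (b := E₂)).trans h.a.le
  have sT := h.a.sG.trans n1
  have h3 := comm_le_of_lg h.a.pg dS (le_inf x1 x2) (by omega)
    (norm_inf (h.a.sG.trans h.a.nE) (h.b.sG.trans h.b.nE)) sT
  have h4 : E₁ ⊓ relCentralizer S T = E₁ ⊓ E₂ := (eq_of_lg (h.a.pE.to_le inf_le_left)
    (le_inf inf_le_left (le_rc (dS.trans sT) (comm_le_symm h3))) (by
      have := lg_inf_lt' h.a.pE (show ¬ E₁ ≤ relCentralizer S T from fun e => t1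
        (h.a.cL' le_rfl h.a.nE n1 (comm_le_symm (comm_le_of_rc e))))
      omega)).symm
  obtain ⟨F, P, v⟩ := h.a.tv le_rfl e1 h.a.nE n1 e1.comm (by rw [h4]; omega) (by rwa [h4])
  obtain ⟨τ, k0, k1, k2, k3, -⟩ := v.neg hp2 e1 h.a.eG (h.a.eG.trans n1)
  have h5 := comm_of_lg (h.a.pg.to_le dS) (le_inf x1 x2) (by omega) (inf_le_left.trans h1)
  refine comm_of_lg h.b.pE inf_le_right (by omega) (cent_symm (comm_le_bot.1 (comm_ev (norm_bot _)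
    (norm_bot _) (comm_le_symm ((commutator_mono h.b.le le_rfl).trans h3))
    (comm_le_bot.2 (inf_le_right.trans h2)) (comm_le_bot.2 h2) (comm_le_bot.2 (cent_symm h2))
    (comm_le_bot.2 h5) (le_inf x1 x2) inf_le_right (fun y hy => le_inf x1 x2 (e2.pow y hy))
    (k2.mono (inf_le_left.trans (le_of_lg h.a.pE v.pX (by have := v.lgP; omega))) le_rfl)
    ((k3.inf (h.b.nE (h.b.bG k0))).mono (le_inf h.b.le le_rfl) le_rfl)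
    (ev_one' (comm_le_bot.2 c1) k1) fun e => not_dvd_two hp2 (by simpa using e.neg_right))))

omit x1 x2 n1 n2 in
theorem main (t1 : ¬ pr p (nc S G₁ K₁) ≤ 𝐂(E₁)) (t2 : ¬ pr p (nc S G₂ K₂) ≤ 𝐂(E₂)) :
    (E₁ ≤ 𝐂(E₁) ∧ E₂ ≤ 𝐂(E₂)) ∨ TyC p S E₁ E₂ G₁ G₂ ∨ TyC p S E₂ E₁ G₂ G₁ := by
  obtain ⟨T, x, n1, n2, hT⟩ := exists_core (E₁ ⊓ E₂) G₁ G₂
  have x1 := x.trans inf_le_left
  have x2 := x.trans inf_le_right
  have c1 := h.cent_core hp2 x1 x2 n1 n2 hT t2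
  have c2 := h.symm.cent_core hp2 x2 x1 n2 n1 (fun X a b c => hT X (inf_comm E₁ E₂ ▸ a) c b) t1
  have b1 : ¬ ⁅pr p (nc S G₁ K₁), E₁⁆ ≤ T := fun e => t1 (h.a.cent x1 e c1)
  have b2 : ¬ ⁅pr p (nc S G₂ K₂), E₂⁆ ≤ T := fun e => t2 (h.b.cent x2 e c2)
  have k : T = ⊥ → _ := fun e => (h.one hp2 t1 t2 fun X a b c d =>
    le_bot_iff.1 ((hT X (le_inf a b) c d).trans e.le)).imp_left fun a => And.intro a.ea₁.comm a.ea₂.comm
  rcases h.pull hp2 x1 x2 n1 n2 hT b1 b2 with d | d | d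
  · exact Or.inl ⟨h.symm.comm_of_tyA hp2 x2 x1 n2 n1 d.lg d.ea₂ d.ea₁ (inf_comm E₁ E₂ ▸ d.n₂) c2 c1
      b2 b1, h.comm_of_tyA hp2 x1 x2 n1 n2 d.lg d.ea₁ d.ea₂ d.n₁ c1 c2 b1 b2⟩
  · exact k (h.eq_bot_of_tyC x1 x2 n1 n2 d c2 b2)
  · exact k (h.symm.eq_bot_of_tyC x2 x1 n2 n1 d c1 b1)

end Am

end H93.R3
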