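import Mathlib
import Cfsg.Agent.Base
import Cfsg.Agent.Lib.R3.AmT

/-!
A subgroup `E` of index `p` in `N` that is moved by a group `A` normalizing `N`.
-/

set_option autoImplicit false

namespace H93.R3

open Subgroup H2 H91 Cfsg Cfsg.FusionSystem
open scoped commutatorElement Pointwise

local notation:max "𝐍(" A ")" => Subgroup.normalizer (SetLike.coe A)
local notation:max "𝐂(" A ")" => Subgroup.centralizer (SetLike.coe A)

universe u

variable {Γ : Type u} [Group Γ] {p : ℕ} {N E G K B H M J T F P W A X Y Z K' B' : Subgroup Γ}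
  {a g s x y : Γ}

/-- The group `A` normalizes `N` but not `E`. -/
structure NC (p : ℕ) (N E G K B A : Subgroup Γ) : Prop where
  a : Par p N E G K B
  sr : SR p 3 N
  t : ¬ pr p (nc N G K) ≤ 𝐂(E)
  nA : A ≤ 𝐍(N)
  bA : B ≤ A
  mv : ¬ A ≤ 𝐍(E)

/-- The structure of `N` modulo the largest subgroup `T` of `E` normalized by `G` and `A`. -/
structure Nd (p : ℕ) (N E G K B A T Z : Subgroup Γ) : Prop extends NC p N E G K B A where
  nG : G ≤ 𝐍(T)
  nT : A ≤ 𝐍(T)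
  max : ∀ X ≤ E, G ≤ 𝐍(X) → A ≤ 𝐍(X) → X ≤ T
  cT : pr p (nc N G K) ≤ 𝐂(T)
  eq : EQ p E T
  eZ : E ⊓ relCentralizer N T = Z
  nZ : A ≤ 𝐍(Z)
  nn : ¬ G ≤ 𝐍(Z)
  eqZ : EQ p N Z
  lgZ : lg p Z + 2 = lg p N

theorem Ev.congr {a b : ℤ} (h : Ev g X Y a) (h1 : ∀ x ∈ X, x ^ p ∈ Y) (e : (p : ℤ) ∣ a - b) :
    Ev g X Y b := fun x hx => by
  obtain ⟨k, hk⟩ := e
  have := mul_mem (h x hx) (zpow_mem (h1 x hx) k)
  rwa [← zpow_natCast, ← zpow_mul, ← hk, zpow_sub, mul_assoc, inv_mul_cancel_left] at this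

variable [Finite Γ] [hp : Fact p.Prime]

omit [Finite Γ] in
theorem not_dvd_six (h : 5 ≤ p) {k : ℤ} (e : k ∣ 6 ^ 2) : ¬ (p : ℤ) ∣ k := fun h1 => by
  have h2 : p ∣ 2 * 3 := hp.out.dvd_of_dvd_pow (n := 2) (by exact_mod_cast h1.trans e)
  rcases (Nat.Prime.dvd_mul hp.out).1 h2 with h3 | h3 <;> have := Nat.le_of_dvd (by omega) h3 <;> omega

theorem NC.one (h : NC p N E G K B A) (hT : ∀ X ≤ E, G ≤ 𝐍(X) → A ≤ 𝐍(X) → X = ⊥) :
    EA p E ∧ EQ p N (om p N) ∧ lg p (om p N) + 2 = lg p N ∧ ¬ G ≤ 𝐍(om p N) := by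
  have z := h.a.om_le h.t
  have pN := h.a.pg
  have i := h.a.idx
  have nZ : A ≤ 𝐍(om p N) := norm_om h.nA
  have l0 := lg_pos (pN.to_le (om_le (p := p))) fun e => om_ne_bot pN le_rfl le_normalizer
    (fun e => by rw [e, lg_bot] at i; omega) (by simp [e])
  have n : ¬ G ≤ 𝐍(om p N) := fun e => by rw [hT _ (z.trans om_le) e nZ, lg_bot] at l0; omega
  have nW := norm_om (p := p) h.a.nE
  have c := h.a.inf_cent_le om_le nW (h.a.not_cent_om h.t n)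
  have w : om p E ≤ N := om_le.trans h.a.le
  have w' : ∀ a ∈ A, cn a (om p E) ≤ N := fun a ha => cn_le w (h.nA ha)
  have c' : ∀ a ∈ A, N ⊓ 𝐂(cn a (om p E)) ≤ cn a E := fun a ha => by
    rw [cn_cent, ← cn_eq (h.nA ha), ← cn_inf]; exact cn_mono c
  have e' : ∀ a, cn a E ≤ 𝐂(cn a (om p E)) := fun a => cn_om (p := p) (g := a) ▸ cent_om
  by_cases d : ∀ a ∈ A, om p E ≤ 𝐂(cn a (om p E))
  · exfalso
    obtain ⟨a, ha, ha'⟩ := SetLike.not_le_iff_exists.1 h.mv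
    have e := ea_om.sup (ea_om.cn a) (d a ha)
    have u := sup_le w (w' a ha)
    have pU := pN.to_le u
    have l1 := h.sr.ea u e
    have l2 := lg_lt pU le_sup_left fun e => ha' (cn_eq_iff.1 (eq_of_lg (h.a.pE.map _) ((le_inf
      h.a.le (cent_om.trans (cent_anti (le_sup_right.trans e)))).trans (c' a ha)) lg_cn.le).symm)
    have l3 := lg_lt (pN.to_le w) z fun e => n (le_antisymm e z ▸ nW)
    have b := comm_le_of_lg pN w z (by omega) (h.a.sG.trans nW) (norm_om le_normalizer)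
    have b' : ⁅N, cn a (om p E)⁆ ≤ om p N := by
      have := cn_le b (nZ ha)
      rwa [cn_comm, cn_eq (h.nA ha)] at this
    have uE := sup_le (om_le (p := p)) ((le_inf (w' a ha) (cent_symm (d a ha))).trans c)
    have := hT _ uE (norm_of_ti h.a.pE (h.sr.mono h.a.le) h.a.nE uE e (by omega)
      ((commutator_mono le_rfl h.a.le).trans (comm_le_of_rc (sup_le (le_rc (w.trans (norm_om
        le_normalizer)) (comm_le_symm b)) (le_rc ((w' a ha).trans (norm_om le_normalizer))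
        (comm_le_symm b'))))) (pN.to_le om_le) (by omega) n) fun g hg => norm_of_cn_le (by
      have k : ∀ x ∈ A, cn x (om p E) ≤ om p E ⊔ cn a (om p E) := fun x hx =>
        h.sr.le_of_cent pN u (w' x hx) e (ea_om.cn x) (sup_le (d x hx) (by
          have := cn_mono (g := a) (d _ (mul_mem (inv_mem ha) hx))
          rwa [← cn_cent, cn_cn, mul_inv_cancel_left] at this)) (by omega)
      rw [cn_sup, cn_cn]
      exact sup_le (k g hg) (k _ (mul_mem hg ha)))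
    rw [this, lg_bot] at l2
    omega
  push Not at d
  obtain ⟨a, ha, d⟩ := d
  have d1 : ¬ om p E ≤ cn a E := fun e => d (e.trans (e' a))
  have d2 : ¬ cn a (om p E) ≤ E := fun e => d (cent_symm (e.trans cent_om))
  have x1 := cn_le h.a.le (h.nA ha)
  have l1 := lg_inf pN h.a.le x1
  have l2 := lg_inf_lt' h.a.pE fun e => d1 (om_le.trans e)
  rw [lg_cn] at l1
  have h1 : E ≤ E ⊓ cn a E ⊔ om p E :=
    le_sup_of_lg h.a.pE inf_le_left (by omega) om_le fun e => d1 (e.trans inf_le_right)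
  have q := eq_of_index pN x1 (by rw [lg_cn]; omega)
  have eD : EQ p N (E ⊓ cn a E) := ⟨inf_le_left.trans h.a.le, le_inf h.a.eq.comm q.comm,
    fun x hx => ⟨h.a.eq.pow x hx, q.pow x hx⟩⟩
  have h2 := cent_of_rank pN h.sr eD ((le_sup_of_lg pN h.a.le i.ge (w' a ha) d2).trans (sup_le
    (h1.trans (sup_le le_sup_right (le_sup_of_le_left (le_inf w
      (om_cent.trans (cent_anti inf_le_left)))))) (le_sup_of_le_left (le_inf (w' a ha)
        (cent_symm (inf_le_right.trans (e' a))))))) (by omega)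
  have h3 : E ⊓ cn a E = N ⊓ 𝐂(N) := le_antisymm (le_inf eD.le (cent_symm h2)) (le_inf
    ((inf_le_inf_left N (cent_anti w)).trans c)
    ((inf_le_inf_left N (cent_anti (w' a ha))).trans (c' a ha)))
  have h4 := le_antisymm (ph_sup_le h.a.pE inf_le_left h1) (ph_mono h.a.pE inf_le_left)
  have e := ea_of_ph h.a.pE (hT _ ph_le_self (norm_ph h.a.nE)
    (by rw [h4, h3]; exact norm_ph (norm_inf h.nA (norm_cent h.nA))))
  have h5 : E ⊓ cn a E = om p N := le_antisymm ((e.mono inf_le_left).le_om eD.le (cent_symm h2))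
    (h3 ▸ le_inf om_le om_cent)
  exact ⟨e, h5 ▸ eD, h5 ▸ (by omega), n⟩

theorem NC.exists_nd (h : NC p N E G K B A) : ∃ T Z, Nd p N E G K B A T Z := by
  obtain ⟨T, x, n1, n2, hT⟩ := exists_core E G A
  have pT := h.a.pE.to_le x
  have c : pr p (nc N G K) ≤ 𝐂(T) := by_contra fun t => by
    obtain ⟨U, V, -, -, -, -, h1, h2⟩ := h.a.v3' x (eq_ph pT) n1 (norm_ph n1)
      (h.sr _ _ (x.trans h.a.le) (eq_ph pT)) fun e => t (pr_ph pT (h.a.L_le.trans n1) e)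
    obtain ⟨h3, h4⟩ := h1 A h.nA n2 (norm_ph n2)
    exact h.mv (h2 ▸ norm_inf h.nA (norm_rc h3 h4))
  have g1 : G ≤ G ⊔ A := le_sup_left
  have g2 : A ≤ G ⊔ A := le_sup_right
  have hE := h.a.eG.trans g1
  have hN := h.a.sG.trans g1
  obtain ⟨Γ', _, _, θ, rfl⟩ := exists_qt (x.trans hE) (sup_le n1 n2)
  have h' : NC p (imageAlong θ N) (imageAlong θ E) (imageAlong θ G) (imageAlong θ K)
      (imageAlong θ B) (imageAlong θ A) := ⟨h.a.im g1 x, h.sr.im hN (x.trans h.a.le), fun e =>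
    h.t (h.a.cent x (by rwa [h.a.im_L g1, im_cent (h.a.L_le.trans g1) hE] at e) c),
    im_norm g2 hN h.nA, imageAlong_mono θ h.bA, fun e => h.mv (norm_of_im g2 hE x e)⟩
  obtain ⟨k1, k2, k3, k4⟩ := h'.one fun X y1 y2 y3 => by
    obtain ⟨U, u1, u2, rfl⟩ := exists_pre hE x y1
    exact (im_eq_bot (u2.trans hE)).2 (hT U u2 (norm_of_im g1 (u2.trans hE) u1 y2)
      (norm_of_im g2 (u2.trans hE) u1 y3))
  obtain ⟨Z, z1, z2, z3⟩ := exists_pre hE x ((h'.a.om_le h'.t).trans om_le)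
  have hZ := z2.trans hE
  rw [← z3] at k2 k3 k4
  refine ⟨_, Z, h, n1, n2, hT, c, (ea_im hE x).1 k1, le_antisymm ((im_le_iff (inf_le_left.trans hE)
    hZ z1).1 (z3 ▸ (k1.mono (imageAlong_mono θ inf_le_left)).le_om (imageAlong_mono θ
      (inf_le_left.trans h.a.le)) ((im_cent (inf_le_left.trans hE) hN).2
        (comm_le_of_rc inf_le_right)))) (le_inf z2 (le_rc (z2.trans (h.a.eG.trans n1))
      ((im_cent hZ hN).1 (z3 ▸ om_cent)))), norm_of_im g2 hZ z1 (z3 ▸ norm_om h'.nA),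
    fun e => k4 (im_norm g1 hZ e), eq_of_im hN hZ (x.trans h.a.le) z1 k2, ?_⟩
  have := lg_im (p := p) hZ z1
  have := lg_im (p := p) hN (x.trans h.a.le)
  omega

namespace Nd

variable (h : Nd p N E G K B A T Z)
include h

omit [Finite Γ] hp in
theorem zE : Z ≤ E := h.eZ.ge.trans inf_le_left
omit [Finite Γ] hp in
theorem cZ : ⁅N, Z⁆ ≤ T := comm_le_symm (comm_le_of_rc (h.eZ.ge.trans inf_le_right))
omit [Finite Γ] hp in
theorem nA' : N ≤ A := h.a.sB.trans h.bA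
omit [Finite Γ] hp in
theorem tZ : T ≤ Z := (le_inf h.eq.le (le_rc le_normalizer (comm_le_l (h.a.sG.trans h.nG)))).trans
  h.eZ.le
theorem t' : ¬ ⁅pr p (nc N G K), E⁆ ≤ T := fun e => h.t (h.a.cent h.eq.le e h.cT)

theorem tv : ∃ F P, TV p N E G B (pr p (nc N G K)) E T F P :=
  h.a.tv le_rfl h.eq h.a.nE h.nG h.eq.comm (by rw [h.eZ]; have := h.lgZ; have := h.a.idx; omega)
    (by rw [h.eZ]; exact h.nn)

omit [Finite Γ] hp in
theorem yZ : ⁅N, E⁆ ⊔ T ≤ Z := sup_le ((commutator_mono le_rfl h.a.le).trans h.eqZ.comm) h.tZ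

theorem nY : A ≤ 𝐍(⁅N, E⁆ ⊔ T) := by
  obtain ⟨s, hs, h1⟩ := exists_gen h.a.pg h.a.le h.a.idx.ge
  have n := norm_sup (norm_comm le_normalizer (h.a.sG.trans h.a.nE)) (h.a.sG.trans h.nG)
  rw [show ⁅N, E⁆ ⊔ T = ⁅N, N⁆ ⊔ T from le_antisymm (sup_le_sup_right (commutator_mono le_rfl h.a.le) _)
    (sup_le (lg_comm h.a.pg n n h1 h1 (comm_le_symm le_sup_left) le_sup_left h.a.le h.a.le hs hs
      (by simp)) le_sup_right)]
  exact norm_sup (norm_comm h.nA h.nA) h.nT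

theorem lg_y (v : TV p N E G B (pr p (nc N G K)) E T F P) : lg p Z ≤ lg p (⁅N, E⁆ ⊔ T) + 1 := by
  have := h.sr _ _ h.a.le h.eq; have := v.lgZ; have := h.lgZ; have := h.a.idx; omega

theorem comm_z (v : TV p N E G B (pr p (nc N G K)) E T F P) (hg : g ∈ pr p (nc N G K))
    (hg' : g ∈ A) : Ev g Z (⁅N, E⁆ ⊔ T) 1 := ev_one fun x hx => le_of_lg (X := ⁅N, E⁆ ⊔ T)
  (h.a.pE.to_le (inf_le_left.trans v.pX)) (le_inf (sup_le v.zP v.yP) h.yZ) (by
    have := lg_inf_lt' (h.a.pE.to_le v.pX) (show ¬ P ≤ Z from fun e => by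
      have := lg_mono (p := p) (v.sup.trans (sup_le (v.fH.trans h.eZ.le) e))
      have := h.lgZ; have := h.a.idx; omega)
    have := v.lgZ; have := v.lgP; omega) ⟨comm_mem v.cP hg (h.zE hx), comm_mem_r (h.nZ hg') hx⟩

theorem two (hp2 : Odd p) (hJ : J ≤ A) (hl : lg p A ≤ lg p J) (c : ⁅J, Z⁆ ≤ T) :
    lg p E = lg p T + 2 := by
  obtain ⟨F, P, v⟩ := h.tv
  obtain ⟨τ, k0, k1, -, -, -, k2⟩ := v.neg hp2 h.eq h.a.eG (h.a.eG.trans h.nG)
  have pZ := h.a.pE.to_le h.zE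
  have fZ := v.fH.trans h.eZ.le
  have hR : A ⊓ (relCentralizer Z (⁅N, E⁆ ⊔ T) ⊓ relCentralizer (⁅N, E⁆ ⊔ T) T) ≤
      relCentralizer Z T := le_of_syl (le_inf hJ (le_inf (le_rc (hJ.trans h.nY) (c.trans le_sup_right))
    (le_rc (hJ.trans h.nT) ((commutator_mono le_rfl h.yZ).trans c)))) ((lg_mono inf_le_left).trans hl)
    (le_rc (hJ.trans h.nT) c) fun x ⟨x1, x2, x3⟩ hx => ⟨h.nT x1, fun z hz =>
      comm_mem_of_coprime (pZ.to_le h.yZ) hx (h.nT x1) (x2.2 z hz) x3.2⟩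
  have := lg_mono (p := p) (h.max F (fZ.trans h.zE) v.nF (le_norm fun a ha f hf =>
    k2 _ (h.zE (conj_mem (h.nZ ha) (fZ hf))) (by
      have a1 := inv_mem (h.bA k0)
      have a2 := inv_mem ha
      have u := hR ⟨comm_mem_r (le_normalizer a1) a2, comm_mem_rc pZ h.yZ (h.lg_y v) h.nZ h.nY a1 a2,
        comm_mem_rc (pZ.to_le h.yZ) le_sup_right v.lgZ.le h.nY h.nT a1 a2⟩
      have := conj_mem (h.nT ha) (mul_mem (show τ ∈ cz f T from ⟨h.nT (h.bA k0),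
        comm_mem v.cF k1 hf⟩) ⟨u.1, u.2 f (fZ hf)⟩).2
      rw [conj_comm] at this
      convert this using 2
      simp [commutatorElement_def, mul_assoc])))
  have := lg_mono (p := p) v.yF
  have := v.lgF
  omega

theorem cent (e : lg p E = lg p T + 2) : N ≤ 𝐂(T) := by
  have h1 := h.a.cent_of_two h.sr h.eq h.nG e h.cT h.t'
  obtain ⟨a, ha, ha'⟩ := SetLike.not_le_iff_exists.1 h.mv
  refine (le_sup_of_lg h.a.pg h.a.le h.a.idx.ge (cn_le h.a.le (h.nA ha))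
    fun e => ha' (norm_of_cn_le e)).trans (sup_le h1 ?_)
  rw [← cn_eq (h.nT ha), cn_cent]
  exact cn_mono h1

theorem comm_Z (e : lg p E = lg p T + 2) : Z ≤ 𝐂(Z) :=
  comm_of_lg (h.a.pE.to_le h.zE) h.tZ (by have := h.lgZ; have := h.a.idx; omega)
    (h.zE.trans (h.a.le.trans (h.cent e)))

theorem not_le (hp2 : Odd p) (e : lg p E = lg p T + 2) : ¬ N ⊓ 𝐂(Z) ≤ E := fun h0 => by
  obtain ⟨F, P, v⟩ := h.tv
  obtain ⟨τ, k0, k1, k2, k3, k4, -⟩ := v.neg hp2 h.eq h.a.eG (h.a.eG.trans h.nG)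
  rw [h.eZ] at k4
  have c := h.cent e
  have nZ := h.nA'.trans h.nZ
  have k5 : ∀ x ∈ N ⊓ cz τ Z, ⁅τ, x⁆ ∈ Z := fun x hx => comm_symm (mem_cz.1 hx.2).2
  have h1 : ⁅Z, N ⊓ cz τ Z⁆ ≤ ⊥ := comm_ev (norm_bot _) (norm_bot _) (comm_le_symm
    ((commutator_mono inf_le_left le_rfl).trans h.cZ)) (comm_le_bot.2 (h.zE.trans (h.a.le.trans c)))
    (comm_le_bot.2 (inf_le_left.trans c)) (comm_le_bot.2 (cent_symm (inf_le_left.trans c)))
    (comm_le_bot.2 (h.comm_Z e)) h.tZ (fun x hx => ⟨h.eqZ.le hx, le_normalizer hx,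
      comm_mem_l (h.nZ (h.bA k0)) hx⟩) (fun y hy => h.eqZ.pow y hy.1) (k2.mono (h.zE.trans (le_of_lg
        h.a.pE v.pX (by have := v.lgP; omega))) le_rfl) (ev_one k5)
    (ev_one' (comm_le_bot.2 h.cT) k1) fun e => not_dvd_two hp2 (by simpa using e.neg_right)
  have h2 := lg_cz h.a.pg h.a.pE h.zE nZ (a := τ) fun x hx =>
    comm_symm (by simpa [commutatorElement_def] using k3 x hx)
  have h3 := lg_mono (p := p) (show N ⊓ cz τ Z ≤ Z from fun x hx => mem_of_ev (ev_one k5 x hx)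
    (k4 x (h0 ⟨hx.1, cent_symm (comm_le_bot.1 h1) hx⟩)) (h.eqZ.pow x hx.1) (not_dvd_two hp2))
  have := h.a.idx
  omega

end Nd

/-- The subgroup `E` is not normal in the `p`-group `M` normalizing `N`. -/
structure Nn (p : ℕ) (N E G K B A T Z M W K' B' : Subgroup Γ) : Prop
    extends Nd p N E G K B A T Z where
  b : Par p M N A K' B'
  le : A ≤ B' ⊔ K'
  zW : Z ≤ W
  wN : W ≤ N
  lgW : lg p W = lg p Z + 1
  nW : A ≤ 𝐍(W)
  nM : ¬ M ≤ 𝐍(E)

theorem Nd.exists_nn (h : Nd p N E G K B A T Z) (pM : IsPGroup p M) (h1 : N ≤ M) (h2 : ¬ M ≤ N)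
    (h3 : M ≤ A) (h4 : M ⊓ 𝐍(E) ≤ N) (h5 : ∀ a ∈ A, ¬ M ≤ 𝐍(cn a E)) (h6 : A ⊓ 𝐂(N) ≤ K')
    (h7 : lg p N + 1 = lg p M → Par p M N A K' B') : ∃ W, Nn p N E G K B A T Z M W K' B' := by
  have l := h.lgZ
  have i := h.a.idx
  have pN := h.a.pg
  have mN := h3.trans h.nA
  have mZ := h3.trans h.nZ
  obtain ⟨W, w1, w2, w3, w4⟩ := exists_chain pM h1 mN mZ h.eqZ.le 1 (by omega)
  have nM : ¬ M ≤ 𝐍(E) := by simpa using h5 1 (one_mem _)
  obtain ⟨w, hw, hw'⟩ := SetLike.not_le_iff_exists.1 (show ¬ E ≤ W from fun e =>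
    nM (eq_of_lg (pN.to_le w2) e (by omega) ▸ w4))
  have e1 := le_sup_zpowers h.a.pE h.zE (by omega) hw fun e => hw' (w1 e)
  have e2 : ∀ m ∈ A, ∀ X, Z ≤ X → m * w * m⁻¹ ∈ X → cn m E ≤ X := fun m hm X x1 x2 =>
    (cn_mono e1).trans (by
      rw [cn_sup, cn_eq (h.nZ hm)]
      exact sup_le x1 ((MonoidHom.map_zpowers _ _).le.trans (zpowers_le.2 x2)))
  have c1 := comm_le_of_lg pM h1 w2 (by omega) mN w4
  have c2 : ∀ x ∈ M, ⁅x, w⁆ ∈ W := fun x hx => comm_mem c1 hx (h.a.le hw)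
  have l1 := lg_cz pM (pN.to_le w2) w1 mZ c2
  have l2 := lg_mono (p := p) (show M ⊓ cz w Z ≤ N from fun m hm => h4 ⟨hm.1, norm_of_cn_le
    (e2 m (h3 hm.1) E h.zE (by
      simpa [commutatorElement_def] using mul_mem (h.zE (mem_cz.1 hm.2).2) hw))⟩)
  have l3 := lg_lt pM h1 h2
  have b := h7 (by omega)
  have nW : A ≤ 𝐍(W) := fun a ha => norm_of_cn_le (by_contra fun e => by
    obtain ⟨x, hx, hx'⟩ := SetLike.not_le_iff_exists.1 e
    have x1 := cn_le w2 (h.nA ha)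
    have x2 : Z ≤ cn a W := (cn_eq (h.nZ ha)).ge.trans (cn_mono w1)
    obtain ⟨y, hy, j, e3⟩ := (H5.mem_sup_zpowers_iff (h.eqZ.norm w1 w2 (x1 hx))).1
      (le_sup_zpowers pN w2 (by omega) (x1 hx) hx' (h.a.le hw))
    obtain ⟨m, hm, e4⟩ := exists_comm_of_lg pM (pN.to_le w2) w1 mZ c2 (by omega) hy
    have e5 := eq_of_lg (pN.to_le x1) (e2 m (h3 hm) _ x2 (by
      have := mul_mem (x2 e4) (zpow_mem hx j)
      rwa [mul_assoc, ← e3, commutatorElement_def, inv_mul_cancel_right] at this))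
      (by rw [lg_cn, lg_cn]; omega)
    refine h5 _ (mul_mem (inv_mem ha) (h3 hm)) ?_
    rwa [← cn_cn, e5, cn_inv_cn])
  have e := eq_ph pN
  have nY := norm_ph h.nA
  have y := h.eqZ.ph_le pN
  have := h.sr _ _ le_rfl e
  refine ⟨W, h, b, b.le_of_L ((le_inf b.L_le (pr_ph pN (b.L_le.trans h.nA) (b.trans w2 nY
    (b.cL1 le_rfl h.nA nW w2 (by omega)) (b.trans h.eqZ.le nY (b.cL1 w2 nW h.nZ w1 w3.le)
      (b.cL1 h.eqZ.le h.nZ nY y (by omega)))))).trans (h6.trans le_sup_right)) le_sup_left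
    le_sup_right, w1, w2, w3, nW, nM⟩

namespace Nn

variable (h : Nn p N E G K B A T Z M W K' B')
include h

theorem inf_le : E ⊓ W ≤ Z := le_of_lg (h.a.pE.to_le inf_le_left) (le_inf h.zE h.zW) (by
  have := lg_inf_lt' h.a.pE (show ¬ E ≤ W from fun e => h.nM (eq_of_lg (h.a.pg.to_le h.wN) e
    (by have := h.lgW; have := h.lgZ; have := h.a.idx; omega) ▸ h.b.sG.trans h.nW))
  have := h.lgZ; have := h.a.idx; omega)

theorem cN : ⁅M, N⁆ ≤ W := comm_le_of_lg h.b.pg h.b.le h.wN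
  (by have := h.lgW; have := h.lgZ; omega) (h.b.sG.trans h.nA) (h.b.sG.trans h.nW)

theorem cW : ⁅M, W⁆ ≤ Z := comm_le_of_lg h.b.pg (h.wN.trans h.b.le) h.zW h.lgW.le
  (h.b.sG.trans h.nW) (h.b.sG.trans h.nZ)

theorem ext {m n : ℤ} (e : m * n ≡ 1 [ZMOD p]) : ∃ b ∈ B', b ∈ 𝐂(T) ∧ Ev b M N (m ^ 3) ∧
    Ev b W Z (m * m) ∧ Ev b Z (⁅N, E⁆ ⊔ T) 1 ∧ Ev b (⁅N, E⁆ ⊔ T) T m := by
  obtain ⟨F, P, v⟩ := h.tv
  obtain ⟨τ, k0, k1, -, k2, k3, k4, -⟩ := v.tor m n e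
  rw [h.eZ] at k3
  obtain ⟨b, hb, k, hk, rfl⟩ := (mem_sup_iff' (h.b.bG.trans h.b.nK)).1 (h.le (h.bA k0))
  have c : ∀ X ≤ N, k ∈ 𝐂(X) := fun X x => cent_anti x (h.b.cK hk)
  have zN := h.eqZ.le
  have k5 := ((k4.mul_cent (c _ le_rfl)).inf (h.nW (h.b.bG hb))).mono (le_inf h.wN le_rfl) h.inf_le
  obtain ⟨μ, k6⟩ := ev_of_lg h.b.pg h.b.le h.b.idx.ge (h.b.nS hb) (h.nA (h.b.bG hb))
  have mZ := h.b.sG.trans h.nZ
  have k7 : (p : ℤ) ∣ μ * n - m * m := by_contra fun k7 => h.nM (norm_of_comm_le ((comm_ev mZ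
    (h.a.le.trans (h.b.le.trans mZ)) ((commutator_mono le_rfl h.a.le).trans h.cN) h.cW
    ((commutator_mono h.a.le h.wN).trans h.eqZ.comm) ((commutator_mono le_rfl h.a.le).trans
      h.eqZ.comm) (comm_le_r mZ) h.b.le h.zE (fun y hy => h.eqZ.pow y (h.a.le hy)) k6
    (k3.mul_cent (c _ h.a.le)) k5 k7).trans h.zE))
  refine ⟨b, hb, mem_of_mul (h.cT k1) (c _ (h.tZ.trans zN)), k6.congr h.b.eq.pow ?_, k5,
    (h.comm_z v k1 (h.bA k0)).mul_cent (c _ zN), k2.mul_cent (c _ (h.yZ.trans zN))⟩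
  rw [show μ - m ^ 3 = m * (μ * n - m * m) + μ * (1 - m * n) by ring]
  exact (k7.mul_left m).add (e.dvd.mul_left μ)

theorem two (h5 : 5 ≤ p) : lg p E = lg p T + 2 := by
  have hp2 := hp.out.odd_of_ne_two (by omega)
  obtain ⟨k, hk⟩ := id hp2
  obtain ⟨b, -, -, k1, -, k2, k3⟩ := h.ext (m := -2) (n := k) (Int.modEq_iff_dvd.2 ⟨1, by
    rw [hk]; push_cast; ring⟩)
  obtain ⟨F, P, v⟩ := h.tv
  have mT := h.b.sG.trans h.nT
  have mY := h.b.sG.trans h.nY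
  have zN := h.eqZ.le
  have c := comm_le_of_lg h.b.pg (h.yZ.trans (zN.trans h.b.le)) le_sup_right v.lgZ.le mY mT
  refine h.toNd.two hp2 (sup_le h.b.sG h.b.kG) h.b.lg_le (comm_le_of_rc (sup_le (le_rc mT (comm_ev mT
    (zN.trans (h.b.le.trans mT)) (comm_le_of_lg h.b.pg (zN.trans h.b.le) h.yZ (h.lg_y v)
      (h.b.sG.trans h.nZ) mY) c ((commutator_mono (zN.trans h.b.le) le_rfl).trans c) h.cZ c h.b.le
    h.yZ (fun y hy => mem_sup_right (h.eq.pow y (h.zE hy))) k1 k2 k3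
    (not_dvd_six h5 (by norm_num)))) (h.b.k_le_rc zN h.nT)))

theorem cent' (hp2 : Odd p) (e : lg p E = lg p T + 2) : M ≤ 𝐂(T) := fun x hx => by
  obtain ⟨b, -, k0, k1, -⟩ := h.ext (m := -1) (n := -1) (by simp)
  refine mem_of_ev (a := 1) ?_ (h.cent e (k1 x hx)) (h.cent e (h.b.eq.pow x hx)) (not_dvd_two hp2)
  simpa [commutatorElement_def] using comm_mem_l (norm_cent (h.b.sG.trans h.nT) hx) k0

theorem y_eq (e : lg p E = lg p T + 2) : ⁅N, E⁆ ⊔ T = Z := by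
  obtain ⟨F, P, v⟩ := h.tv
  exact eq_of_lg (h.a.pE.to_le h.zE) h.yZ
    (by have := v.lgZ; have := h.lgZ; have := h.a.idx; omega)

theorem not_comm : ¬ ⁅N, W⁆ ≤ T := fun e => by
  obtain ⟨F, P, v⟩ := h.tv
  have nT := h.a.sG.trans h.nG
  have := lg_mono (p := p) (sup_le (comm_le_of_rc ((le_sup_of_lg h.a.pg h.a.le h.a.idx.ge h.wN
    fun e => by
      have := lg_mono (p := p) ((le_inf e le_rfl).trans h.inf_le); have := h.lgW; omega).trans
    (sup_le (le_rc (h.a.le.trans nT) h.eq.comm) (le_rc (h.wN.trans nT)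
      (comm_le_symm ((commutator_mono h.a.le le_rfl).trans e)))))) le_rfl)
  have := v.lgZ
  omega

variable (hp2 : Odd p) (e : lg p E = lg p T + 2)
include hp2 e

theorem comm_W : W ≤ 𝐂(W) := by
  obtain ⟨b, -, k0, -, k1, -, k2⟩ := h.ext (m := -1) (n := -1) (by simp)
  rw [h.y_eq e] at k2
  have c := h.cent e
  exact comm_of_lg (h.a.pg.to_le h.wN) h.zW h.lgW.le (cent_symm (comm_le_bot.1 (comm_ev (norm_bot _)
    (norm_bot _) (comm_le_symm ((commutator_mono h.wN le_rfl).trans h.cZ))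
    (comm_le_bot.2 (h.eqZ.le.trans c)) (comm_le_bot.2 (h.wN.trans c))
    (comm_le_bot.2 (cent_symm (h.wN.trans c))) (comm_le_bot.2 (h.comm_Z e)) h.tZ h.zW
    (fun y hy => h.eqZ.pow y (h.wN hy)) k2 k1 (ev_one fun x => comm_eq_one k0)
    fun e => not_dvd_two hp2 (by simpa using e.neg_right))))

theorem w_le : W ≤ M ⊓ relCentralizer W T := le_inf (h.wN.trans h.b.le) (le_rc
  (h.wN.trans (h.a.sG.trans h.nG)) ((comm_le_bot.2 (h.comm_W hp2 e)).trans bot_le))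

theorem inf_rc : M ⊓ relCentralizer W T ⊓ N ≤ W := le_of_lg (h.a.pg.to_le inf_le_right)
  (le_inf (h.w_le hp2 e) h.wN) (by
    have := h.lgW; have := h.lgZ
    have := lg_inf_lt h.a.pg (X := M ⊓ relCentralizer W T)
      fun e => h.not_comm (comm_le_of_rc (e.trans inf_le_right))
    omega)

omit hp2 in
theorem lg_rc : lg p M ≤ lg p (M ⊓ relCentralizer W T) + 1 :=
  R3.lg_rc h.b.pg (h.wN.trans h.b.le) (h.b.sG.trans h.nW) (h.b.sG.trans h.nT) (h.tZ.trans h.zW)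
    (by have := h.lgW; have := h.lgZ; have := h.a.idx; omega)

theorem lg_rc' : lg p (M ⊓ relCentralizer W T) ≤ lg p W + 1 := by
  have := h.b.lg_inf (inf_le_left (b := relCentralizer W T))
  have := lg_mono (p := p) (h.inf_rc hp2 e)
  omega

theorem ev_rc {b : Γ} {k : ℤ} (hb : b ∈ B') (h1 : Ev b M N k) :
    Ev b (M ⊓ relCentralizer W T) W k :=
  (h1.inf (norm_inf h.b.nS (norm_rc (h.b.bG.trans h.nW) (h.b.bG.trans h.nT)) hb)).mono
    (le_inf inf_le_left le_rfl) ((inf_comm _ _).le.trans (h.inf_rc hp2 e))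

theorem comm_rc : M ⊓ relCentralizer W T ≤ 𝐂(M ⊓ relCentralizer W T) := by
  obtain ⟨b, hb, k0, k1, k2, -⟩ := h.ext (m := -1) (n := -1) (by simp)
  have c := h.cent' hp2 e
  have cW := h.comm_W hp2 e
  have h1 : ⁅M ⊓ relCentralizer W T, W⁆ ≤ T := comm_le_of_rc inf_le_right
  have h2 : ⁅N, W⁆ ⊔ T ≤ Z := sup_le ((commutator_mono le_rfl h.wN).trans h.eqZ.comm) h.tZ
  have h3 : M ⊓ relCentralizer W T ≤ 𝐂(Z) := cent_symm ((le_of_lg (h.a.pE.to_le h.zE) h2 (by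
    have := lg_lt (h.a.pE.to_le (h2.trans h.zE)) le_sup_right fun e => h.not_comm (le_sup_left.trans e)
    have := h.lgZ; have := h.a.idx; omega)).trans (sup_le (comm_le_bot.1 (three_subgroups_le
      (norm_bot _) (norm_bot _) (norm_bot _) (comm_le_bot.2 ((comm_le_symm h1).trans
        (cent_symm (h.b.le.trans c)))) (comm_le_bot.2 (((le_inf (comm_le_l (h.b.le.trans (norm_inf
          le_normalizer (h.b.sG.trans (norm_rc h.nW h.nT))))) (comm_le_r (inf_le_left.trans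
            (h.b.sG.trans h.nA)))).trans (h.inf_rc hp2 e)).trans cW))))
      (cent_symm (inf_le_left.trans c))))
  exact comm_of_lg (h.b.pg.to_le inf_le_left) (h.w_le hp2 e) (h.lg_rc' hp2 e) (comm_le_bot.1
    (comm_ev (norm_bot _) (norm_bot _) h1 (comm_le_bot.2 (inf_le_left.trans c))
      (comm_le_bot.2 (h.wN.trans (h.b.le.trans c))) (comm_le_bot.2 cW) (comm_le_bot.2 h3)
      (h.w_le hp2 e) h.zW (fun y hy => h.eqZ.pow y (h.wN hy)) (h.ev_rc hp2 e hb k1) k2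
      (ev_one fun x => comm_eq_one k0) fun e => not_dvd_two hp2 (by simpa using e.neg_right)))

omit hp2 e in
theorem eq_bot (h5 : 5 ≤ p) (hs : SR p 3 M) : T = ⊥ := by
  have hp2 := hp.out.odd_of_ne_two (by omega)
  have e := h.two h5
  obtain ⟨k, hk⟩ := id hp2
  obtain ⟨b, hb, k0, k1, k2, -, k3⟩ := h.ext (m := -2) (n := k) (Int.modEq_iff_dvd.2 ⟨1, by
    rw [hk]; push_cast; ring⟩)
  rw [h.y_eq e] at k3
  replace k1 := h.ev_rc hp2 e hb k1
  have k4 : Ev b T (mho p T) 1 := ev_one fun x hx => by rw [comm_eq_one k0 hx]; exact one_mem _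
  have c := h.comm_rc hp2 e
  have cW := h.comm_W hp2 e
  have w := h.w_le hp2 e
  have p0 : ∀ x ∈ T, x ^ p ∈ mho p T := fun _ => pow_mem_mho
  have p1 : ∀ x ∈ Z, x ^ p ∈ T := fun x hx => h.eq.pow x (h.zE hx)
  have p2 : ∀ x ∈ W, x ^ p ∈ Z := fun x hx => h.eqZ.pow x (h.wN hx)
  have p3 := pow_ev (h.comm_Z e) h.tZ p0 p1 p0 k3 k4 (not_dvd_six h5 (by norm_num))
  have p4 := pow_ev cW h.zW p1 p2 p1 k2 k3 (not_dvd_six h5 (by norm_num))
  have p5 := pow_ev cW h.zW p3 p4 p0 k2 k4 (not_dvd_six h5 (by norm_num))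
  have p6 := pow_ev c w p2 (fun _ => pow_mem_of_lg (h.b.pg.to_le inf_le_left) w (h.lg_rc' hp2 e)) p2
    k1 k2 (not_dvd_six h5 (by norm_num))
  have p7 := pow_ev c w p4 p6 p1 k1 k3 (not_dvd_six h5 (by norm_num))
  have p8 := pow_ev c w p5 p7 p0 k1 k4 (not_dvd_six h5 (by norm_num))
  have := hs _ (mho p T) inf_le_left ⟨mho_le_self.trans (h.tZ.trans (h.zW.trans w)),
    (comm_le_bot.2 c).trans bot_le, p8⟩
  have pT := h.a.pE.to_le h.eq.le
  have := h.lg_rc e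
  exact eq_bot_of_ph ((le_of_lg pT mho_le_self (by have := h.a.idx; have := h.b.idx; omega)).trans
    (mho_le.2 (eq_ph pT).pow))

end Nn

end H93.R3
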