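import Mathlib
import Cfsg.Agent.Base
import Cfsg.Agent.Lib.R3.NC
import Cfsg.Agent.Lib.Fusion.GroupSub
import Cfsg.Agent.Lib.Fusion.CentPre
import Cfsg.Agent.Lib.Fusion.Park
import Cfsg.Agent.Lib.Fusion.EssLink
import Cfsg.Agent.Lib.Fusion.AbIdxH

/-!
Saturated fusion systems as fusion systems of finite groups, and the configurations attached to
essential subgroups.
-/

set_option autoImplicit false

namespace H93.R3

open Subgroup H2 H90 H91 Cfsg Cfsg.FusionSystem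
open scoped commutatorElement Pointwise

local notation:max "𝐍(" A ")" => Subgroup.normalizer (SetLike.coe A)
local notation:max "𝐂(" A ")" => Subgroup.centralizer (SetLike.coe A)

universe u

variable {p : ℕ} [hp : Fact p.Prime]

section Transport

variable {Ω : Type u} [Group Ω] {S P : Subgroup Ω} [Finite S] {F : FusionSystem S}

theorem realize (hS : IsPGroup p S) (F : FusionSystem S) : ∃ (Γ : Type u) (_ : Group Γ)
    (_ : Finite Γ) (S' : Subgroup Γ) (θ : S →* Γ), Quot F (groupFusionSystem S') θ ∧ kerIn θ = ⊥ := by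
  obtain ⟨Γ, _, _, ι, h⟩ := Park.exists_finite_realization hS F
  obtain ⟨θ, h1, h2, -⟩ := exists_quot_of_real h (groupFusionSystem_isRealizedBy ι.range)
    (range_subtype _).symm
  exact ⟨Γ, _, inferInstance, _, θ, h1, h2⟩

variable {Ω' : Type u} [Group Ω'] {S' : Subgroup Ω'} {F' : FusionSystem S'} {θ : S →* Ω'}

theorem ess_image (hS : IsPGroup p S) (hF : F.IsSaturated p) (h : Quot F F' θ) (hK : kerIn θ = ⊥)
    (hP : F.IsEssential p P) : F'.IsEssential p (imageAlong θ P) := by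
  have := h.finite
  have h1 := lt_of_isEssential hS hF hP
  have k : ∀ Q, kerIn θ ≤ Q := fun Q => hK.le.trans bot_le
  have h2 : ∀ Q' ≤ S', imageAlong θ P < Q' → P < preimageAlong θ Q' := fun Q' hQ' e =>
    lt_of_le_not_ge ((le_preimage_image θ h1.le).trans (preimageAlong_mono θ e.le)) fun e' =>
      e.not_ge ((image_preimage (hQ'.trans h.range.ge)).ge.trans (imageAlong_mono θ e'))
  refine (isEssential_iff_extAut_ne (h.isPGroup hS) (h.isSaturated hS hF) (lt_of_le_not_ge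
    (h.image_le P) fun e => h1.not_ge ((R3.im_le_iff le_rfl h1.le (k P)).1 (h.image_top.le.trans e)))
    (H90.Quot.isFullyNormalized_image hS hF h (k P) hP.2.1)).2 fun e => extAut_ne_of_isEssential hS hF hP
      (le_antisymm (extAut_le F P) fun α hα => ?_)
  obtain ⟨π, hπ⟩ := exists_indHom h.sc h1.le
  have h3 := h.range_indHom h1.le (k P) hπ
  have h4 : ∀ α β, π α = π β → α = β := fun α β e => Subtype.ext (mulAut_ext fun x hx =>
    ex_inj_of_ker hK (h1.le (extA_mem _ hx)) (h1.le (extA_mem _ hx)) (by rw [← hπ α x hx, e, hπ β x hx]))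
  obtain ⟨β, hβ, e1⟩ := (extAut_le_iff (K := ((extAut F P).subgroupOf _).map π)).2
    (fun β Q' f' hQ' hf' e1 => by
      obtain ⟨γ, rfl⟩ : β ∈ π.range := h3 ▸ extAut_le _ _ (mem_extAut hQ' hf' e1)
      obtain ⟨f, hf, e2⟩ := h.lifts Q' f' hf'
      have h5 := h2 Q' hf'.le hQ'
      exact ⟨γ, mem_extAut h5 hf fun x hx => ex_inj_of_ker hK (h1.le (extA_mem _ hx))
        (hf.mem (h5.le hx)) ((hπ γ x hx).symm.trans ((e1 _ (ex_mem h1.le hx)).trans (e2 x (h5.le hx)))),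
        rfl⟩)
    (e.ge (h3.le ⟨⟨α, hα⟩, rfl⟩))
  exact (h4 _ _ e1 ▸ hβ : (⟨α, hα⟩ : F.autGroup P) ∈ (extAut F P).subgroupOf _)

theorem ess_preimage (hS : IsPGroup p S) (hF : F.IsSaturated p) (h : Quot F F' θ)
    (hK : kerIn θ = ⊥) {P' : Subgroup Ω'} (hP : F'.IsEssential p P') :
    ∃ P, F.IsEssential p P ∧ imageAlong θ P = P' := by
  have := h.finite
  obtain ⟨μ, h1, h2, h3⟩ := h.symm hK
  refine ⟨_, ess_image (h.isPGroup hS) (h.isSaturated hS hF) h1 h2 hP, le_antisymm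
    ((imageAlong_le_iff (h1.image_le _)).2 fun x hx => ?_) fun y hy => ?_⟩
  · obtain ⟨y, hy, rfl⟩ := (mem_imageAlong' hP.1.1).1 hx
    obtain ⟨x, hx', rfl⟩ := exists_ex_of_mem_range θ (h.range.ge (hP.1.1 hy))
    rwa [h3 x hx']
  · obtain ⟨x, hx, rfl⟩ := exists_ex_of_mem_range θ (h.range.ge (hP.1.1 hy))
    exact ex_mem (h1.image_le _) (h3 x hx ▸ ex_mem hP.1.1 hy)

omit [Finite S] hp in
theorem norm_image (h : Quot F F' θ) (hK : kerIn θ = ⊥) (hP : P ≤ S) :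
    S' ≤ 𝐍(imageAlong θ P) ↔ S ≤ 𝐍(P) :=
  ⟨fun e g hg => preimage_image_of_ker hK hP ▸ mem_normalizer_preimage hg
    (e (h.range.le (ex_mem_range θ hg))), fun e y hy => by
    obtain ⟨x, hx, rfl⟩ := exists_ex_of_mem_range θ (h.range.ge hy)
    exact ex_mem_normalizer hP hx (e hx)⟩

omit [Finite S] hp in
theorem equiv_image (hK : kerIn θ = ⊥) (hP : P ≤ S) : Nonempty (P ≃* imageAlong θ P) :=
  ⟨imageEquiv (injective_of_kerIn hK) hP⟩

omit [Finite S] hp in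
theorem equiv_top (h : Quot F F' θ) (hK : kerIn θ = ⊥) : Nonempty (S ≃* S') :=
  h.image_top ▸ equiv_image hK le_rfl

theorem core_image (hS : IsPGroup p S) (hF : F.IsSaturated p) (h : Quot F F' θ)
    (hK : kerIn θ = ⊥) (hO : F.core = ⊥) : F'.core = ⊥ := by
  rw [h.core_eq hS hF (hK ▸ isCentral_bot F), hO, im_eq_bot bot_le]
  exact bot_le

end Transport

variable {Γ : Type u} [Group Γ] [Finite Γ] {S E P Q X : Subgroup Γ} {g : Γ}

theorem sr_of {G : Type*} [Group G] {k : ℕ} (e : G ≃* S) (h : SectionalPRankLE p k G) :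
    SR p k S := fun X Y hX q => by
  have := normal_subgroupOf_of_commutator_le q.comm
  have := isMulCommutative_section q.comm
  let f : ((X.subgroupOf S).comap e.toMonoidHom) →* X ⧸ Y.subgroupOf X := (QuotientGroup.mk' _).comp
    (((S.subtype.comp e.toMonoidHom).comp (Subgroup.subtype _)).codRestrict X fun x => x.2)
  have hf : Function.Surjective f := fun v => by
    obtain ⟨x, rfl⟩ := QuotientGroup.mk_surjective v
    exact ⟨⟨e.symm ⟨x, hX x.2⟩, by simp [mem_subgroupOf]⟩, congrArg QuotientGroup.mk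
      (Subtype.ext (show ((e (e.symm _) : S) : Γ) = x by rw [e.apply_symm_apply]))⟩
  have i := QuotientGroup.quotientKerEquivOfSurjective f hf
  have h1 := h _ f.ker ⊤ ⟨⟨fun a b => Subtype.ext (i.injective (by
    simp only [coe_mul, map_mul]; exact mul_comm' _ _))⟩⟩ fun a _ => i.injective (by
      obtain ⟨x, hx⟩ := QuotientGroup.mk_surjective (i a)
      rw [map_pow, map_one, ← hx]
      exact (QuotientGroup.eq_one_iff (x ^ p)).2 (q.pow x x.2))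
  rw [card_top, Nat.card_congr i.toEquiv] at h1
  rw [← lg_rel q.le, add_le_add_iff_left]
  exact (Nat.pow_le_pow_iff_right hp.out.one_lt).1 ((Nat.le_of_dvd Nat.card_pos
    pow_padicValNat_dvd).trans h1)

theorem comm_of_not_sr {G : Type*} [Group G] [Finite G] (h : ¬ SectionalPRankLE p 2 G)
    (hc : Nat.card G = p ^ 3) (a b : G) : a * b = b * a := by
  by_contra h0
  refine h fun H N _ A hA h1 => not_lt.1 fun h2 => h0 ?_
  have d1 : Nat.card A ∣ Nat.card (H ⧸ N) := card_subgroup_dvd_card A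
  have d2 := card_eq_card_quotient_mul_card_subgroup N
  have d3 : Nat.card H ∣ p ^ 3 := hc ▸ card_subgroup_dvd_card H
  obtain ⟨i, hi, e⟩ := (Nat.dvd_prime_pow hp.out).1 (d1.trans ((Dvd.intro _ d2.symm).trans d3))
  have e3 : Nat.card A = p ^ 3 := by
    rw [e, Nat.pow_lt_pow_iff_right hp.out.one_lt] at h2
    rw [e, show i = 3 by omega]
  have e4 := Nat.le_of_dvd Nat.card_pos d1
  have e5 := Nat.le_of_dvd (pow_pos hp.out.pos 3) d3
  have e6 : Nat.card N = 1 := by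
    have := Nat.card_pos (α := N)
    have := pow_pos hp.out.pos 3
    nlinarith
  obtain rfl : H = ⊤ := eq_top_of_card_eq _ (by nlinarith)
  obtain rfl : N = ⊥ := card_eq_one.1 e6
  obtain rfl : A = ⊤ := eq_top_of_card_eq _ (by nlinarith)
  have := congrArg Subtype.val (hA.1.1 ⟨QuotientGroup.mk ⟨a, trivial⟩, trivial⟩
    ⟨QuotientGroup.mk ⟨b, trivial⟩, trivial⟩)
  exact congrArg Subtype.val (QuotientGroup.quotientBot.symm.injective this)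

local notation "𝓕" => groupFusionSystem S

omit [Finite Γ] hp in
theorem iso_cn (hP : P ≤ S) (h : cn g P ≤ S) : Iso 𝓕 P (cn g P) (cj g) :=
  ⟨map_group.2 ⟨hP, cn_le_iff.1 h, g, fun _ _ => rfl⟩, fun x => by simp [mem_cn, mul_assoc]⟩

omit hp in
theorem norm_of_iso {σ : Equiv.Perm Γ} (h : Iso 𝓕 P P σ) :
    ∃ g ∈ 𝐍(P), ∀ x ∈ P, σ x = g * x * g⁻¹ :=
  let ⟨_, _, g, hg⟩ := map_group.1 h.1
  ⟨g, mem_norm fun x hx => hg x hx ▸ h.mem hx, hg⟩

variable (hS : IsPGroup p S) (hF : (groupFusionSystem S).IsSaturated p)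
include hS hF

theorem eq_bot_of_norm (hO : (groupFusionSystem S).core = ⊥) (hX : X ≤ S) (h1 : 𝐍(S) ≤ 𝐍(X))
    (h2 : ∀ E, (groupFusionSystem S).IsEssential p E → X ≤ E ∧ 𝐍(E) ≤ 𝐍(X)) : X = ⊥ :=
  le_bot_iff.1 (hO ▸ IsNormal.le_core' (isNormal_of_essential hS hF fun P hP => by
    have : X ≤ P ∧ 𝐍(P) ≤ 𝐍(X) := hP.elim (fun e => e ▸ ⟨hX, h1⟩) (h2 P)
    refine ⟨this.1, fun σ hσ x hx => ?_⟩
    obtain ⟨g, hg, e⟩ := norm_of_iso hσ
    exact e x (this.1 hx) ▸ conj_mem (this.2 hg) hx))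

theorem lg_norm (hQ : (groupFusionSystem S).IsFullyNormalized Q) :
    lg p 𝐍(Q) ≤ lg p (S ⊓ 𝐍(Q) ⊔ 𝐂(Q)) := by
  have h1 := (sylowIn_of_normalized hS hF hQ).card_eq
  rw [autGroup_group hQ.1, Nat.factorization_def _ hp.out] at h1
  have h2 := lg_add (p := p) (card_autInducedBy_mul ⊤ Q)
  have h3 := lg_add (p := p) (card_autInducedBy_mul (S ⊓ 𝐍(Q) ⊔ 𝐂(Q)) Q)
  have h4 := lg_mono (p := p) ((autInducedBy_normalizerIn S Q).ge.trans
    (autInducedBy_mono (le_sup_left (b := 𝐂(Q))) Q))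
  rw [normalizerIn_def, centralizerIn_def, top_inf_eq, top_inf_eq] at h2
  rw [normalizerIn_def, centralizerIn_def, inf_eq_right.2 (le_sup_right (b := 𝐂(Q))),
    inf_eq_left.2 (sup_le inf_le_right (cent_le_norm Q))] at h3
  rw [lg_of_card h1, normalizerIn_def] at h4
  unfold lg at *
  omega

theorem mem_of_norm (hQ : (groupFusionSystem S).IsFullyNormalized Q) (hg : g ∈ 𝐍(Q))
    (h : g ∈ 𝐍(S ⊓ 𝐍(Q) ⊔ 𝐂(Q))) : g ∈ 𝐍(Q) ⊓ 𝐍(S ⊓ 𝐍(Q)) ⊔ 𝐂(Q) := by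
  have i := iso_cn hQ.1 ((cn_eq hg).le.trans hQ.1)
  obtain ⟨f, hf, e⟩ := (isReceptive_iff_map.1 (receptive_of_normalized hS hF hQ)).2 Q _ i.1
    (i.im_eq.trans (cn_eq hg))
  obtain ⟨-, h1, u, hu⟩ := map_group.1 (hf.mono (Q := S ⊓ 𝐍(Q)) fun m hm => ⟨hm, by
    obtain ⟨a, ha, c, hc, e1⟩ := (mem_sup_iff' (inf_le_right.trans (norm_cent le_rfl))).1
      (conj_mem h (mem_sup_left hm))
    refine ⟨a, ha.1, fun x hx => ?_⟩
    show g * (m * x * m⁻¹) * g⁻¹ = a * (g * x * g⁻¹) * a⁻¹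
    rw [← conj_eq hc (conj_mem hg hx), show a * (c * (g * x * g⁻¹) * c⁻¹) * a⁻¹ =
      a * c * (g * x * g⁻¹) * (a * c)⁻¹ by group, ← e1]
    group⟩)
  have h2 : ∀ x ∈ Q, u * x * u⁻¹ = g * x * g⁻¹ := fun x hx =>
    (hu x ⟨hQ.1 hx, le_normalizer hx⟩).symm.trans (e x hx)
  have h3 : u ∈ 𝐍(Q) := mem_norm fun x hx => h2 x hx ▸ conj_mem hg hx
  have h4 : u⁻¹ * g ∈ 𝐂(Q) := mem_centralizer_of_conj_eq fun x hx => by
    rw [show u⁻¹ * g * x * (u⁻¹ * g)⁻¹ = u⁻¹ * (g * x * g⁻¹) * u by group, ← h2 x hx]; group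
  simpa using mul_mem (mem_sup_left (show u ∈ 𝐍(Q) ⊓ 𝐍(S ⊓ 𝐍(Q)) from ⟨h3, mem_norm fun x hx =>
    ⟨hu x hx ▸ h1 x hx, conj_mem (le_normalizer h3) hx.2⟩⟩)) (mem_sup_right h4)

theorem par_of (hQ : (groupFusionSystem S).IsFullyNormalized Q) (hc : S ⊓ 𝐂(Q) ≤ Q)
    (e : lg p Q + 1 = lg p (S ⊓ 𝐍(Q))) :
    Par p (S ⊓ 𝐍(Q)) Q 𝐍(Q) 𝐂(Q) (𝐍(Q) ⊓ 𝐍(S ⊓ 𝐍(Q))) := by
  have h1 : Q ≤ S ⊓ 𝐍(Q) := le_inf hQ.1 le_normalizer
  refine ⟨hS.to_le inf_le_left, h1, e, le_inf inf_le_right le_normalizer, inf_le_left, inf_le_right,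
    le_rfl, cent_le_norm Q, norm_cent le_rfl, le_rfl, ?_, fun x hx => ?_,
    fun g => mem_of_norm hS hF hQ⟩
  · have h2 := lg_sup (p := p) ((inf_le_right (a := S)).trans (norm_sup le_rfl (norm_cent (X := Q) le_rfl)))
    have h3 := lg_mono (p := p) (le_inf h1 (le_sup_left (b := 𝐂(Q))))
    have h4 := lg_mono (p := p) (sup_le_sup_left (le_sup_right (a := Q) (b := 𝐂(Q))) (S ⊓ 𝐍(Q)))
    have := lg_norm hS hF hQ
    omega
  · obtain ⟨a, ha, c, hc', rfl⟩ := (mem_sup_iff (cent_le_norm Q)).1 hx.2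
    exact mul_mem ha (hc ⟨mem_of_mul' (X := S) hx.1.1 (hQ.1 ha), hc'⟩)

variable (hE : (groupFusionSystem S).IsEssential p E)
include hE

omit hS hF [Finite Γ] hp in
theorem ess_cent : S ⊓ 𝐂(E) ≤ E := isCentric_self_le hE.1

omit hF in
theorem ess_fn (h : cn g E ≤ S) : lg p (S ⊓ 𝐍(cn g E)) ≤ lg p (S ⊓ 𝐍(E)) := by
  have := (isFullyNormalized_iff.1 hE.2.1).2 _ _ (iso_cn hE.1.1 h)
  rwa [normalizerIn_def, normalizerIn_def, card_eq (hS.to_le inf_le_left),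
    card_eq (hS.to_le inf_le_left), Nat.pow_le_pow_iff_right hp.out.one_lt] at this

theorem ess_lt : lg p E < lg p (S ⊓ 𝐍(E)) :=
  have := lt_normalizerIn hS (lt_of_isEssential hS hF hE)
  lg_lt (hS.to_le inf_le_left) this.le this.not_ge

theorem exists_emb : ∃ M, 𝐍(E) ⊓ 𝐍(S ⊓ 𝐍(E)) ⊔ 𝐂(E) ≤ M ∧ ¬ 𝐍(E) ≤ M ∧
    (∀ t ∈ S ⊓ 𝐍(E), t ∉ E → ∀ a ∈ 𝐍(E), a⁻¹ * t * a ∈ M → a ∈ M) ∧
    ∀ t₁ ∈ S ⊓ 𝐍(E), t₁ ∉ E → ∀ t₂ ∈ S ⊓ 𝐍(E), t₂ ∉ E → ∀ a ∈ 𝐍(E), ∀ Q ≤ 𝐍(E),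
      (∀ x ∈ Q, (orderOf x).Coprime p → x ∈ 𝐂(E)) → t₁ ∈ Q → a * t₂ * a⁻¹ ∈ Q → a ∈ M := by
  have hA : ∀ a (ha : a ∈ 𝐍(E)), conjAut E a ha ∈ (groupFusionSystem S).autGroup E := fun a ha =>
    autGroup_group hE.1.1 ▸ conjAut_mem (mem_top a) ha
  have hM : ∀ a (ha : a ∈ 𝐍(E)), a ∈ ((extAut 𝓕 E).comap E.normalizerMonoidHom).map 𝐍(E).subtype ↔
      conjAut E a ha ∈ extAut 𝓕 E := fun a ha =>
    ⟨by rintro ⟨b, hb, rfl⟩; exact hb, fun h => ⟨⟨a, ha⟩, h, rfl⟩⟩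
  have hI : ∀ t (ht : t ∈ S ⊓ 𝐍(E)), t ∉ E → conjAut E t ht.2 ∉ Inn E := fun t ht ht' e =>
    ht' (mem_of_conjAut_mem_inn hE.1.1 (ess_cent hE) ht e)
  have hr := receptive_of_normalized hS hF hE.2.1
  have hlt := lt_normalizerIn hS (lt_of_isEssential hS hF hE)
  refine ⟨((extAut 𝓕 E).comap E.normalizerMonoidHom).map 𝐍(E).subtype, sup_le (fun a ha => ?_)
    fun a ha => ?_, fun e => extAut_ne_of_isEssential hS hF hE (le_antisymm (extAut_le _ _)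
      fun α hα => ?_), fun t ht ht' a ha h => ?_, fun t₁ h1 h1' t₂ h2 h2' a ha Q hQ h h3 h4 => ?_⟩
  · exact (hM a ha.1).2 (mem_extAut hlt (iso_cn inf_le_left ((cn_eq ha.2).le.trans inf_le_left)).1
      fun x => extA_conjAut _)
  · refine (hM a (cent_le_norm E ha)).2 ?_
    rw [extA_eq_one_iff.2 fun x hx => (extA_conjAut _ hx).trans (conj_eq ha hx)]
    exact one_mem _
  · rw [autGroup_group hE.1.1] at hα
    obtain ⟨a, ha, rfl⟩ := exists_conjAut_of_mem hα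
    exact (hM a ha.2).1 (e ha.2)
  · have h1 := (hM _ (conj_mem' (le_normalizer ha) ht.2)).1 h
    rw [conjAut_mul (mul_mem (inv_mem ha) ht.2) ha, conjAut_mul (inv_mem ha) ht.2, conjAut_inv ha] at h1
    obtain ⟨k, hk⟩ := isPGroup_autInducedBy hS E ⟨_, conjAut_mem ht.1 ht.2⟩
    have := finite_mulAut_of_le hE.1.1
    obtain ⟨m, hm, h2⟩ := ((sylowIn_of_normalized hS hF hE.2.1).mono (autInducedBy_le_extAut
      (lt_of_isEssential hS hF hE)) (extAut_le _ _)).exists_cj_le (H68.isPGroup_zpowers (k := k) (by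
        have : conjAut E t ht.2 ^ p ^ k = 1 := congrArg Subtype.val hk
        nth_rewrite 2 [← inv_inv (conjAut E a ha)]
        rw [conj_pow, this]; simp)) (zpowers_le.2 h1)
    have h3 := mem_extAut_of_conj_mem hr (mul_mem (extAut_le _ _ hm) (inv_mem (hA a ha)))
      (conjAut_mem ht.1 ht.2) (hI t ht ht') (by
        simpa [mul_assoc] using H68.cj_le_iff'.1 h2 _ (mem_zpowers _))
    exact (hM a ha).2 (by simpa using mul_mem (inv_mem h3) hm)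
  · refine (hM a ha).2 (mem_extAut_of_link hS hF hE.2.1 (P := autInducedBy Q E) (fun ⟨α, hα⟩ => ?_)
      (autGroup_group hE.1.1 ▸ autInducedBy_mono le_top E) (conjAut_mem h1.1 h1.2) (hI _ h1 h1')
      (conjAut_mem h2.1 h2.2) (hI _ h2 h2') (hA a ha) (conjAut_mem h3 _) ?_)
    · obtain ⟨x, hx, rfl⟩ := exists_conjAut_of_mem hα
      obtain ⟨k, m, hm, e⟩ := Nat.exists_eq_pow_mul_and_not_dvd (orderOf_pos x).ne' p hp.out.ne_one
      refine ⟨k, Subtype.ext (extA_eq_one_iff.2 fun y hy => ?_)⟩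
      show extA E (E.normalizerMonoidHom ⟨x, hx.2⟩ ^ p ^ k) y = y
      rw [← map_pow]
      refine (extA_conjAut _ hy).trans (conj_eq (h _ (Q.pow_mem hx.1 _) ?_) hy)
      rw [orderOf_pow, e, Nat.gcd_mul_right_left, Nat.mul_div_cancel_left _ (pow_pos hp.out.pos k)]
      exact ((Nat.Prime.coprime_iff_not_dvd hp.out).2 hm).symm
    · rw [← conjAut_inv ha, ← conjAut_mul, ← conjAut_mul]
      exact conjAut_mem h4 _

theorem ess_ne : ¬ 𝐍(E) ≤ 𝐍(E) ⊓ 𝐍(S ⊓ 𝐍(E)) ⊔ 𝐂(E) :=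
  let ⟨_, h1, h2, _⟩ := exists_emb hS hF hE
  fun e => h2 (e.trans h1)

theorem ess_idx (hl : lg p E ≤ lg p (ph E) + 3) : lg p E + 1 = lg p (S ⊓ 𝐍(E)) := by
  obtain ⟨M, h1, h2, h3, h4⟩ := exists_emb hS hF hE
  have pE := hS.to_le hE.1.1
  refine le_antisymm (ess_lt hS hF hE) (gl3 (hS.to_le inf_le_left) (le_inf hE.1.1 le_normalizer)
    inf_le_right le_rfl hl (fun t ht => by_contra fun ht' => h2 fun a ha => ?_)
    ((le_inf inf_le_right le_normalizer).trans (le_sup_left.trans h1)) h2 h3 h4)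
  exact h4 t ht.1 ht' t ht.1 ht' a ha (𝐍(E) ⊓ relCentralizer E (ph E)) inf_le_left
    (fun x hx hc => cent_of_ph pE hc hx.1 (mem_rc.1 hx.2).2) ⟨ht.1.2, ht.2⟩
    (conj_mem (norm_inf le_normalizer (norm_rc le_rfl (norm_ph le_rfl)) ha) ⟨ht.1.2, ht.2⟩)

theorem ess_par (hl : lg p E ≤ lg p (ph E) + 3) :
    Par p (S ⊓ 𝐍(E)) E 𝐍(E) 𝐂(E) (𝐍(E) ⊓ 𝐍(S ⊓ 𝐍(E))) :=
  par_of hS hF hE.2.1 (ess_cent hE) (ess_idx hS hF hE hl)

omit hS hF hE in
theorem Par.not_cent {S G B : Subgroup Γ} (h : Par p S E G 𝐂(E) B) (hn : ¬ G ≤ B ⊔ 𝐂(E)) :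
    ¬ pr p (nc S G 𝐂(E)) ≤ 𝐂(E) := fun e =>
  hn (h.le_of_L (e.trans le_sup_right) le_sup_left le_sup_right)

/-- An essential subgroup normal in `S`. -/
theorem ess_normal (hl : lg p E ≤ lg p (ph E) + 3) (hn : S ≤ 𝐍(E)) :
    Par p S E 𝐍(E) 𝐂(E) (𝐍(E) ⊓ 𝐍(S)) ∧ ¬ pr p (nc S 𝐍(E) 𝐂(E)) ≤ 𝐂(E) := by
  have h1 := ess_par hS hF hE hl
  have h2 := h1.not_cent (ess_ne hS hF hE)
  rw [inf_eq_left.2 hn] at h1 h2
  exact ⟨h1, h2⟩

/-- An essential subgroup that is not normal in `S`. -/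
theorem ess_nonnormal (hs : SR p 3 (S ⊓ 𝐍(E))) (hn : ¬ S ≤ 𝐍(E)) :
    ∃ g N G K B A T Z M W K' B', Nn p N (cn g E) G K B A T Z M W K' B' ∧ M = S ⊓ 𝐍(N) ∧
      A = 𝐍(N) ∧ G = 𝐍(cn g E) ∧ K' = 𝐂(N) ∧ B' = 𝐍(N) ⊓ 𝐍(M) := by
  have hEN : E ≤ S ⊓ 𝐍(E) := le_inf hE.1.1 le_normalizer
  have hl := hs _ _ hEN (eq_ph (hS.to_le hE.1.1))
  have i := ess_idx hS hF hE hl
  have h1 := lt_normalizerIn hS (lt_of_le_not_ge (inf_le_left (b := 𝐍(E)))
    fun e => hn (e.trans inf_le_right))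
  obtain ⟨Q, τ, hQ, hτ, hi, h2, -⟩ := exists_normalizer_map hS hF (inf_le_left (a := S) (b := 𝐍(E)))
  obtain ⟨-, -, g, hg⟩ := map_group.1 hτ
  obtain rfl : cn g (S ⊓ 𝐍(E)) = Q := by
    rw [← hi.im_eq, im_congr fun x hx => hg x (h1.le hx)]; exact (im_cj_eq_map _ g).symm
  have h3 : cn g (S ⊓ 𝐍(S ⊓ 𝐍(E))) ≤ S ⊓ 𝐍(cn g (S ⊓ 𝐍(E))) :=
    cn_le_iff.2 fun x hx => hg x hx ▸ h2 x hx
  have h4 := (cn_mono hEN).trans hQ.1
  have h5 : cn g (S ⊓ 𝐍(E)) = S ⊓ 𝐍(cn g E) := eq_of_lg (hS.to_le inf_le_left) (le_inf hQ.1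
    ((cn_mono inf_le_right).trans cn_norm.ge)) ((ess_fn hS hE h4).trans lg_cn.ge)
  have i1 := iso_cn hE.1.1 h4
  have c := isCentric_self_le (i1.isCentric hE.1)
  have h6 := par_of hS hF (isFullyNormalized_iff.2 ⟨h4, fun R σ hσ =>
    ((isFullyNormalized_iff.1 hE.2.1).2 _ _ (i1.trans hσ)).trans (by
      rw [normalizerIn_def S (cn g E), ← h5, H1.card_conj_smul]; rfl)⟩) c (by rw [← h5, lg_cn, lg_cn, i])
  have h7 := h6.not_cent fun e => ess_ne hS hF hE (by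
    have := cn_mono (g := g⁻¹) e
    rwa [← h5, cn_norm, cn_norm, cn_cent, ← cn_inf, ← cn_sup, cn_inv_cn, cn_inv_cn] at this)
  rw [← h5] at h6 h7
  have l : lg p (S ⊓ 𝐍(E)) < lg p (S ⊓ 𝐍(cn g (S ⊓ 𝐍(E)))) :=
    (lg_lt (hS.to_le inf_le_left) h1.le h1.not_ge).trans_le (lg_cn.ge.trans (lg_mono h3))
  have h8 : ∀ a ∈ 𝐍(cn g (S ⊓ 𝐍(E))), ¬ S ⊓ 𝐍(cn g (S ⊓ 𝐍(E))) ≤ 𝐍(cn a (cn g E)) :=
    fun a ha e => by
      have := ess_fn hS hE (cn_cn a g ▸ (cn_le (cn_mono hEN) ha).trans hQ.1)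
      have := lg_mono (p := p) (le_inf inf_le_left (cn_cn a g ▸ e))
      omega
  obtain ⟨T, Z, h9⟩ := NC.exists_nd ⟨h6, fun X Y x e => by
      have := hs _ _ ((cn_mono (g := g⁻¹) x).trans cn_inv_cn.le) ⟨cn_mono e.le,
        cn_comm.ge.trans (cn_mono e.comm), fun y hy => mem_cn.2 (by
          simpa [← conj_pow] using e.pow _ (mem_cn.1 hy))⟩
      rwa [lg_cn, lg_cn] at this, h7, le_rfl, inf_le_right,
    fun e => h8 1 (one_mem _) (by simpa using inf_le_right.trans e)⟩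
  obtain ⟨W, h10⟩ := h9.exists_nn (hS.to_le inf_le_left) (le_inf hQ.1 le_normalizer)
    (fun e => by have := lg_mono (p := p) e; rw [lg_cn] at this; omega) inf_le_right
    ((inf_le_inf_right _ inf_le_left).trans h5.ge) h8 inf_le_right (par_of hS hF hQ
      ((inf_le_inf_left S (cent_anti (cn_mono hEN))).trans (c.trans (cn_mono hEN))))
  exact ⟨g, _, _, _, _, _, _, _, _, _, _, _, h10, rfl, rfl, rfl, rfl, rfl⟩

theorem pearl_of_nonnormal (h5 : 5 ≤ p) (hs : SR p 3 S) (hn : ¬ S ≤ 𝐍(E)) : EA p E ∧ lg p E = 2 := by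
  obtain ⟨g, N, G, K, B, A, T, Z, M, W, K', B', h, rfl, -⟩ :=
    ess_nonnormal hS hF hE (hs.mono inf_le_left) hn
  obtain rfl := h.eq_bot h5 (hs.mono inf_le_left)
  have := h.two h5
  rw [lg_cn, lg_bot] at this
  exact ⟨cn_inv_cn (g := g) (X := E) ▸ h.eq.ea.cn g⁻¹, this⟩

end H93.R3
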