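import Mathlib
import Cfsg.Agent.Base
import Cfsg.Agent.Lib.R3.AmT
import Cfsg.Agent.S0245

/-!
A presentation of the Sylow `p`-subgroup of `Sp₄(p)`.
-/

set_option autoImplicit false

namespace H93.R3

open Subgroup H2 Matrix
open scoped commutatorElement Pointwise

local notation:max "𝐍(" A ")" => Subgroup.normalizer (SetLike.coe A)
local notation:max "𝐂(" A ")" => Subgroup.centralizer (SetLike.coe A)

universe u

variable {Γ Γ' : Type*} [Group Γ] [Group Γ'] {p : ℕ} {t w₀ w₁ w₂ : Γ} {t' w₀' w₁' w₂' : Γ'}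

/-- An element `t` acting on the span of `w₀, w₁, w₂` with a single Jordan block. -/
structure Cub (p : ℕ) (t w₀ w₁ w₂ : Γ) : Prop where
  pt : t ^ p = 1
  p0 : w₀ ^ p = 1
  p1 : w₁ ^ p = 1
  p2 : w₂ ^ p = 1
  c0 : ⁅t, w₀⁆ = w₁
  c1 : ⁅t, w₁⁆ = w₂
  c2 : ⁅t, w₂⁆ = 1
  c01 : ⁅w₁, w₀⁆ = 1
  c02 : ⁅w₂, w₀⁆ = 1
  c12 : ⁅w₂, w₁⁆ = 1

/-- The subgroup generated by four elements. -/
abbrev dl (t w₀ w₁ w₂ : Γ) : Subgroup Γ := zpowers w₂ ⊔ zpowers w₁ ⊔ zpowers w₀ ⊔ zpowers t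

theorem Cub.prod (h : Cub p t w₀ w₁ w₂) (h' : Cub p t' w₀' w₁' w₂') :
    Cub p (t, t') (w₀, w₀') (w₁, w₁') (w₂, w₂') :=
  ⟨Prod.ext h.pt h'.pt, Prod.ext h.p0 h'.p0, Prod.ext h.p1 h'.p1, Prod.ext h.p2 h'.p2,
    Prod.ext h.c0 h'.c0, Prod.ext h.c1 h'.c1, Prod.ext h.c2 h'.c2, Prod.ext h.c01 h'.c01,
    Prod.ext h.c02 h'.c02, Prod.ext h.c12 h'.c12⟩

theorem equiv_map (f : Γ →* Γ') {X : Subgroup Γ} (h : f.ker ⊓ X = ⊥) : Nonempty (X ≃* X.map f) :=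
  ⟨MulEquiv.ofBijective (f.subgroupMap X) ⟨(injective_iff_map_eq_one _).2 fun x hx =>
    Subtype.ext (mem_bot.1 (h.le ⟨congrArg Subtype.val hx, x.2⟩)), f.subgroupMap_surjective X⟩⟩

variable [hp : Fact p.Prime]

theorem Cub.lg [Finite Γ] (h : Cub p t w₀ w₁ w₂) : IsPGroup p (dl t w₀ w₁ w₂) ∧
    lg p (dl t w₀ w₁ w₂) ≤ 4 ∧ (w₂ ≠ 1 → lg p (dl t w₀ w₁ w₂) = 4) := by
  have z : ∀ {x y : Γ}, ⁅x, y⁆ = 1 → zpowers x ≤ 𝐂(zpowers y) := fun e =>
    zpowers_le.2 (mem_cent_zpowers.2 e)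
  have e1 := (ea_zpowers h.p2).sup (ea_zpowers h.p1) (z h.c12)
  have e0 := e1.sup (ea_zpowers h.p0) (sup_le (z h.c02) (z h.c01))
  have n1 := norm_of_cent e1.comm le_sup_left (mem_sup_right (mem_zpowers _))
  have n0 := norm_of_cent e0.comm le_sup_left (mem_sup_right (mem_zpowers _))
  have t2 := cent_symm (z h.c2)
  have t1 : zpowers w₂ ⊔ zpowers w₁ ≤ cz t (zpowers w₂) := sup_le (fun x hx => ⟨le_normalizer hx,
    comm_eq_one (t2 hx) (mem_zpowers t) ▸ one_mem _⟩)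
    (zpowers_le.2 ⟨n1, comm_symm (h.c1 ▸ mem_zpowers _)⟩)
  have nt : t ∈ 𝐍(zpowers w₂ ⊔ zpowers w₁ ⊔ zpowers w₀) := (mem_rc_of le_rfl fun x hx =>
    comm_symm (mem_cz.1 (sup_le (fun x hx => mem_cz.2 ⟨le_normalizer (mem_sup_left hx),
      mem_sup_left (mem_sup_left (mem_cz.1 (t1 hx)).2)⟩) (zpowers_le.2 (mem_cz.2 ⟨le_normalizer
        (mem_sup_right (mem_zpowers _)), comm_symm (h.c0 ▸ mem_sup_left (mem_sup_right
          (mem_zpowers _)))⟩)) hx)).2).1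
  have l2 := lg_zpowers_le h.p2
  have l1 := lg_sup_zpowers_le n1 (h.p1 ▸ one_mem _)
  have l0 := lg_sup_zpowers_le n0 (h.p0 ▸ one_mem _)
  have lt := lg_sup_zpowers_le nt (h.pt ▸ one_mem _)
  refine ⟨IsPGroup.to_sup_of_normal_left' (fun x => ⟨1, Subtype.ext (by simpa using e0.pow x x.2)⟩)
    (H68.isPGroup_zpowers (k := 1) (by simpa using h.pt)) (zpowers_le.2 nt), lt.trans (by omega), fun e => ?_⟩
  have m1 : w₁ ∉ zpowers w₂ := fun m => e (h.c1 ▸ comm_eq_one' (t2 m) (mem_zpowers t))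
  rw [lg_sup_zpowers nt (h.pt ▸ one_mem _) fun m => e (h.c1 ▸ comm_eq_one (e0.comm m)
    (mem_sup_left (mem_sup_right (mem_zpowers _)))), lg_sup_zpowers n0 (h.p0 ▸ one_mem _)
    fun m => m1 (h.c0 ▸ comm_symm (t1 m).2), lg_sup_zpowers n1 (h.p1 ▸ one_mem _) m1,
    lg_zpowers h.p2 e]

theorem Cub.equiv [Finite Γ] [Finite Γ'] (h : Cub p t w₀ w₁ w₂) (h' : Cub p t' w₀' w₁' w₂')
    (e : w₂ ≠ 1) (e' : w₂' ≠ 1) : Nonempty (dl t w₀ w₁ w₂ ≃* dl t' w₀' w₁' w₂') := by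
  obtain ⟨h1, h2, -⟩ := (h.prod h').lg
  have m := lg_map (p := p) (MonoidHom.fst Γ Γ') (dl (t, t') (w₀, w₀') (w₁, w₁') (w₂, w₂'))
  have m' := lg_map (p := p) (MonoidHom.snd Γ Γ') (dl (t, t') (w₀, w₀') (w₁, w₁') (w₂, w₂'))
  have k : (dl (t, t') (w₀, w₀') (w₁, w₁') (w₂, w₂')).map (MonoidHom.fst Γ Γ') = dl t w₀ w₁ w₂ := by
    simp [Subgroup.map_sup, MonoidHom.map_zpowers]
  have k' : (dl (t, t') (w₀, w₀') (w₁, w₁') (w₂, w₂')).map (MonoidHom.snd Γ Γ') =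
      dl t' w₀' w₁' w₂' := by
    simp [Subgroup.map_sup, MonoidHom.map_zpowers]
  rw [k, h.lg.2.2 e] at m
  rw [k', h'.lg.2.2 e'] at m'
  obtain ⟨i⟩ := equiv_map _ (eq_bot_of_lg (h1.to_le inf_le_right) (by omega) :
    (MonoidHom.fst Γ Γ').ker ⊓ _ = ⊥)
  obtain ⟨i'⟩ := equiv_map _ (eq_bot_of_lg (h1.to_le inf_le_right) (by omega) :
    (MonoidHom.snd Γ Γ').ker ⊓ _ = ⊥)
  rw [k] at i
  rw [k'] at i'
  exact ⟨i.symm.trans i'⟩

/-- A short root element of `Sp₄(p)`. -/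
def tm (a : ZMod p) : symplecticGroup (Fin 2) (ZMod p) :=
  ⟨fromBlocks !![1, a; 0, 1] 0 0 !![1, 0; -a, 1], SymplecticGroup.mem_iff.2 (by
    rw [J, fromBlocks_transpose, fromBlocks_multiply, fromBlocks_multiply]
    congr 1 <;> ext i j <;> fin_cases i <;> fin_cases j <;> simp [vecMul, dotProduct])⟩

/-- An element of the unipotent radical of the Siegel parabolic subgroup of `Sp₄(p)`. -/
def wm (a b c : ZMod p) : symplecticGroup (Fin 2) (ZMod p) :=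
  ⟨fromBlocks 1 !![a, b; b, c] 0 1, SymplecticGroup.mem_iff.2 (by
    rw [J, fromBlocks_transpose, fromBlocks_multiply, fromBlocks_multiply]
    congr 1 <;> ext i j <;> fin_cases i <;> fin_cases j <;> simp [Matrix.mul_apply])⟩

theorem tm_mul (a b : ZMod p) : tm a * tm b = tm (a + b) := Subtype.ext (by
  show fromBlocks _ _ _ _ * fromBlocks _ _ _ _ = fromBlocks _ _ _ _
  rw [fromBlocks_multiply]
  congr 1 <;> ext i j <;> fin_cases i <;> fin_cases j <;> simp [Matrix.mul_apply, add_comm])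

theorem wm_mul (a b c a' b' c' : ZMod p) : wm a b c * wm a' b' c' = wm (a + a') (b + b') (c + c') :=
  Subtype.ext (by
    show fromBlocks _ _ _ _ * fromBlocks _ _ _ _ = fromBlocks _ _ _ _
    rw [fromBlocks_multiply]
    congr 1 <;> ext i j <;> fin_cases i <;> fin_cases j <;> simp [add_comm])

theorem tm_wm (a b c : ZMod p) : tm 1 * wm a b c = wm (a + 2 * b + c) (b + c) c * tm 1 :=
  Subtype.ext (by
    show fromBlocks _ _ _ _ * fromBlocks _ _ _ _ = fromBlocks _ _ _ _ * fromBlocks _ _ _ _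
    rw [fromBlocks_multiply, fromBlocks_multiply]
    congr 1 <;> ext i j <;> fin_cases i <;> fin_cases j <;> simp [Matrix.mul_apply]
    ring)

theorem tm_zero : tm (0 : ZMod p) = 1 := Subtype.ext (by
  show fromBlocks _ _ _ _ = 1
  rw [← fromBlocks_one]
  congr 1 <;> ext i j <;> fin_cases i <;> fin_cases j <;> simp)

theorem wm_zero : wm (0 : ZMod p) 0 0 = 1 := Subtype.ext (by
  show fromBlocks _ _ _ _ = 1
  rw [← fromBlocks_one]
  congr 1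
  ext i j
  fin_cases i <;> fin_cases j <;> simp)

theorem tm_pow (n : ℕ) : tm (1 : ZMod p) ^ n = tm (n : ZMod p) := by
  induction n with
  | zero => simp [tm_zero]
  | succ n ih => rw [pow_succ, ih, tm_mul, Nat.cast_succ]

theorem wm_pow (a b c : ZMod p) (n : ℕ) :
    wm a b c ^ n = wm ((n : ZMod p) * a) ((n : ZMod p) * b) ((n : ZMod p) * c) := by
  induction n with
  | zero => simp [wm_zero]
  | succ n ih => simp [pow_succ, ih, wm_mul, add_mul]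

theorem comm_tw (a b c : ZMod p) : ⁅tm (1 : ZMod p), wm a b c⁆ = wm (2 * b + c) c 0 := by
  rw [commutatorElement_def, tm_wm, mul_inv_cancel_right, mul_inv_eq_iff_eq_mul, wm_mul]
  congr 1 <;> ring

theorem comm_ww (a b c a' b' c' : ZMod p) : ⁅wm a b c, wm a' b' c'⁆ = 1 :=
  commutatorElement_eq_one_iff_mul_comm.2 (by simp only [wm_mul, add_comm])

theorem cub_sp : Cub p (tm (1 : ZMod p)) (wm 0 0 1) (wm 1 1 0) (wm 2 0 0) :=
  ⟨by simp [tm_pow, tm_zero], by simp [wm_pow, wm_zero], by simp [wm_pow, wm_zero],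
    by simp [wm_pow, wm_zero], by simp [comm_tw], by simp [comm_tw], by simp [comm_tw, wm_zero],
    comm_ww .., comm_ww .., comm_ww ..⟩

theorem Cub.sylow [Finite Γ] (h : Cub p t w₀ w₁ w₂) (hp2 : Odd p) (e : w₂ ≠ 1) :
    ∃ P : Sylow p (symplecticGroup (Fin 2) (ZMod p)), Nonempty (dl t w₀ w₁ w₂ ≃* P) := by
  have e' : wm (2 : ZMod p) 0 0 ≠ 1 := fun e => not_dvd_two hp2 ((ZMod.intCast_zmod_eq_zero_iff_dvd
    2 p).1 (by simpa [wm] using congrArg (fun x => x.1 (Sum.inl 0) (Sum.inr 0)) e))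
  refine ⟨Sylow.ofCard _ (?_ : Nat.card (dl _ _ _ _) = _), h.equiv cub_sp e e'⟩
  have k : ∀ n, ¬ p ∣ p ^ (n + 1) - 1 := fun n d => hp.out.one_lt.ne' (Nat.dvd_one.1
    ((Nat.dvd_add_right d).1 (by
      rw [Nat.sub_add_cancel (Nat.one_le_pow _ _ hp.out.pos)]; exact dvd_pow_self p n.succ_ne_zero)))
  have k' : ¬ p ∣ ∏ i ∈ Finset.range 2, (p ^ (2 * (i + 1)) - 1) := fun d =>
    let ⟨i, _, hi⟩ := (hp.out.prime.dvd_finsetProd_iff _).1 d
    k (2 * i + 1) hi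
  rw [card_eq cub_sp.lg.1, cub_sp.lg.2.2 e', Cfsg.Agent.S0245.result (ZMod.card p),
    Nat.factorization_def _ hp.out, padicValNat.mul (pow_ne_zero _ hp.out.ne_zero)
      (mt (fun e => (dvd_zero p).trans e.symm.dvd) k'), padicValNat.prime_pow, padicValNat.eq_zero_of_not_dvd k']
  rfl

/-- A group of order `p⁴` that is a split extension of `C_p³` with a cubic action. -/
theorem sp4_of {Γ : Type u} [Group Γ] [Finite Γ] {S W : Subgroup Γ} {t : Γ} (hp2 : Odd p)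
    (hS : IsPGroup p S) (l : lg p S = 4) (hW : W ≤ S) (e : EA p W) (lW : lg p W = 3) (ht : t ∈ S)
    (ht' : t ∉ W) (h : t ^ p = 1) (c : ¬ ⁅S, ⁅S, W⁆⁆ ≤ ⊥) :
    ∃ P : Sylow p (symplecticGroup (Fin 2) (ZMod p)), Nonempty (S ≃* P) := by
  have n := norm_of_lg hS hW (by omega)
  obtain ⟨w, hw, h1⟩ : ∃ w ∈ W, ⁅t, ⁅t, w⁆⁆ ≠ 1 := by
    by_contra! h1
    have c1 : S ≤ 𝐂(W ⊓ 𝐂(zpowers t)) := le_of_mem hS hW (by omega) ht ht'
      (e.comm.trans (cent_anti inf_le_left)) (zpowers_le.1 (cent_symm inf_le_right))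
    exact c ((commutator_mono le_rfl (comm_le_of_rc (le_of_mem hS hW (by omega) ht ht'
      (le_rc (hW.trans (norm_of_cent c1 le_rfl)) ((comm_le_bot.2 e.comm).trans bot_le))
      (mem_rc_of inf_le_left fun y hy => ⟨comm_mem_r (n ht) hy, mem_cent_zpowers.2
        (mem_bot.1 (comm_symm (mem_bot.2 (h1 y hy))))⟩)))).trans (comm_le_bot.2 c1))
  obtain ⟨M, -, m1, m2, m3⟩ := exists_chain hS hW n (norm_bot _) bot_le 2 (by rw [lg_bot]; omega)
  obtain ⟨M', -, m4, m5, m6⟩ := exists_chain hS (m1.trans hW) m3 (norm_bot _) bot_le 1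
    (by rw [lg_bot] at *; omega)
  rw [lg_bot] at m2 m5
  have k1 := comm_mem (comm_le_of_lg hS hW m1 (by omega) n m3) ht hw
  have k2 := comm_mem (comm_le_of_lg hS (m1.trans hW) m4 (by omega) m3 m6) ht k1
  have q : Cub p t w _ _ := ⟨h, e.pow _ hw, e.pow _ (m1 k1), e.pow _ (m1 (m4 k2)), rfl, rfl,
    comm_eq_one (cent_of_lg hS (m4.trans (m1.trans hW)) (by omega) m6 ht) k2,
    comm_eq_one (e.comm (m1 k1)) hw, comm_eq_one (e.comm (m1 (m4 k2))) hw,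
    comm_eq_one (e.comm (m1 (m4 k2))) (m1 k1)⟩
  exact eq_of_lg hS (sup_le (sup_le (sup_le (zpowers_le.2 (hW (m1 (m4 k2))))
    (zpowers_le.2 (hW (m1 k1)))) (zpowers_le.2 (hW hw))) (zpowers_le.2 ht))
    (l.trans (q.lg.2.2 h1).symm).le ▸ q.sylow hp2 h1

theorem r3sp4_eq_defs : True := by
  have := @dl.eq_1.{0}
  have := @tm.eq_1
  have := @wm.eq_1
  trivial

end H93.R3
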