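import Mathlib
import Cfsg.Agent.Base
import Cfsg.Agent.Lib.R3.Bridge
import Cfsg.Agent.Lib.R3.Sp4
import Cfsg.Agent.Lib.Fusion.GenExtra

/-!
Core-free saturated fusion systems of sectional rank three whose essential subgroups are normal.
-/

set_option autoImplicit false

namespace H93.R3

open Subgroup H2 H90 H91 Cfsg Cfsg.FusionSystem
open scoped commutatorElement Pointwise

local notation:max "𝐍(" A ")" => Subgroup.normalizer (SetLike.coe A)
local notation:max "𝐂(" A ")" => Subgroup.centralizer (SetLike.coe A)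

universe u

variable {p : ℕ} [hp : Fact p.Prime]

/-- `G` is isomorphic to a Sylow `p`-subgroup of `Sp₄(p)`. -/
abbrev SP (p : ℕ) [Fact p.Prime] (G : Type*) [Group G] : Prop :=
  ∃ P : Sylow p (Matrix.symplecticGroup (Fin 2) (ZMod p)), Nonempty (G ≃* P)

theorem SP.of_equiv {G H : Type*} [Group G] [Group H] (h : SP p H) (e : G ≃* H) : SP p G :=
  let ⟨P, ⟨i⟩⟩ := h
  ⟨P, ⟨e.trans i⟩⟩

omit hp in
theorem sr_of_card {G : Type*} [Group G] [Finite G] {k : ℕ} (h : Nat.card G ≤ p ^ k) :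
    SectionalPRankLE p k G := fun H N _ A _ _ => (Nat.le_of_dvd Nat.card_pos
  ((card_subgroup_dvd_card A).trans ((card_quotient_dvd_card N).trans
    (card_subgroup_dvd_card H)))).trans h

variable {Γ : Type u} [Group Γ] [Finite Γ] {S E E₁ E₂ G W X Y : Subgroup Γ}

/-- `E` is nonabelian of order `p³` and exponent `p`. -/
structure XS (p : ℕ) (E : Subgroup Γ) : Prop where
  lg : lg p E = 3
  pow : ∀ x ∈ E, x ^ p = 1
  na : ¬ E ≤ 𝐂(E)

section Equiv

variable {Ω : Type*} [Group Ω] {P : Subgroup Ω} (e : P ≃* E)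
include e

omit [Finite Γ] hp in
theorem pow_of_equiv (h : ∀ x ∈ E, x ^ p = 1) : ∀ x ∈ P, x ^ p = 1 := fun x hx =>
  congrArg Subtype.val (e.injective (by
    rw [map_pow, map_one]; exact Subtype.ext (h _ (e ⟨x, hx⟩).2)) : (⟨x, hx⟩ : P) ^ p = 1)

omit [Finite Γ] in
theorem comm_of_equiv (h : E ≤ 𝐂(E)) : IsMulCommutative P := ⟨⟨fun a b => e.injective
  (Subtype.ext (by simpa using h (e b).2 _ (e a).2))⟩⟩

theorem XS.of_equiv (h : XS p E) (hE : IsPGroup p E) :
    IsExtraspecial p P ∧ Nat.card P = p ^ 3 ∧ ∀ x ∈ P, x ^ p = 1 := by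
  have := Finite.of_equiv _ e.toEquiv.symm
  have c : Nat.card P = p ^ 3 := by rw [Nat.card_congr e.toEquiv, card_eq hE, h.lg]
  refine ⟨isExtraspecial_of_card_cube c fun k => h.na fun a ha b hb => ?_, c, pow_of_equiv e h.pow⟩
  have := commutator_mem_commutator (mem_top (e.symm ⟨b, hb⟩)) (mem_top (e.symm ⟨a, ha⟩))
  rw [← _root_.commutator_def, k, mem_bot, ← map_commutatorElement, map_eq_one_iff _ e.symm.injective,
    commutatorElement_eq_one_iff_mul_comm] at this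
  exact congrArg Subtype.val this

theorem EA.of_equiv {k : ℕ} (h : EA p E) (hE : IsPGroup p E) (l : lg p E = k) :
    IsElementaryAbelian p P ∧ Nat.card P = p ^ k :=
  ⟨⟨comm_of_equiv e h.comm, pow_of_equiv e h.pow⟩, by rw [Nat.card_congr e.toEquiv, card_eq hE, l]⟩

end Equiv

theorem of_not_sr {G : Type*} [Group G] (e : G ≃* S) (hS : IsPGroup p S)
    (h : ¬ SectionalPRankLE p 2 G) : S ≠ ⊥ ∧ (lg p S = 3 → S ≤ 𝐂(S)) := by
  have := Finite.of_equiv _ e.toEquiv.symm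
  have c := Nat.card_congr e.toEquiv
  refine ⟨fun k => h (sr_of_card ?_), fun k a ha b hb => ?_⟩
  · rw [c, k, card_bot]; exact Nat.one_le_pow _ _ hp.out.pos
  · simpa using congrArg (fun x => (e x : Γ)) (comm_of_not_sr h (by rw [c, card_eq hS, k])
      (e.symm ⟨b, hb⟩) (e.symm ⟨a, ha⟩))

theorem pow_of_two (hp2 : Odd p) (hE : IsPGroup p E) (x : X ≤ E) (y : Y ≤ E) (e1 : EA p X)
    (e2 : EA p Y) (l1 : lg p E ≤ lg p X + 1) (l2 : lg p E ≤ lg p Y + 1) (h : ¬ Y ≤ X) :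
    ∀ x ∈ E, x ^ p = 1 := by
  have h1 := le_sup_of_lg hE x l1 y h
  have h2 := ph_of hp2 (le_inf (eq_of_index hE x l1).comm (eq_of_index hE y l2).comm)
    (h1.trans (sup_le (e1.comm.trans (cent_anti inf_le_left)) (e2.comm.trans (cent_anti inf_le_right))))
    fun z hz => e1.pow z hz.1
  exact fun z hz => mem_bot.1 (mem_pw.1 (h1.trans (sup_le (fun a ha => (mem_pw (h := h2)).2
    ⟨x ha, mem_bot.2 (e1.pow a ha)⟩) fun a ha => mem_pw.2 ⟨y ha, mem_bot.2 (e2.pow a ha)⟩) hz)).2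

theorem sp_of (hp2 : Odd p) (hS : IsPGroup p S) (l : lg p S = 4) (hE : E ≤ S) (lE : lg p E = 3)
    (hW : W ≤ S) (e : EA p W) (lW : lg p W = 3) (nE : G ≤ 𝐍(E)) (n : ¬ G ≤ 𝐍(E ⊓ W))
    (nc : ∀ X ≤ S, S ≤ 𝐂(X) → lg p X < 2) : XS p E ∧ SP p S := by
  have pE := hS.to_le hE
  have ne : ¬ E ≤ W := fun k => n (by rwa [inf_eq_left.2 k])
  have l1 := lg_inf hS hE hW
  have l2 := lg_inf_lt' pE ne
  obtain ⟨g, hg, hg'⟩ := SetLike.not_le_iff_exists.1 n
  have d := cn_le (inf_le_left (b := W)) (nE hg)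
  have d' : ¬ cn g (E ⊓ W) ≤ E ⊓ W := fun k => hg' (norm_of_cn_le k)
  have e' := e.mono (inf_le_right (a := E))
  obtain ⟨t, ht, ht'⟩ := SetLike.not_le_iff_exists.1 fun k => d' (le_inf d k)
  have s := hE (d ht)
  refine ⟨⟨lE, pow_of_two hp2 pE inf_le_left d e' (e'.cn g) (by omega) (by rw [lg_cn]; omega) d',
    fun k => ?_⟩, sp4_of hp2 hS l hW e lW s ht' ((e'.cn g).pow t ht) fun k => ?_⟩
  · have := nc _ (inf_le_left.trans hE) ((le_sup_of_lg hS hW (by omega) hE ne).trans (sup_le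
      (e.comm.trans (cent_anti inf_le_right)) (k.trans (cent_anti inf_le_left))))
    omega
  · have c := le_inf (comm_le_r (norm_of_lg hS hW (by omega))) (cent_symm (comm_le_bot.1 k))
    have := nc _ ((inf_le_left (b := 𝐂(S))).trans hW) (cent_symm inf_le_right)
    have := lg_cz (hS.to_le hW) (hS.to_le (inf_le_left.trans hW)) bot_le (norm_bot _)
      fun x hx => comm_symm (comm_mem c s hx)
    have := lg_mono (p := p) (show W ⊓ cz t ⊥ ≤ W ⊓ 𝐂(S) from le_inf inf_le_left (cent_symm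
      (le_of_mem hS hW (by omega) s ht' (e.comm.trans (cent_anti inf_le_left))
        (mem_cent' fun y hy => (mem_cz.1 hy.2).2))))
    omega

local notation "𝓕" => groupFusionSystem S

variable (hS : IsPGroup p S) (hF : (groupFusionSystem S).IsSaturated p) (hp2 : Odd p)
  (hO : (groupFusionSystem S).core = ⊥) (h3 : lg p S = 3 → S ≤ 𝐂(S))
include hS hF

theorem ess_na (hE : (groupFusionSystem S).IsEssential p E) : ¬ S ≤ 𝐂(S) := fun e => by
  have := ess_lt hS hF hE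
  have := lg_mono (p := p) ((inf_le_left (b := 𝐍(E))).trans ((le_inf le_rfl
    (e.trans (cent_anti hE.1.1))).trans (ess_cent hE)))
  omega

include hp2 hO h3

theorem not_ci (na : ¬ S ≤ 𝐂(S)) (hX : X ≤ S) (c : S ≤ 𝐂(X)) : lg p X + 2 < lg p S := by
  by_contra! l
  have l1 := lg_mono (p := p) (le_inf hX (cent_symm c))
  obtain ⟨k, hk⟩ := Nat.exists_eq_add_of_le (lg_mono (p := p) (inf_le_left (a := S) (b := 𝐂(S))))
  have h : CI p S := ⟨hS, na, (relIndex_eq hS inf_le_left hk.symm).trans_le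
    (Nat.pow_le_pow_right hp.out.pos (by omega))⟩
  have h1 := h.card_der
  rw [inf_eq_left.2 (h.center_le_of_odd hF (by rintro rfl; contradiction) hO), ← pow_one p] at h1
  have h2 := lg_rel (p := p) (show centralizerIn S S ≤ S from inf_le_left)
  rw [h.index_eq, padicValNat.prime_pow, lg_of_card h1] at h2
  exact na (h3 h2.symm)

variable (hs : SR p 3 S)
include hs

/-- Two essential subgroups invariant under the normalizer of `S`. -/
theorem two_ess (h1 : (groupFusionSystem S).IsEssential p E₁)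
    (h2 : (groupFusionSystem S).IsEssential p E₂) (ne : E₁ ≠ E₂) (n1 : 𝐍(S) ≤ 𝐍(E₁))
    (n2 : 𝐍(S) ≤ 𝐍(E₂)) : SP p S ∧ (XS p E₁ ∧ EA p E₂ ∧ lg p E₂ = 3 ∨
      XS p E₂ ∧ EA p E₁ ∧ lg p E₁ = 3) := by
  obtain ⟨a, t1⟩ := ess_normal hS hF h1 (hs _ _ h1.1.1 (eq_ph (hS.to_le h1.1.1)))
    (le_normalizer.trans n1)
  obtain ⟨b, t2⟩ := ess_normal hS hF h2 (hs _ _ h2.1.1 (eq_ph (hS.to_le h2.1.1)))
    (le_normalizer.trans n2)
  rw [inf_eq_right.2 n1] at a
  rw [inf_eq_right.2 n2] at b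
  have i1 := a.idx
  have i2 := b.idx
  have h : Am p S E₁ E₂ _ _ _ _ _ := ⟨a, b, fun e => ne (eq_of_lg b.pE e (by omega)),
    fun e => ne (eq_of_lg a.pE e (by omega)).symm, hs⟩
  have nc := fun X => not_ci (X := X) hS hF hp2 hO h3 (ess_na hS hF h1)
  rcases h.main hp2 t1 t2 with ⟨c1, c2⟩ | c | c
  · exact absurd h.lg_inf (nc _ (inf_le_left.trans a.le) (h.sup.trans (sup_le
      (c1.trans (cent_anti inf_le_left)) (c2.trans (cent_anti inf_le_right))))).ne
  · have l := c.lg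
    obtain ⟨k1, k2⟩ := sp_of hp2 hS l a.le (by omega) b.le c.ea (by omega) a.nE c.n₁
      fun X x y => by have := nc X x y; omega
    exact ⟨k2, .inl ⟨k1, c.ea, by omega⟩⟩
  · have l := c.lg
    obtain ⟨k1, k2⟩ := sp_of hp2 hS l b.le (by omega) a.le c.ea (by omega) b.nE c.n₁
      fun X x y => by have := nc X x y; omega
    exact ⟨k2, .inr ⟨k1, c.ea, by omega⟩⟩

/-- An essential subgroup moved by the normalizer of `S`. -/
theorem moved_ess (hn : ∀ E, (groupFusionSystem S).IsEssential p E → S ≤ 𝐍(E))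
    (hE : (groupFusionSystem S).IsEssential p E) (mv : ¬ 𝐍(S) ≤ 𝐍(E)) : XS p E ∧ SP p S := by
  have k := fun E (hE : (groupFusionSystem S).IsEssential p E) =>
    ess_normal hS hF hE (hs _ _ hE.1.1 (eq_ph (hS.to_le hE.1.1))) (hn E hE)
  have na := ess_na hS hF hE
  have nc := fun X => not_ci (X := X) hS hF hp2 hO h3 na
  obtain ⟨T, Z, h⟩ := NC.exists_nd ⟨(k E hE).1, hs, (k E hE).2, le_rfl, inf_le_right, mv⟩
  have zS := h.eqZ.le
  have l := h.two hp2 (sup_le le_normalizer (cent_le_norm S)) (by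
    simpa [inf_eq_left.2 (le_normalizer (H := S))] using lg_norm hS hF (isFullyNormalized_top _))
    (comm_le_of_rc (sup_le (le_rc (le_normalizer.trans h.nT) h.cZ) (le_rc ((cent_le_norm S).trans h.nT)
      ((comm_le_bot.2 (cent_anti zS)).trans bot_le))))
  have c := h.cent l
  have l1 := h.lgZ
  have l2 := h.a.idx
  have b1 := h.not_le hp2 l
  have b2 : Z ≤ S ⊓ 𝐂(Z) := le_inf zS (h.comm_Z l)
  have b3 : 𝐍(S) ≤ 𝐍(S ⊓ 𝐂(Z)) := norm_inf le_rfl (norm_cent h.nZ)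
  have l3 := lg_inf_lt' hS fun e => (nc Z zS e).ne l1
  have b4 : S ⊓ 𝐂(Z) ≤ 𝐂(Z) := inf_le_right
  have b5 : S ⊓ 𝐂(Z) ≤ S := inf_le_left
  generalize S ⊓ 𝐂(Z) = W at *
  have pW := hS.to_le b5
  have l4 := lg_lt pW b2 fun e => b1 (e.trans h.zE)
  have cW := comm_of_lg pW b2 (by omega) b4
  have b6 : E ⊓ W = Z := (eq_of_lg (pW.to_le inf_le_right) (le_inf h.zE b2)
    (by have := lg_inf_lt pW b1; omega)).symm
  obtain ⟨F, P, v⟩ := h.tv
  obtain ⟨τ, t0, -, -, t1, -, t2, -⟩ := v.tor (-1) (-1) (by simp)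
  rw [eq_of_lg (hS.to_le zS) h.yZ (by have := v.lgZ; omega)] at t1
  have q := pow_ev cW b2 (fun y hy => h.eq.pow y (h.zE hy)) (fun x hx => h.eqZ.pow x (b5 hx))
    (fun y hy => h.eq.pow y (h.zE hy)) ((t2.inf (b3 t0.2)).mono (le_inf b5 le_rfl) b6.le) t1
    (not_dvd_two hp2)
  have m := mho_le.2 q
  have tS := h.tZ.trans zS
  have m0 := eq_bot_of_norm hS hF hO (m.trans tS) (norm_mho b3) fun D hD => by
    obtain ⟨a, -⟩ := k D hD
    have x := m.trans ((le_inf tS (cent_symm (a.le.trans c))).trans (ess_cent hD))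
    refine ⟨x, ?_⟩
    by_cases e : D ≤ W
    · rw [eq_of_lg pW e (by have := a.idx; omega)]; exact norm_mho le_rfl
    have s := le_sup_of_lg hS b5 (by omega) a.le e
    refine a.norm_c x (le_inf x (m.trans (cent_symm (a.le.trans c)))) (a.cL0' inf_le_left
      (norm_inf a.nE (norm_cent a.nE)) (by_contra fun e' => ?_)) (inf_le_right.trans (norm_mho b3))
    have := lg_inf hS a.le b5
    have := a.idx
    have := nc _ (inf_le_right.trans b5) (s.trans (sup_le (cW.trans (cent_anti inf_le_right))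
      ((le_sup_of_lg a.pE (inf_le_left (b := W)) (by omega) (inf_le_left (b := 𝐂(D))) fun e =>
        e' (s.trans (sup_le (cW.trans (cent_anti (e.trans inf_le_right)))
          (cent_symm inf_le_right)))).trans (sup_le (inf_le_right.trans (cW.trans
            (cent_anti inf_le_right))) (inf_le_right.trans (cent_anti inf_le_left))))))
    omega
  have e : EA p W := ⟨cW, fun x hx => mem_bot.1 (m0 ▸ pow_mem_mho hx)⟩
  have := hs.ea b5 e
  have : lg p S ≠ 3 := fun e => na (h3 e)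
  exact sp_of hp2 hS (by omega) h.a.le (by omega) b5 e (by omega) le_rfl (b6 ▸ h.nn)
    fun X x y => by have := nc X x y; omega

/-- All essential subgroups are normal. -/
theorem all_normal (h0 : S ≠ ⊥) (hn : ∀ E, (groupFusionSystem S).IsEssential p E → S ≤ 𝐍(E)) :
    SP p S ∧ ∃ E, (groupFusionSystem S).IsEssential p E ∧ XS p E := by
  by_cases h : ∃ E, (groupFusionSystem S).IsEssential p E ∧ ¬ 𝐍(S) ≤ 𝐍(E)
  · obtain ⟨E, hE, mv⟩ := h
    obtain ⟨k1, k2⟩ := moved_ess hS hF hp2 hO h3 hs hn hE mv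
    exact ⟨k2, E, hE, k1⟩
  push Not at h
  obtain ⟨E, hE⟩ : ∃ E, (groupFusionSystem S).IsEssential p E := by_contra fun e =>
    h0 (eq_bot_of_norm hS hF hO le_rfl le_rfl fun E hE => (e ⟨E, hE⟩).elim)
  obtain ⟨D, hD, ne⟩ : ∃ D, (groupFusionSystem S).IsEssential p D ∧ D ≠ E := by
    by_contra! e
    obtain rfl := eq_bot_of_norm hS hF hO hE.1.1 (h E hE) fun D hD => e D hD ▸ ⟨le_rfl, le_rfl⟩
    exact h0 (le_bot_iff.1 ((le_inf le_rfl (cent_symm bot_le)).trans (ess_cent hE)))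
  obtain ⟨k, k' | k'⟩ := two_ess hS hF hp2 hO h3 hs hD hE ne (h D hD) (h E hE)
  exacts [⟨k, D, hD, k'.1⟩, ⟨k, E, hE, k'.1⟩]

omit hS hF hp2 hO h3 hs hp in
theorem norm_image' {Ω : Type u} [Group Ω] {S₀ P : Subgroup Ω} [Finite S₀] {F : FusionSystem S₀}
    {θ : S₀ →* Γ} (h : Quot F 𝓕 θ) (hP : P ≤ S₀) (hc : ∀ φ ∈ F.autGroup S₀,
      (P.subgroupOf S₀).map φ.toMonoidHom = P.subgroupOf S₀) : 𝐍(S) ≤ 𝐍(imageAlong θ P) :=
  le_norm fun g hg y hy => by
    obtain ⟨σ, hσ, e⟩ := h.lift_top (iso_cn le_rfl (cn_eq hg).le).1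
    obtain ⟨x, hx, rfl⟩ := (mem_imageAlong' hP).1 hy
    have h1 : hσ.equiv ⟨x, hP hx⟩ ∈ P.subgroupOf S₀ := hc _ hσ.equiv_mem ▸ mem_map_of_mem _ hx
    exact (congrArg (· ∈ _) (e x (hP hx))).mpr (ex_mem hP h1)

omit hS hF hp2 hO h3 hs in
theorem r3all_eq_defs : True := by
  have := @SP.eq_1.{0}
  trivial

end H93.R3
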