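import Mathlib
import Cfsg.Agent.Base
import Cfsg.Agent.Lib.R3.All
import Cfsg.Agent.Lib.Fusion.Control

/-!
Control of transfer by the normalizer of `S` when the essential subgroups act quadratically.
-/

set_option autoImplicit false

namespace H93.R3

open Subgroup H2 H90 H91 Cfsg Cfsg.FusionSystem
open scoped commutatorElement Pointwise

local notation:max "𝐍(" A ")" => Subgroup.normalizer (SetLike.coe A)
local notation:max "𝐂(" A ")" => Subgroup.centralizer (SetLike.coe A)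

universe u

variable {p : ℕ} [hp : Fact p.Prime] {Γ : Type u} [Group Γ] {S E G K B U X Y : Subgroup Γ}
  {g x : Γ} {a b : ℤ}

theorem Ev.dvd (h1 : Ev g X Y a) (h2 : Ev g X Y b) (h3 : ∀ x ∈ X, x ^ p ∈ Y) (h : ¬ X ≤ Y) :
    (p : ℤ) ∣ a - b := by_contra fun e => h fun x hx => mem_of_ev (h1 x hx) (h2 x hx) (h3 x hx) e

omit hp in
theorem Ev.not_dvd (h1 : Ev g X Y a) (n : g ∈ 𝐍(Y)) (h3 : ∀ x ∈ X, x ^ p ∈ Y) (h : ¬ X ≤ Y) :
    ¬ (p : ℤ) ∣ a := fun e => h fun x hx =>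
  mem_of_conj n (by simpa using h1.congr (b := 0) h3 (by simpa using e) x hx)

variable [Finite Γ]

theorem lg_step (hS : IsPGroup p S) (hX : X ≤ S) (n1 : S ≤ 𝐍(X)) (n2 : S ≤ 𝐍(Y)) (h : Y ≤ X)
    (e : lg p Y < lg p X) : lg p Y + 1 ≤ lg p (X ⊓ relCentralizer S Y) := by
  obtain ⟨M, m1, m2, m3, m4⟩ := exists_chain hS hX n1 n2 h 1 e
  exact m3 ▸ lg_mono (le_inf m2 (le_rc (m2.trans (hX.trans n2))
    (comm_le_symm (comm_le_of_lg hS (m2.trans hX) m1 m3.le m4 n2))))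

theorem comm_of_cyc (hX : IsPGroup p X) (h : Y ≤ X) (e : lg p X ≤ lg p Y + 1) (n : X ≤ 𝐍(U))
    (c : ⁅X, Y⁆ ≤ U) : ⁅X, X⁆ ≤ U :=
  let ⟨_, hs, h1⟩ := exists_gen hX h e
  lg_comm hX n n h1 h1 (comm_le_symm c) c h h hs hs (by simp)

theorem lg_center (hE : IsPGroup p E) (l : lg p E = 4) (c : ⁅E, E⁆ ≤ Y) (hY : Y ≤ E ⊓ 𝐂(E))
    (lY : lg p Y = 1) : 2 ≤ lg p (E ⊓ 𝐂(E)) := by
  by_contra! h
  have k : ∀ X ≤ E, ∀ x ∈ E, lg p X ≤ lg p (X ⊓ cz x ⊥) + 1 := fun X h x hx => by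
    simpa [lg_bot, lY] using lg_cz (hE.to_le h) (hE.to_le (hY.trans inf_le_left)) bot_le
      (norm_bot _) fun y hy => comm_mem c (h hy) hx
  obtain ⟨x, hx, hx'⟩ := SetLike.not_le_iff_exists.1 (show ¬ E ≤ E ⊓ 𝐂(E) from fun e => by
    have := lg_mono (p := p) e; omega)
  have c1 : E ⊓ cz x ⊥ ≤ 𝐂(zpowers x) := fun y hy => mem_cent_zpowers.2 (mem_cz.1 hy.2).2
  have c2 : Y ⊔ zpowers x ≤ E ⊓ cz x ⊥ := sup_le (fun y hy => ⟨(hY hy).1, mem_cz.2
    ⟨norm_bot _ (mem_top _), comm_eq_one (hY hy).2 hx⟩⟩)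
    (zpowers_le.2 ⟨hx, mem_cz.2 ⟨norm_bot _ (mem_top _), by simp⟩⟩)
  have l1 := lg_lt_of_mem (hE.to_le (c2.trans inf_le_left)) le_sup_left
    (mem_sup_right (mem_zpowers x)) fun e => hx' (hY e)
  obtain ⟨y, hy, hy'⟩ := SetLike.not_le_iff_exists.1 (show ¬ E ≤ E ⊓ cz x ⊥ from fun e =>
    hx' ⟨hx, cent_zpowers.1 (e.trans c1)⟩)
  have l2 := lg_lt_of_mem hE inf_le_left hy hy'
  have c3 := comm_of_lg (hE.to_le inf_le_left) c2 (by omega) (cent_sup (cent_symm (hY.trans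
    (inf_le_right.trans (cent_anti inf_le_left)))) c1)
  have l3 := k _ le_rfl x hx
  have l4 := k _ (inf_le_left (b := cz x ⊥)) y hy
  have := lg_mono (p := p) (show E ⊓ cz x ⊥ ⊓ cz y ⊥ ≤ E ⊓ 𝐂(E) from le_inf
    (inf_le_left.trans inf_le_left) (cent_symm (le_of_mem hE inf_le_left (by omega) hy hy'
      (c3.trans (cent_anti inf_le_left)) (mem_cent' fun z hz => (mem_cz.1 hz.2).2))))
  omega

namespace Par

variable (h : Par p S E G K B) (hp2 : Odd p)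
include h

theorem tvq (e : EQ p E Y) (n : G ≤ 𝐍(Y)) (hi : lg p E ≤ lg p (E ⊓ relCentralizer S Y) + 1)
    (t : ¬ ⁅pr p (nc S G K), E⁆ ≤ Y) : ∃ F P, TV p S E G B (pr p (nc S G K)) E Y F P :=
  h.tv le_rfl e h.nE n e.comm hi fun k => t (h.trans inf_le_left n (h.cL1 le_rfl h.nE k inf_le_left hi)
    (h.cL' inf_le_left k n (comm_le_symm (comm_le_of_rc inf_le_right))))

theorem lg_two (hY : Y ≤ E) (n : G ≤ 𝐍(Y)) (l : lg p E ≤ lg p Y + 2) :
    lg p E ≤ lg p (E ⊓ relCentralizer S Y) + 1 := by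
  by_cases e : lg p Y < lg p E
  · have := lg_step h.pg h.le (h.sG.trans h.nE) (h.sG.trans n) hY e
    omega
  · have := lg_mono (p := p) (le_inf hY (le_rc le_normalizer (comm_le_l (h.sG.trans n))))
    omega

include hp2

theorem quad (l : lg p E = 4) (lY : lg p (ph E) = 1) (na : ¬ E ≤ 𝐂(E))
    (t : ¬ pr p (nc S G K) ≤ 𝐂(E)) : lg p E ≤ lg p (E ⊓ relCentralizer S (ph E)) + 1 := by
  have e := eq_ph h.pE
  have n := norm_ph h.nE
  have c := cent_of_lg h.pg (e.le.trans h.le) lY.le (h.sG.trans n)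
  have z := le_inf e.le (cent_symm (h.le.trans c))
  have l1 := lg_center h.pE l e.comm z lY
  have l2 : ¬ lg p E ≤ lg p (E ⊓ 𝐂(E)) + 1 := fun k =>
    na (comm_of_lg h.pE inf_le_left k (cent_symm inf_le_right))
  have n0 := norm_inf h.nE (norm_cent h.nE)
  have e0 := e.mono z inf_le_left le_rfl
  have c0 := comm_le_of_lg h.pg (inf_le_left.trans h.le) z (by omega) (h.sG.trans n0) (h.sG.trans n)
  have c1 := h.cent e.le (h.cL' inf_le_left n0 n c0) (h.cL0' e.le n c)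
  have l3 := h.lg_two inf_le_left n0 (by omega)
  obtain ⟨F, P, v⟩ := h.tvq e0 n0 l3 fun k => t (h.cent inf_le_left k c1)
  obtain ⟨τ, -, k1, k2, k3, -⟩ := v.neg hp2 e0 h.eG (h.eG.trans n0)
  refine l3.trans (Nat.succ_le_succ (lg_mono (le_inf inf_le_left (le_rc
    (inf_le_left.trans (h.eG.trans n)) (comm_le_symm (comm_ev (h.sG.trans n)
      (inf_le_left.trans (h.eG.trans n)) (comm_le_symm (comm_le_of_rc inf_le_right)) c0
      ((commutator_mono inf_le_left inf_le_left).trans e.comm)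
      ((commutator_mono le_rfl inf_le_left).trans e.comm) c0 h.le
      (le_inf inf_le_left (le_rc le_normalizer (comm_le_l (h.sG.trans n0))))
      (fun y hy => e0.pow y hy.1) k3 (k2.mono (inf_le_left.trans (le_of_lg h.pE v.pX
        (by have := v.lgP; omega))) le_rfl) (ev_one' ((comm_le_bot.2 c1).trans bot_le) k1)
      fun e => not_dvd_two hp2 (by simpa using e.neg_right)))))))

theorem foc (t : ¬ pr p (nc S G K) ≤ 𝐂(E)) (hi : lg p E ≤ lg p (E ⊓ relCentralizer S (ph E)) + 1)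
    (h0 : lg p E ≤ lg p (ph E) + 2 ∨ ph E ≤ U) (c : ⁅B, E⁆ ≤ U) : ⁅G, E⁆ ≤ U := by
  have e := eq_ph h.pE
  have n := norm_ph h.nE
  obtain ⟨F, P, v⟩ := h.tvq e n hi fun k => t (pr_ph h.pE (h.L_le.trans h.nE) k)
  obtain ⟨τ, k0, -, k2, -⟩ := v.neg hp2 e h.eG (h.eG.trans n)
  have c' := le_inf (comm_le_r (h.bG.trans h.nE)) c
  have k : P ≤ ph E ⊔ E ⊓ U := fun x hx => mem_of_ev (mem_sup_right (ev_one' c' k0 x (v.pX hx)))
    (mem_sup_left (k2 x hx)) (mem_sup_left (e.pow x (v.pX hx))) (not_dvd_two hp2)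
  rcases h0 with h0 | h0
  · exact (comm_le_r h.nE).trans ((le_of_ph inf_le_left ((le_of_lg h.pE v.pX
      (by have := v.lgP; omega)).trans k)).trans inf_le_right)
  have m : ∀ A, ⁅A, E⁆ ≤ E ⊓ U → A ≤ relCentralizer E (E ⊓ U) := fun A a x hx =>
    mem_rc_of inf_le_left fun _ => comm_mem a hx
  exact (comm_le_of_rc (h.le_of_L (m _ (v.cP.trans (k.trans (sup_le (le_inf e.le h0) le_rfl))))
    (m _ c') (m _ ((comm_le_bot.2 h.cK).trans bot_le)))).trans inf_le_right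

end Par

/-- A vector fixed by a group of order prime to `p` is not a product of commutators. -/
theorem mem_of_fix (hS : IsPGroup p S) (hY : Y ≤ S) (e : ⁅S, S⁆ ≤ Y) (n1 : G ≤ 𝐍(S))
    (n2 : G ≤ 𝐍(Y)) (hK : K ≤ G) (c : ⁅K, S⁆ ≤ Y) (l : lg p G ≤ lg p K) (hx : x ∈ S)
    (h : ∀ g ∈ G, ⁅g, x⁆ ∈ Y) (k : x ∈ ⁅G, S⁆) : x ∈ Y := by
  classical
  obtain ⟨V, _, _, ⟨A⟩⟩ := exists_act (p := 0) ⟨hY, e, by simp⟩ n1 n2
  have := Fintype.ofFinite A.t.range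
  let ν : V →* V := ∏ r : A.t.range, (r : MulAut V).toMonoidHom
  have hν : ∀ v, ν v = ∏ r : A.t.range, (r : MulAut V) v := fun v => MonoidHom.finsetProd_apply _ _ _
  obtain ⟨y, hy, rfl⟩ := commutator_le.2 (fun g hg s hs => by
    refine ⟨⟨_, comm_mem_r (n1 hg) hs⟩, ?_, rfl⟩
    show ν (A.φ _) = 1
    rw [← A.π_eq, A.π_comm hg hs, map_mul, map_inv, inv_mul_eq_one, hν, hν]
    exact (Fintype.prod_equiv (Equiv.mulRight (⟨_, ⟨g, hg⟩, rfl⟩ : A.t.range)) _ _ fun _ => rfl).symm :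
    ∀ g ∈ G, ∀ s ∈ S, ⁅g, s⁆ ∈ (ν.comp A.φ).ker.map S.subtype) k
  have h1 : ν (A.π y) = 1 := A.π_eq y.2 ▸ hy
  rw [hν, Finset.prod_eq_pow_card (b := A.π y) (by
    rintro ⟨_, g, rfl⟩ -
    exact (A.comm_iff g.2 y.2).1 (h g g.2)), Finset.card_univ, ← Nat.card_eq_fintype_card,
    ← zpow_natCast, ← A.π_zpow y.2, A.π_one (zpow_mem y.2 _), zpow_natCast] at h1
  obtain ⟨n, hn⟩ := hS y
  refine mem_of_pow_coprime (n := p ^ n) ((show (y : Γ) ^ p ^ n = 1 from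
    congrArg Subtype.val hn).symm ▸ one_mem Y) h1
    (((Nat.Prime.coprime_iff_not_dvd hp.out).2 fun d => ?_).pow_left n)
  have h2 := lg_map (p := p) A.t ⊤
  have h3 : lg p (K.subgroupOf G) ≤ lg p (A.t.ker ⊓ ⊤) := lg_mono fun x hx =>
    ⟨(A.t_eq_one x.2).2 fun _ => comm_mem c hx, trivial⟩
  rw [← MonoidHom.range_eq_map, lg.eq_1 p ⊤, card_top] at h2
  rw [lg, H1.card_subgroupOf_of_le hK] at h3
  have := one_le_padicValNat_of_dvd Nat.card_pos.ne' d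
  unfold lg at *
  omega

local notation "𝓕" => groupFusionSystem S

variable (hS : IsPGroup p S) (hF : (groupFusionSystem S).IsSaturated p)
include hS hF

theorem lg_norm_top : lg p 𝐍(S) ≤ lg p (S ⊔ 𝐂(S)) := by
  simpa [inf_eq_left.2 (le_normalizer (H := S))] using lg_norm hS hF (isFullyNormalized_top _)

theorem focal_le (hK : ⁅𝐍(S), S⁆ ≤ K) (h : ∀ E, (groupFusionSystem S).IsEssential p E →
    ⁅𝐍(E) ⊓ 𝐍(S ⊓ 𝐍(E)), E⁆ ≤ K → ⁅𝐍(E), E⁆ ≤ K) : (groupFusionSystem S).focalSubgroup ≤ K := by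
  have k : ∀ {g x : Γ}, ⁅g, x⁻¹⁆ ∈ K ↔ x⁻¹ * (g * x * g⁻¹) ∈ K := fun {g x} => by
    rw [← inv_mem_iff, comm_inv, commutatorElement_def, inv_inv, mul_assoc, mul_assoc, mul_assoc]
  have k' : ∀ P σ, Iso 𝓕 P P σ → ⁅𝐍(P), P⁆ ≤ K → Map (H92.modSys 𝓕 K fun g hg x hx =>
      k.1 (comm_mem hK (le_normalizer hg) (inv_mem hx))) P σ := fun P σ hσ c =>
    H92.map_modSys.2 ⟨hσ.1, fun x hx => by
      obtain ⟨g, hg, e⟩ := norm_of_iso hσ
      exact e x hx ▸ k.1 (comm_mem c hg (inv_mem hx))⟩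
  refine focalSubgroup_le_iff.2 fun P f hf => (H92.map_modSys.1 (hf.of_sub (sub_of_essential' hS hF
    (fun σ hσ => k' S σ hσ hK) fun E hE h1 => (autGroup_le_iff hE.1.1 hE.1.1).2
      fun σ hσ => k' E σ hσ (h E hE (commutator_le.2 fun g hg x hx => ?_))))).2
  have := (H92.map_modSys.1 ((H90.mem_autGroup hE.1.1).1 (h1 (mem_extAut (α := conjAut E g hg.1)
    (lt_normalizerIn hS (lt_of_isEssential hS hF hE)) (iso_cn inf_le_left
      ((cn_eq hg.2).le.trans inf_le_left)).1 fun x => extA_conjAut _)))).2 _ (inv_mem hx)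
  rw [extA_conjAut _ (inv_mem hx)] at this
  simpa using k.2 this

end H93.R3
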