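import Mathlib
import Cfsg.Agent.Base
import Cfsg.Agent.Lib.R3.Foc

/-!
Core-free fusion systems over groups of order `p⁵`.
-/

set_option autoImplicit false

namespace H93.R3

open Subgroup H2 H90 H91 Cfsg Cfsg.FusionSystem
open scoped commutatorElement Pointwise

local notation:max "𝐍(" A ")" => Subgroup.normalizer (SetLike.coe A)
local notation:max "𝐂(" A ")" => Subgroup.centralizer (SetLike.coe A)

universe u

variable {p : ℕ} {Γ : Type u} [Group Γ] {S E G K B A T Z M N W K' B' X Y Y₁ Y₂ Y₃ R : Subgroup Γ}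
  {g x : Γ}

/-- The preimage of the centre of `S / Y`. -/
def uc (S Y : Subgroup Γ) : Subgroup Γ := S ⊓ relCentralizer S Y

/-- An invariant chief series of a group of order `p⁵`. -/
structure Ch (p : ℕ) (S Y₁ Y₂ Y₃ R : Subgroup Γ) : Prop where
  pg : IsPGroup p S
  l1 : lg p Y₁ = 1
  l2 : lg p Y₂ = 2
  l3 : lg p Y₃ = 3
  l4 : lg p R = 4
  l5 : lg p S = 5
  h1 : Y₁ ≤ Y₂
  h2 : Y₂ ≤ Y₃
  h3 : Y₃ ≤ R
  h4 : R ≤ S
  n1 : 𝐍(S) ≤ 𝐍(Y₁)
  n2 : 𝐍(S) ≤ 𝐍(Y₂)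
  n3 : 𝐍(S) ≤ 𝐍(Y₃)
  n4 : 𝐍(S) ≤ 𝐍(R)
  c : R ≤ 𝐂(Y₂)
  nc : ¬ S ≤ 𝐂(Y₂)
  na : ¬ R ≤ 𝐂(R)
  c3 : ⁅R, Y₃⁆ ≤ Y₁

theorem uc_le : uc S Y ≤ S := inf_le_left
theorem comm_uc : ⁅S, uc S Y⁆ ≤ Y := comm_le_symm (comm_le_of_rc inf_le_right)
theorem le_uc (h : X ≤ S) (n : S ≤ 𝐍(Y)) (c : ⁅S, X⁆ ≤ Y) : X ≤ uc S Y :=
  le_inf h (le_rc (h.trans n) (comm_le_symm c))

variable [Finite Γ] [hp : Fact p.Prime]

omit hp in
theorem norm_uc (h : A ≤ 𝐍(S)) (n : A ≤ 𝐍(Y)) : A ≤ 𝐍(uc S Y) := norm_inf h (norm_rc h n)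

theorem not_le_of_lg (h : lg p Y < lg p X) : ¬ X ≤ Y := fun e => (lg_mono e).not_gt h

theorem Ch.ev (h : Ch p S Y₁ Y₂ Y₃ R) (hg : g ∈ 𝐍(S)) : ∃ c a z y w : ℤ, Ev g S R c ∧ Ev g R Y₃ a ∧
    Ev g Y₃ Y₂ z ∧ Ev g Y₂ Y₁ y ∧ Ev g Y₁ ⊥ w ∧ c * y ≡ w [ZMOD p] ∧ a * z ≡ w [ZMOD p] ∧
    ¬ (p : ℤ) ∣ c ∧ ¬ (p : ℤ) ∣ a ∧ ¬ (p : ℤ) ∣ z := by
  have := h.l1; have := h.l2; have := h.l3; have := h.l4; have := h.l5
  have s3 := h.h3.trans h.h4
  have s2 := h.h2.trans s3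
  have s1 := h.h1.trans s2
  have p4 := h.pg.to_le h.h4
  have p3 := h.pg.to_le s3
  have p2 := h.pg.to_le s2
  have b : lg p Y₁ ≤ lg p (⊥ : Subgroup Γ) + 1 := by rw [lg_bot]; omega
  obtain ⟨c, e5⟩ := ev_of_lg h.pg h.h4 (by omega) hg (h.n4 hg)
  obtain ⟨a, e4⟩ := ev_of_lg p4 h.h3 (by omega) (h.n4 hg) (h.n3 hg)
  obtain ⟨z, e3⟩ := ev_of_lg p3 h.h2 (by omega) (h.n3 hg) (h.n2 hg)
  obtain ⟨y, e2⟩ := ev_of_lg p2 h.h1 (by omega) (h.n2 hg) (h.n1 hg)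
  obtain ⟨w, e1⟩ := ev_of_lg (h.pg.to_le s1) bot_le b (h.n1 hg) (norm_bot _ (mem_top g))
  have c1 := cent_of_lg h.pg s1 h.l1.le (le_normalizer.trans h.n1)
  have q3 := (eq_of_index p3 h.h2 (by omega)).pow
  refine ⟨c, a, z, y, w, e5, e4, e3, e2, e1, (Int.modEq_iff_dvd.2 (by_contra fun e => h.nc
    (comm_le_bot.1 (comm_ev (norm_bot _) (norm_bot _) (comm_le_of_lg h.pg s2 h.h1 (by omega)
      (le_normalizer.trans h.n2) (le_normalizer.trans h.n1)) (comm_le_bot.2 c1)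
      (comm_le_bot.2 (s2.trans c1)) (comm_le_bot.2 h.c) (comm_le_bot.2 c1) h.h4 h.h1
      (eq_of_index p2 h.h1 (by omega)).pow e5 e2 e1 e)))).symm,
    (Int.modEq_iff_dvd.2 (by_contra fun e => h.na (comm_of_lg p4 h.h3 (by omega) (comm_le_bot.1
      (comm_ev (norm_bot _) (norm_bot _) h.c3 (comm_le_bot.2 (h.h4.trans c1))
        (comm_le_bot.2 (s3.trans c1)) (comm_le_bot.2 (comm_of_lg p3 h.h2 (by omega) (h.h3.trans h.c)))
        (comm_le_bot.2 h.c) h.h3 h.h2 q3 e4 e3 e1 e))))).symm,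
    e5.not_dvd (h.n4 hg) (eq_of_index h.pg h.h4 (by omega)).pow (not_le_of_lg (p := p) (by omega)),
    e4.not_dvd (h.n3 hg) (eq_of_index p4 h.h3 (by omega)).pow (not_le_of_lg (p := p) (by omega)),
    e3.not_dvd (h.n2 hg) q3 (not_le_of_lg (p := p) (by omega))⟩

omit [Finite Γ] in
theorem cancel {a b c : ℤ} (h : a * b ≡ a * c [ZMOD p]) (ha : ¬ (p : ℤ) ∣ a) : (p : ℤ) ∣ b - c :=
  ((Nat.prime_iff_prime_int.1 hp.out).dvd_or_dvd (mul_sub a b c ▸ h.symm.dvd)).resolve_left ha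

theorem lg_uc (hS : IsPGroup p S) (hx : x ∈ S) (e : lg p (S ⊓ cz x ⊥) ≤ 2) (hY : Y ≤ S)
    (n : S ≤ 𝐍(Y)) (l : lg p Y + 2 < lg p S) : lg p (uc S Y) = lg p Y + 1 := by
  have k : ∀ X ≤ S, (∀ s ∈ X, ⁅s, x⁆ ∈ Y) → lg p X ≤ lg p Y + 2 := fun X h1 h2 => by
    have := lg_cz (hS.to_le h1) (hS.to_le hY) bot_le (norm_bot _) h2
    have := lg_mono (p := p) (inf_le_inf_right (cz x ⊥) h1)
    omega
  have := k (S ⊓ cz x Y) inf_le_left fun s hs => (mem_cz.1 hs.2).2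
  have := lg_lt_of_mem (hS.to_le inf_le_left) (show uc S Y ≤ S ⊓ cz x Y from fun s hs =>
    ⟨hs.1, mem_cz.2 ⟨n hs.1, (mem_rc.1 hs.2).2 x hx⟩⟩) ⟨hx, mem_cz.2 ⟨n hx, by simp⟩⟩
    fun h => (k S le_rfl fun s hs => comm_mem comm_uc hs h).not_gt l
  exact le_antisymm (by omega) (lg_step hS le_rfl le_normalizer n hY (by omega))

theorem lg_uc2 (hS : IsPGroup p S) (hx : x ∈ S) (e : lg p (S ⊓ cz x ⊥) ≤ 2) (l : 4 ≤ lg p S) :
    lg p (uc S ⊥) = 1 ∧ lg p (uc S (uc S ⊥)) = 2 ∧ lg p (S ⊓ 𝐂(uc S (uc S ⊥))) + 1 = lg p S := by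
  have n := norm_uc (le_normalizer (H := S)) (norm_bot _)
  have l1 := lg_uc hS hx e bot_le (norm_bot _) (by rw [lg_bot]; omega)
  rw [lg_bot] at l1
  have l2 := lg_uc hS hx e uc_le n (by omega)
  have l3 := lg_rc hS uc_le (norm_uc le_normalizer n) (norm_bot _) bot_le
    (by rw [lg_bot]; omega)
  rw [rc_bot] at l3
  exact ⟨l1, by omega, le_antisymm (lg_inf_lt' hS fun e => not_le_of_lg (p := p) (by omega)
    (le_uc uc_le (norm_bot _) (comm_le_bot.2 e))) l3⟩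

/-- Groups of maximal class. -/
theorem mc (hS : IsPGroup p S) (l : lg p S = 5) (na : ∀ X ≤ S, X ≤ 𝐂(X) → lg p X < 4) (hx : x ∈ S)
    (e : lg p (S ⊓ cz x ⊥) ≤ 2) : ∃ Y R, Y ≤ S ∧ R ≤ S ∧ ¬ R ≤ Y ∧ ⁅S, S⁆ ≤ Y ∧ 𝐍(S) ≤ 𝐍(Y) ∧
      (∀ x ∈ R, x ^ p ∈ Y) ∧ ∀ g ∈ 𝐍(S), ∃ c : ℤ, ¬ (p : ℤ) ∣ c ∧ Ev g R Y (c ^ 2) ∧
        Ev g (uc S (uc S ⊥)) (uc S ⊥) (c ^ 4) ∧ Ev g (uc S ⊥) ⊥ (c ^ 5) := by
  obtain ⟨l1, l2, l4⟩ := lg_uc2 hS hx e (by omega)
  have n1 := norm_uc (le_refl 𝐍(S)) (norm_bot _)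
  have n2 := norm_uc le_rfl n1
  have n3 := norm_uc le_rfl n2
  have n4 := norm_inf le_rfl (norm_cent n2)
  have l3 := lg_uc hS hx e uc_le (le_normalizer.trans n2) (by omega)
  have c1 : ⁅S, uc S ⊥⁆ ≤ ⊥ := comm_uc
  have c2 : ⁅S, uc S (uc S ⊥)⁆ ≤ _ := comm_uc
  have c3 : ⁅S, uc S (uc S (uc S ⊥))⁆ ≤ _ := comm_uc
  have u2 := fun X h => le_uc (X := X) h (le_normalizer.trans n1)
  have u3 := fun X h => le_uc (X := X) h (le_normalizer.trans n2)
  have s1 : uc S ⊥ ≤ S := inf_le_left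
  have s2 : uc S (uc S ⊥) ≤ S := inf_le_left
  have s3 : uc S (uc S (uc S ⊥)) ≤ S := inf_le_left
  generalize uc S (uc S (uc S ⊥)) = Y₃ at *
  generalize uc S (uc S ⊥) = Y₂ at *
  generalize uc S ⊥ = Y₁ at *
  have n1' := le_normalizer.trans n1
  have n2' := le_normalizer.trans n2
  have n3' := le_normalizer.trans n3
  have h1 := u2 _ s1 (c1.trans bot_le)
  have h2 := u3 _ s2 (c2.trans h1)
  obtain ⟨Q, q1, q2, q3, q4⟩ := exists_chain hS le_rfl le_normalizer n3' s3 1 (by omega)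
  have d := comm_of_cyc hS q2 (by omega) n3' (comm_le_of_lg hS q2 q1 q3.le q4 n3')
  have d' : Y₃ ≤ ⁅S, S⁆ := le_of_lg (hS.to_le s3) d (by
    have := lg_cz hS (hS.to_le (d.trans s3)) bot_le (norm_bot _)
      fun s hs => commutator_mem_commutator hs hx
    rw [lg_bot] at this
    omega)
  have s4 : S ⊓ 𝐂(Y₂) ≤ S := inf_le_left
  have c4 : S ⊓ 𝐂(Y₂) ≤ 𝐂(Y₂) := inf_le_right
  have m : ∀ X ≤ S, X ≤ 𝐂(Y₂) → X ≤ S ⊓ 𝐂(Y₂) := fun _ => le_inf
  generalize S ⊓ 𝐂(Y₂) = R at *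
  have h3 := d'.trans (eq_of_index hS s4 (by omega)).comm
  have a3 := comm_of_lg (hS.to_le s3) h2 (by omega) (h3.trans c4)
  have l5 := lg_rc hS s3 n3' n1' (h1.trans h2) (by omega)
  have c5 : ⁅R, Y₃⁆ ≤ Y₁ := by_contra fun k => k ((commutator_mono (le_of_lg (hS.to_le s4)
    (m _ inf_le_left (cent_symm ((le_sup_of_lg (hS.to_le s2) h1 (by omega)
      ((commutator_mono s4 le_rfl).trans c3) k).trans (sup_le (cent_symm (inf_le_left.trans
        (comm_le_bot.1 c1))) (comm_le_bot.1 (three_subgroups_le (norm_bot _) (norm_bot _) (norm_bot _)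
          ((commutator_mono (comm_le_symm (comm_le_of_rc inf_le_right)) s4).trans (comm_le_symm c1))
          (comm_le_bot.2 (((commutator_mono inf_le_left s4).trans d).trans a3)))))))) (by omega))
    le_rfl).trans (comm_le_of_rc inf_le_right))
  have h : Ch p S Y₁ Y₂ Y₃ R := ⟨hS, l1, l2, by omega, by omega, l, h1, h2, h3, s4, n1, n2, n3, n4,
    c4, fun e => not_le_of_lg (p := p) (by omega) (m _ le_rfl e), fun e => by
      have := na R s4 e; omega, c5⟩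
  have q4 := (eq_of_index (hS.to_le s4) h3 (by omega)).pow
  refine ⟨Y₃, R, s3, s4, not_le_of_lg (p := p) (by omega), d, n3, q4, fun g hg => ?_⟩
  obtain ⟨c, a, z, y, w, e5, e4, e3, e2, e1, k1, k2, k3, -, k4⟩ := h.ev hg
  have k5 : c * a ≡ z [ZMOD p] := (Int.modEq_iff_dvd.2 (by_contra fun e => not_le_of_lg (p := p)
    (by omega) (u3 _ s4 (comm_ev n2' (s4.trans n2') ((commutator_mono le_rfl s4).trans d) c3
      (c5.trans h1) ((comm_of_cyc (hS.to_le s4) h3 (by omega) (s4.trans n1') c5).trans h1) c3 s4 h3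
      q4 e5 e4 e3 e)))).symm
  have k6 : c * z ≡ y [ZMOD p] := (Int.modEq_iff_dvd.2 (by_contra fun e => not_le_of_lg (p := p)
    (by omega) (u2 _ s3 (comm_ev n1' (s3.trans n1') c3 c2 ((commutator_mono s3 le_rfl).trans c2) c5
      c2 s4 h2 (eq_of_index (hS.to_le s3) h2 (by omega)).pow e5 e3 e2 e)))).symm
  have k7 : a ≡ c ^ 2 [ZMOD p] := (Int.modEq_iff_dvd.2 (cancel (a := z) (by
    rw [mul_comm z a, show z * c ^ 2 = c * (c * z) by ring]
    exact k2.trans (k1.symm.trans (k6.symm.mul_left c))) k4)).symm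
  have k8 : y ≡ c ^ 4 [ZMOD p] := k6.symm.trans (by
    rw [show c ^ 4 = c * (c * c ^ 2) by ring]
    exact (k5.symm.trans (k7.mul_left c)).mul_left c)
  exact ⟨c, k3, e4.congr q4 k7.symm.dvd, e2.congr (eq_of_index (hS.to_le s2) h1 (by omega)).pow
    k8.symm.dvd, e1.congr (eq_of_index (hS.to_le s1) bot_le (by rw [lg_bot]; omega)).pow
      ((k1.symm.trans (k8.mul_left c)).trans (by rw [pow_succ' c 4])).symm.dvd⟩

/-- Groups of class three with centre of order `p`. -/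
theorem n3 (hS : IsPGroup p S) (l : lg p S = 5) (na : ∀ X ≤ S, X ≤ 𝐂(X) → lg p X < 4)
    (l1 : lg p (uc S ⊥) = 1) (l3 : lg p (uc S (uc S ⊥)) = 3) : ∃ Y R, Y ≤ S ∧ R ≤ S ∧ ¬ R ≤ Y ∧
      ⁅S, S⁆ ≤ Y ∧ 𝐍(S) ≤ 𝐍(Y) ∧ (∀ x ∈ R, x ^ p ∈ Y) ∧
      ∀ g ∈ 𝐍(S), ∃ c : ℤ, ¬ (p : ℤ) ∣ c ∧ Ev g R Y (c ^ 2) := by
  have n1 := norm_uc (le_refl 𝐍(S)) (norm_bot _)
  have n3 := norm_uc le_rfl n1
  have c1 : ⁅S, uc S ⊥⁆ ≤ ⊥ := comm_uc
  have c3 : ⁅S, uc S (uc S ⊥)⁆ ≤ _ := comm_uc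
  have u1 := fun X h => le_uc (S := S) (X := X) h (norm_bot _)
  have u3 := fun X h => le_uc (X := X) h (le_normalizer.trans n1)
  have s1 : uc S ⊥ ≤ S := inf_le_left
  have s3 : uc S (uc S ⊥) ≤ S := inf_le_left
  generalize uc S (uc S ⊥) = Y₃ at *
  generalize uc S ⊥ = Y₁ at *
  have n1' := le_normalizer.trans n1
  have n3' := le_normalizer.trans n3
  obtain ⟨Q, q1, q2, q3, q4⟩ := exists_chain hS le_rfl le_normalizer n3' s3 1 (by omega)
  have d := comm_of_cyc hS q2 (by omega) n3' (comm_le_of_lg hS q2 q1 q3.le q4 n3')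
  have q := (eq_of_index (hS.to_le s1) bot_le (by rw [lg_bot]; omega)).pow
  have l2 := comm_cyc hS s3 (by omega) n1' (comm_le_symm c3) (comm_le_symm
    ((commutator_mono le_rfl d).trans c3)) fun x hx => zpowers_le.1 (u1 _ (zpowers_le.2
      (pow_mem (s3 (d hx)) p)) (comm_le_bot.2 (cent_zpowers.2 (mem_cent' fun s hs => by
        have k := comm_mem c3 hs (d hx)
        have k' : ∀ t ∈ S, Commute t ⁅s, x⁆ := fun t ht =>
          commutatorElement_eq_one_iff_commute.1 (comm_mem c1 ht k)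
        simpa [mem_bot.1 (q _ k)] using comm_bil (x' := 1) (y' := 1) (k' s hs) (k' x (s3 (d hx)))
          (.one_left _) (.one_left _) (.one_right _) (.one_left _) (.one_left _) 1 p))))
  have h1 : Y₁ ≤ ⁅S, S⁆ ⊔ Y₁ := le_sup_right
  have h0 : ⁅S, S⁆ ≤ ⁅S, S⁆ ⊔ Y₁ := le_sup_left
  have h2 := sup_le d (u3 _ s1 (c1.trans bot_le))
  have n2 := norm_sup (norm_comm le_rfl le_rfl) n1
  have c2 : Y₃ ≤ 𝐂(⁅S, S⁆ ⊔ Y₁) := cent_sup (cent_symm (comm_le_bot.1 (three_subgroups_le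
    (norm_bot _) (norm_bot _) (norm_bot _) ((commutator_mono c3 le_rfl).trans (comm_le_symm c1))
    ((commutator_mono (comm_le_symm c3) le_rfl).trans (comm_le_symm c1)))))
    (s3.trans (comm_le_bot.1 c1))
  generalize ⁅S, S⁆ ⊔ Y₁ = Y₂ at *
  have s2 := h2.trans s3
  have nd : ¬ Y₂ ≤ Y₁ := fun e => not_le_of_lg (p := p) (by omega) (u3 _ le_rfl (h0.trans e))
  have l2' := lg_lt (hS.to_le s2) h1 nd
  have nc : ¬ S ≤ 𝐂(Y₂) := fun e => nd (u1 _ s2 (comm_le_bot.2 e))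
  have l4 := lg_rc hS s2 (le_normalizer.trans n2) (norm_bot _) bot_le (by rw [lg_bot]; omega)
  rw [rc_bot] at l4
  have l4' := lg_inf_lt' hS nc
  have h3 := le_inf s3 c2
  have s4 : S ⊓ 𝐂(Y₂) ≤ S := inf_le_left
  have c5 := (commutator_mono s4 le_rfl).trans c3
  have h : Ch p S Y₁ Y₂ Y₃ _ := ⟨hS, l1, by omega, l3, by omega, l, h1, h2, h3, s4, n1, n2, n3,
    norm_inf le_rfl (norm_cent n2), inf_le_right, nc, fun e => by have := na _ s4 e; omega, c5⟩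
  have q3 := (eq_of_index (hS.to_le s3) h2 (by omega)).pow
  refine ⟨Y₂, Y₃, s2, s3, not_le_of_lg (p := p) (by omega), h0, n2, q3, fun g hg => ?_⟩
  obtain ⟨c, a, z, y, w, e5, e4, e3, e2, e1, k1, k2, k3, k4, -⟩ := h.ev hg
  have c6 := (commutator_mono le_rfl h2).trans c3
  have k5 : c * a ≡ y [ZMOD p] := (Int.modEq_iff_dvd.2 (by_contra fun e => not_le_of_lg (p := p)
    (by omega) (u3 _ s4 (comm_ev n1' (s4.trans n1') ((commutator_mono le_rfl s4).trans h0) c6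
      ((commutator_mono s4 le_rfl).trans c6) (comm_of_cyc (hS.to_le s4) h3 (by omega)
        (s4.trans n1') c5) c3 s4 h3 (eq_of_index (hS.to_le s4) h3 (by omega)).pow e5 e4 e2 e)))).symm
  exact ⟨c, k3, e3.congr q3 (cancel (a := a) (by
    rw [show a * c ^ 2 = c * (c * a) by ring]
    exact k2.trans (k1.symm.trans (k5.symm.mul_left c))) k4)⟩

local notation "𝓕" => groupFusionSystem S

variable (hS : IsPGroup p S) (hF : (groupFusionSystem S).IsSaturated p) (hp2 : Odd p)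
  (l : lg p S = 5) (na : ∀ X ≤ S, X ≤ 𝐂(X) → lg p X < 4)
include hS hF l na

theorem ess_rank (hE : (groupFusionSystem S).IsEssential p E) : lg p E ≤ lg p (ph E) + 3 := by
  have := ess_lt hS hF hE
  have := lg_mono (p := p) (inf_le_left (a := S) (b := 𝐍(E)))
  by_contra h
  have pE := hS.to_le hE.1.1
  have := na E hE.1.1 (ea_of_ph pE (eq_bot_of_lg (pE.to_le ph_le_self) (by omega))).comm
  omega

theorem sr_five (hO : (groupFusionSystem S).core = ⊥) : SR p 3 S := fun X Y hX e => by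
  by_contra h
  have l1 := lg_mono (p := p) hX
  have l2 : lg p Y ≠ 0 := fun k => by
    obtain rfl := eq_bot_of_lg (hS.to_le (e.le.trans hX)) k
    have := na X hX e.ea.comm
    omega
  obtain rfl := eq_of_lg hS hX (by omega)
  have c := cent_of_lg hS e.le (by omega) (e.norm le_rfl e.le)
  rw [eq_bot_of_norm hS hF hO le_rfl le_rfl fun E hE => False.elim ?_, lg_bot] at l
  · omega
  obtain ⟨a, t⟩ := ess_normal hS hF hE (ess_rank hS hF l na hE) (e.norm ((le_inf e.le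
    (cent_symm (hE.1.1.trans c))).trans (ess_cent hE)) hE.1.1)
  have d := (commutator_mono a.le a.le).trans e.comm
  have d' := le_of_lg (hS.to_le e.le) d (by
    have := lg_pos (hS.to_le (d.trans e.le)) fun k => by
      have := na E a.le (comm_le_bot.1 k.le); have := a.idx; omega
    omega)
  have n := norm_comm a.nE a.nE
  have x := comm_le_r (le_normalizer (H := E))
  exact t (a.cent x (a.cL' le_rfl a.nE n (((commutator_mono le_rfl a.le).trans e.comm).trans d'))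
    (a.cL0' x n (c.trans (cent_anti d))))

include hp2

theorem foc_five (hs : SR p 3 S) : (groupFusionSystem S).focalSubgroup ≤ ⁅𝐍(S), S⁆ := by
  refine focal_le hS hF le_rfl fun E hE c => ?_
  have r := ess_rank hS hF l na hE
  have a := ess_par hS hF hE r
  have t := a.not_cent (ess_ne hS hF hE)
  by_cases r' : lg p E ≤ lg p (ph E) + 2
  · exact a.foc hp2 t (a.lg_two ph_le_self (norm_ph a.nE) r') (.inl r') c
  have i := a.idx
  have l1 := lg_mono (p := p) (inf_le_left (a := S) (b := 𝐍(E)))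
  by_cases l2 : lg p E = 4
  · have k : ¬ E ≤ 𝐂(E) := fun e => (na E hE.1.1 e).ne l2
    have d := (eq_ph a.pE).comm
    exact a.foc hp2 t (a.quad hp2 l2 (by omega) k t) (.inr ((le_of_lg (a.pE.to_le ph_le_self) d (by
      have := lg_pos (a.pE.to_le (d.trans ph_le_self)) fun e => k (comm_le_bot.1 e.le)
      omega)).trans ((commutator_mono (a.le.trans a.sB) le_rfl).trans c))) c
  have e := eq_bot_of_lg (a.pE.to_le ph_le_self) (by omega)
  obtain ⟨T, Z, h⟩ := NC.exists_nd ⟨a, hs.mono inf_le_left, t, le_rfl, inf_le_right, fun k =>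
    not_le_of_lg (p := p) (by omega) (le_inf le_rfl ((norm_of_lg hS inf_le_left (by omega)).trans k))⟩
  refine a.foc hp2 t ?_ (.inr (e.le.trans bot_le)) c
  have := h.lgZ
  have : lg p Z ≤ _ := lg_mono (le_inf h.zE (cent_symm (?_ : S ⊓ 𝐍(E) ≤ 𝐂(Z))))
  · rw [e, rc_bot]; omega
  by_cases k : lg p T = 0
  · exact comm_le_bot.1 (eq_bot_of_lg (a.pE.to_le h.eq.le) k ▸ h.cZ)
  obtain ⟨F, P, v⟩ := h.tv
  exact (le_sup_of_lg a.pg a.le i.ge inf_le_left (h.not_le hp2 (by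
    have := v.lgP; have := lg_mono (p := p) v.pX; omega))).trans
      (sup_le ((ea_of_ph a.pE e).comm.trans (cent_anti h.zE)) inf_le_right)

omit l na hp2 in
theorem not_foc (h3 : p = 3) (hY : Y ≤ S) (hR : R ≤ S) (h : ¬ R ≤ Y) (c : ⁅S, S⁆ ≤ Y)
    (n : 𝐍(S) ≤ 𝐍(Y)) (q : ∀ x ∈ R, x ^ p ∈ Y)
    (e : ∀ g ∈ 𝐍(S), ∃ c : ℤ, ¬ (p : ℤ) ∣ c ∧ Ev g R Y (c ^ 2)) : ¬ S ≤ ⁅𝐍(S), S⁆ := fun k =>
  h fun x hx => mem_of_fix hS hY c le_rfl n (sup_le le_normalizer (cent_le_norm S)) (comm_le_of_rc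
    (sup_le (le_rc (le_normalizer.trans n) c) (le_rc ((cent_le_norm S).trans n)
      ((comm_le_bot.2 le_rfl).trans bot_le)))) (lg_norm_top hS hF) (hR hx) (fun g hg => by
    obtain ⟨c, h1, h2⟩ := e g hg
    simpa [commutatorElement_def] using h2.congr (b := 1) q (by
      subst h3
      obtain ⟨k, rfl | rfl⟩ : ∃ k, c = 3 * k + 1 ∨ c = 3 * k + 2 := ⟨c / 3, by omega⟩
      exacts [⟨3 * k ^ 2 + 2 * k, by push_cast; ring⟩, ⟨3 * k ^ 2 + 4 * k + 1, by push_cast; ring⟩])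
      x hx) (k (hR hx))

omit l na hp2 in
theorem norm_le_of_mc (hM : M ≤ S) (c : S ⊓ 𝐂(M) ≤ M) (l : lg p M = 4) (l' : lg p S = 5)
    (hx : x ∈ M) (e : lg p (M ⊓ cz x ⊥) ≤ 2) : 𝐍(M) ≤ 𝐍(M) ⊓ 𝐍(S) ⊔ 𝐂(M) := by
  have n := norm_of_lg hS hM (by omega)
  have a := par_of hS hF (isFullyNormalized_of_le_normalizer hM n) c (by rw [inf_eq_left.2 n]; omega)
  rw [inf_eq_left.2 n] at a
  obtain ⟨l1, l2, l3⟩ := lg_uc2 a.pE hx e l.ge
  have n1 := norm_uc a.nE (norm_bot _)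
  have n2 := norm_uc a.nE n1
  have h1 := le_uc uc_le (a.eG.trans n1) (comm_uc.trans bot_le)
  have h2 := le_inf uc_le (comm_of_lg (a.pE.to_le uc_le) h1 (by omega)
    (uc_le.trans (comm_le_bot.1 comm_uc)))
  have n3 := norm_inf a.nE (norm_cent n2)
  exact a.le_of_L ((comm_le_bot.1 (a.trans inf_le_left (norm_bot _) (a.cL1 le_rfl a.nE n3 inf_le_left
    (by omega)) (a.trans uc_le (norm_bot _) (a.cL1 inf_le_left n3 n2 h2 (by omega)) (a.trans uc_le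
      (norm_bot _) (a.cL1 uc_le n2 n1 h1 (by omega)) (a.cL1 uc_le n1 (norm_bot _) bot_le
        (by omega)))))).trans le_sup_right) le_sup_left le_sup_right

theorem five (h7 : p ≠ 7) (hO : (groupFusionSystem S).core = ⊥)
    (hf : S ≤ (groupFusionSystem S).focalSubgroup) : False := by
  have hs := sr_five hS hF l na hO
  replace hf := hf.trans (foc_five hS hF hp2 l na hs)
  obtain ⟨E, hE, hn⟩ : ∃ E, (groupFusionSystem S).IsEssential p E ∧ ¬ S ≤ 𝐍(E) := by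
    by_contra! hn
    obtain ⟨-, E, hE, k⟩ := all_normal hS hF hp2 hO (fun e => by omega) hs
      (fun e => by rw [e, lg_bot] at l; omega) hn
    have := (ess_normal hS hF hE (ess_rank hS hF l na hE) (hn E hE)).1.idx
    have := k.lg
    omega
  obtain ⟨g, N, G, K, B, A, T, Z, M, W, K', B', h, eM, rfl, -, rfl, rfl⟩ :=
    ess_nonnormal hS hF hE (hs.mono inf_le_left) hn
  have mS : M ≤ S := eM.le.trans inf_le_left
  have nS := h.b.le.trans mS
  have c : S ⊓ 𝐂(cn g E) ≤ cn g E :=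
    isCentric_self_le ((iso_cn hE.1.1 (h.a.le.trans nS)).isCentric hE.1)
  generalize cn g E = D at *
  obtain ⟨F, P, v⟩ := h.tv
  have := v.lgP; have := lg_mono (p := p) v.pX; have := h.a.idx; have := h.b.idx; have := h.lgZ
  have := h.lgW; have := lg_mono (p := p) mS
  have h5 : p = 3 ∨ 5 ≤ p := by
    have := hp.out.two_le
    have := hp2.not_two_dvd_nat
    omega
  have zc := cent_symm (comm_le_bot.1 (comm_uc (S := S)))
  have zS := h.eqZ.le.trans nS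
  have z := (le_inf ((le_inf uc_le (zc.trans (cent_anti (h.a.le.trans nS)))).trans c) (le_rc
    (norm_of_cent zc (h.tZ.trans zS)) ((comm_le_bot.2 (zc.trans (cent_anti nS))).trans
      bot_le))).trans h.eZ.le
  have z1 : lg p ⊥ + 1 ≤ lg p (uc S ⊥) :=
    lg_step hS le_rfl le_normalizer (norm_bot _) bot_le (by rw [lg_bot]; omega)
  rw [lg_bot] at z1
  have nM := h.b.sG
  by_cases l2 : lg p D = lg p T + 2
  · have := na _ (inf_le_left.trans mS) (h.comm_rc hp2 l2)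
    have := h.lg_rc l2
    obtain rfl := eq_bot_of_lg (h.a.pE.to_le h.eq.le) (by omega)
    rw [lg_bot] at *
    have z2 := eq_of_lg (hS.to_le zS) z (by omega)
    obtain ⟨x, hx, hx'⟩ := SetLike.not_le_iff_exists.1 (not_le_of_lg (p := p) (X := D) (Y := Z) (by omega))
    have xM := h.b.le (h.a.le hx)
    have e := (lg_mono (p := p) ((le_inf inf_le_left (cent_symm (le_of_mem h.a.pE h.zE (by omega) hx
      hx' (z2.ge.trans (zc.trans (cent_anti (inf_le_left (b := cz x ⊥)))))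
      (mem_cent' fun y hy => (mem_cz.1 hy.2).2)))).trans c)).trans l2.le
    obtain ⟨Y, R, k1, k2, k3, k4, k5, k6, k7⟩ := mc hS l na (mS xM) e
    rcases h5 with h5 | h5
    · exact not_foc hS hF h5 k1 k2 k3 k4 k5 k6 (fun g hg => (k7 g hg).imp fun _ k => ⟨k.1, k.2.1⟩) hf
    obtain ⟨k, hk⟩ := id hp2
    obtain ⟨b, hb, -, -, e2, -, e1⟩ := h.ext (m := 2) (n := k + 1) (Int.modEq_iff_dvd.2 ⟨-1, by
      rw [hk]; push_cast; ring⟩)
    rw [h.y_eq (by rw [lg_bot]; omega)] at e1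
    have e' := (lg_mono (inf_le_inf_right _ mS)).trans e
    obtain ⟨a, ha, u, hu, rfl⟩ := (mem_sup_iff' (inf_le_left.trans (norm_cent le_rfl))).1
      (norm_le_of_mc hS hF mS ((inf_le_inf_left _ (cent_anti (h.a.le.trans h.b.le))).trans
        (c.trans (h.a.le.trans h.b.le))) (by omega) l xM e' hb.2)
    obtain ⟨m1, m2, -⟩ := lg_uc2 h.b.pg xM e' (by omega)
    obtain ⟨-, m3, -⟩ := lg_uc2 hS (mS xM) e (by omega)
    have zM := h.eqZ.le.trans h.b.le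
    have wM := h.wN.trans h.b.le
    rw [← eq_of_lg (h.b.pg.to_le uc_le) (le_uc zM (norm_bot _) (comm_le_bot.2 (mS.trans
      (cent_symm (z2.ge.trans zc))))) (by omega)] at m2
    obtain ⟨c, -, -, q2, q1⟩ := k7 a ha.2
    rw [z2] at m3 q2 q1
    rw [eq_of_lg (h.b.pg.to_le uc_le) (le_uc (S := M) (eM ▸ le_inf uc_le (norm_of_comm_le
      ((comm_le_symm ((commutator_mono nS le_rfl).trans comm_uc)).trans h.eqZ.le)))
      (nM.trans h.nZ) ((commutator_mono mS le_rfl).trans comm_uc)) (by omega),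
      ← eq_of_lg (h.b.pg.to_le uc_le) (le_uc wM (nM.trans h.nZ) h.cW) (by omega)] at q2
    have d2 := q2.dvd (e2.mul_cent (cent_anti wM hu)) (fun y hy => h.eqZ.pow y (h.wN hy))
      (not_le_of_lg (p := p) (by omega))
    have d1 := q1.dvd (e1.mul_cent (cent_anti zM hu)) (fun y hy => h.eq.pow y (h.zE hy))
      (not_le_of_lg (p := p) (by rw [lg_bot]; omega))
    have d := (((d2.mul_left c).sub d1).mul_right (64 * c ^ 3 + 32 * c ^ 2 + 16 * c + 8)).add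
      (d2.mul_left 256)
    rw [show (c * (c ^ 4 - 2 * 2) - (c ^ 5 - 2)) * (64 * c ^ 3 + 32 * c ^ 2 + 16 * c + 8) +
      256 * (c ^ 4 - 2 * 2) = -(36 * 4 * 7) by ring, dvd_neg] at d
    have pp := Nat.prime_iff_prime_int.1 hp.out
    rcases pp.dvd_or_dvd d with d | d
    · exact (pp.dvd_or_dvd d).elim (not_dvd_six h5 (by norm_num)) (not_dvd_six h5 (by norm_num))
    exact h7 ((Nat.prime_dvd_prime_iff_eq hp.out (by norm_num)).1 (by exact_mod_cast d))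
  replace h5 := h5.resolve_right fun e => l2 (h.two e)
  obtain rfl := eq_of_lg hS mS (by omega)
  obtain rfl := eq_bot_of_lg (h.a.pE.to_le h.eq.le) (by omega)
  have z2 := lg_lt (hS.to_le zS) z fun e => l2 (h.toNd.two hp2 (sup_le nM h.b.kG) h.b.lg_le
    (comm_le_of_rc (sup_le (le_rc (norm_bot _) ((commutator_mono le_rfl e).trans comm_uc))
      (h.b.k_le_rc h.eqZ.le h.nT))))
  have nY := nM.trans h.nY
  have yS := h.yZ.trans zS
  have lY := v.lgZ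
  rw [lg_bot] at *
  obtain ⟨b, -, -, e1, e2, e3, -⟩ := h.ext (m := -1) (n := -1) (by simp)
  have cZ := comm_le_of_lg hS zS h.yZ (by omega) (nM.trans h.nZ) nY
  have wM := h.wN.trans nS
  have w := lg_mono (p := p) (le_uc wM (norm_uc le_normalizer (norm_bot _)) ((comm_ev nY (wM.trans nY)
    h.cW cZ ((commutator_mono wM le_rfl).trans cZ) ((commutator_mono le_rfl h.wN).trans
      (comm_of_cyc h.a.pg h.a.le (by omega) (nS.trans nY) le_sup_left)) cZ nS h.zW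
    (fun y hy => h.eqZ.pow y (h.wN hy)) e1 e2 e3 fun e => not_dvd_two hp2
      (by simpa using e.neg_right)).trans (le_uc yS (norm_bot _) (comm_le_bot.2
        (cent_of_lg hS yS lY.le nY)))))
  obtain ⟨Y, R, k1, k2, k3, k4, k5, k6, k7⟩ := n3 hS l na (by omega) (le_antisymm (by_contra fun e =>
    h.nM (norm_between (comm_of_cyc hS uc_le (by omega) (norm_uc le_normalizer (norm_bot _)) comm_uc)
      (z.trans h.zE) (h.a.le.trans nS))) (by omega))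
  exact not_foc hS hF h5 k1 k2 k3 k4 k5 k6 k7 hf

omit hS hF l na hp2 in
theorem r3five_eq_defs : True := by
  have := @uc.eq_1.{0}
  trivial

end H93.R3
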